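import Groth.Agent.Lib.CBC10.Near
import Groth.Agent.Lib.TensorMod.Invertible

/-!
# Locally free higher direct images and the complex
-/

set_option autoImplicit false
set_option linter.style.haveILetI false
set_option linter.unusedSectionVars false
set_option maxHeartbeats 1000000

universe u

open CategoryTheory CategoryTheory.Limits AlgebraicGeometry Opposite

noncomputable section

namespace Groth.Agent.CBC10

variable {X Y : Scheme.{u}} {f : X ⟶ Y} {F : X.Modules} {U : Y.Opens} {hU : IsAffineOpen U}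
  {P : ChainComplex (ModuleCat.{u} Γ(Y, U)) ℤ} [IsProper f] [HasInjectiveResolutions X.Modules]

theorem ComputesOn.flat_H_of_isFinLocFree (hP : ComputesOn f F hU P) (hF : Coh.IsQCoh F) (p : ℕ)
    (h : FlatMod.IsFinLocFree ((Coh.Rpush f p).obj F)) : Module.Flat Γ(Y, U) (FlatCxLib.H P (-(p : ℤ))) := by
  obtain ⟨i⟩ := hP.nonempty_rpush_iso hF p
  exact M1.flat_of_isFinLocFree_tilde (R := CommRingCat.of Γ(Y, U))
    (CohIII.T P (-(p : ℤ)) (ModuleCat.of Γ(Y, U) Γ(Y, U)))
    (M2.isFinLocFree_of_iso i (M2.isFinLocFree_restrict hU.fromSpec h))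

theorem ComputesOn.subsingleton_H_of_isZero (hP : ComputesOn f F hU P) (hF : Coh.IsQCoh F) (p : ℕ)
    (h : IsZero ((Coh.Rpush f p).obj F)) : Subsingleton (FlatCxLib.H P (-(p : ℤ))) := by
  obtain ⟨i⟩ := hP.nonempty_rpush_iso hF p
  exact ModuleCat.subsingleton_of_isZero (DPerf.isZero_of_tilde (R := CommRingCat.of Γ(Y, U))
    (((Scheme.Modules.restrictFunctor hU.fromSpec).map_isZero h).of_iso i.symm))

/-- Local constancy transported from the spectrum of an affine open. -/
theorem ComputesOn.eventually_fiberRank_eq (hP : ComputesOn f F hU P) (hF : Coh.IsQCoh F) {y : Y} (hy : y ∈ U)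
    (p : ℕ) (h : ∀ᶠ z in nhds (hU.primeIdealOf ⟨y, hy⟩),
      CohIII.dRank P (-(p : ℤ)) z = CohIII.dRank P (-(p : ℤ)) (hU.primeIdealOf ⟨y, hy⟩)) :
    ∀ᶠ y' in nhds y, CohIII.fiberRank f F p y' = CohIII.fiberRank f F p y := by
  have e : hU.fromSpec.base (hU.primeIdealOf ⟨y, hy⟩) = y := hU.fromSpec_primeIdealOf ⟨y, hy⟩
  have hm := hU.fromSpec.isOpenEmbedding.map_nhds_eq (hU.primeIdealOf ⟨y, hy⟩)
  rw [e] at hm
  rw [← hm, Filter.eventually_map]
  filter_upwards [h] with z hz
  have hzU : hU.fromSpec z ∈ U := by rw [← SetLike.mem_coe, ← hU.range_fromSpec]; exact ⟨z, rfl⟩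
  have hz' : hU.primeIdealOf ⟨hU.fromSpec z, hzU⟩ = z :=
    hU.fromSpec.isOpenEmbedding.injective (hU.fromSpec_primeIdealOf _)
  exact (hP.fiberRank_eq hzU hF p).trans ((congrArg (CohIII.dRank P (-(p : ℤ))) hz').trans
    (hz.trans (hP.fiberRank_eq hy hF p).symm))

end Groth.Agent.CBC10
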