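import Groth.Agent.Lib.FlatCx.Length
import Groth.Agent.S4490
import Mathlib.RingTheory.HopkinsLevitzki
import Mathlib.RingTheory.Length

/-!
# Exactness of `H_p(P ⊗ -)` and lengths on the truncations `A/m^(n+1)`
-/

set_option autoImplicit false
set_option linter.style.haveILetI false
set_option linter.unusedSectionVars false

universe u

open CategoryTheory Groth.Agent.DMod Groth.Agent.FlatCxLib IsLocalRing
open scoped TensorProduct MonoidalCategory

noncomputable section

namespace Groth.Agent.CBC10

variable {A : Type u} [CommRing A] [IsNoetherianRing A] [IsLocalRing A]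

theorem length_trunc_ne_top (n : ℕ) : Module.length A (A ⧸ maximalIdeal A ^ (n + 1)) ≠ ⊤ := by
  set I := maximalIdeal A ^ (n + 1) with hI
  haveI : Nontrivial (A ⧸ I) := Ideal.Quotient.nontrivial_iff.2 fun h =>
    Ideal.IsPrime.ne_top' (I := maximalIdeal A) (top_le_iff.1 (h ▸ Ideal.pow_le_self (Nat.succ_ne_zero n)))
  haveI : IsLocalRing (A ⧸ I) := IsLocalRing.of_surjective' _ Ideal.Quotient.mk_surjective
  haveI : ((maximalIdeal (A ⧸ I)).comap (Ideal.Quotient.mk I)).IsMaximal :=
    Ideal.comap_isMaximal_of_surjective _ Ideal.Quotient.mk_surjective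
  haveI : IsArtinianRing (A ⧸ I) := by
    rw [isArtinianRing_iff_isNilpotent_maximalIdeal]
    refine ⟨n + 1, ?_⟩
    rw [← Ideal.map_comap_of_surjective _ (Ideal.Quotient.mk_surjective (I := I)) (maximalIdeal (A ⧸ I)),
      IsLocalRing.eq_maximalIdeal (inferInstance :
        ((maximalIdeal (A ⧸ I)).comap (Ideal.Quotient.mk I)).IsMaximal), ← Ideal.map_pow, ← hI, Ideal.map_quotient_self]
    rfl
  rw [Module.length_eq_of_surjective (R := A ⧸ I) Ideal.Quotient.mk_surjective]
  exact Module.length_ne_top

variable (P : ChainComplex (ModuleCat.{u} A) ℤ) [∀ i, Module.Finite A (P.X i)] [∀ i, Module.Flat A (P.X i)]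
  (p : ℤ)

theorem length_T_residue_ne_top :
    Module.length A (CohIII.T P p (ModuleCat.of A (ResidueField A))) ≠ ⊤ := by
  let K := CohIII.tensorObj P (ModuleCat.of A (ResidueField A))
  have hk : Module.length A (ResidueField A) ≠ ⊤ := by
    haveI : IsSimpleModule A (ResidueField A) :=
      isSimpleModule_iff_quot_maximal.2 ⟨maximalIdeal A, inferInstance, ⟨LinearEquiv.refl A _⟩⟩
    rw [Module.length_eq_one]
    exact ENat.one_ne_top
  obtain ⟨r, f, hf⟩ := Module.Finite.exists_fin' A (P.X p)
  let e : (Fin r → A) ⊗[A] ResidueField A ≃ₗ[A] (Fin r → ResidueField A) :=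
    (TensorProduct.comm A _ _).trans (TensorProduct.piScalarRight A A _ _)
  have h1 : Module.length A (P.X p ⊗[A] ResidueField A) ≤ Module.length A (Fin r → ResidueField A) :=
    (Module.length_le_of_surjective (f.rTensor (ResidueField A)) (LinearMap.rTensor_surjective _ hf)).trans
      e.length_eq.le
  refine ne_top_of_le_ne_top ?_ (((Module.length_le_of_surjective (K.homologyπ p).hom
    (homologyπ_surjective K p)).trans (Module.length_le_of_injective (K.iCycles p).hom
      (iCycles_injective K p))).trans h1)
  rw [Module.length_pi]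
  simp only [ENat.card_eq_coe_fintype_card, Fintype.card_fin]
  exact WithTop.mul_ne_top (ENat.natCast_ne_top r) hk

theorem surjective_factor_of_length_eq (n : ℕ)
    (h : Module.length A (CohIII.T P p (ModuleCat.of A (A ⧸ maximalIdeal A ^ (n + 1)))) =
      Module.length A (CohIII.T P p (ModuleCat.of A (ResidueField A))) *
        Module.length A (A ⧸ maximalIdeal A ^ (n + 1))) :
    Function.Surjective ((CohIII.TFun P p).map (ModuleCat.ofHom
        (Ideal.Quotient.factorₐ A (Ideal.pow_le_self (I := maximalIdeal A)
          (Nat.succ_ne_zero n))).toLinearMap :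
        ModuleCat.of A (A ⧸ maximalIdeal A ^ (n + 1)) ⟶ ModuleCat.of A (A ⧸ maximalIdeal A))).hom := by
  let g : (A ⧸ maximalIdeal A ^ (n + 1)) →ₗ[A] A ⧸ maximalIdeal A :=
    (Ideal.Quotient.factorₐ A (Ideal.pow_le_self (I := maximalIdeal A) (Nat.succ_ne_zero n))).toLinearMap
  have hg : Function.Surjective g := Ideal.Quotient.factor_surjective (Ideal.pow_le_self (Nat.succ_ne_zero n))
  have hd := length_T_residue_ne_top P p
  set d := Module.length A (CohIII.T P p (ModuleCat.of A (ResidueField A))) with hdd
  have hsimple : IsSimpleModule A (A ⧸ maximalIdeal A) :=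
    isSimpleModule_iff_quot_maximal.2 ⟨maximalIdeal A, inferInstance, ⟨LinearEquiv.refl A _⟩⟩
  have hN : Module.length A (CohIII.T P p (ModuleCat.of A (A ⧸ maximalIdeal A))) = d :=
    length_simple P p _ hsimple
  have hlen := Module.length_eq_add_of_exact (LinearMap.ker g).subtype g (Submodule.injective_subtype _) hg
    (LinearMap.exact_subtype_ker_map g)
  rw [Module.length_eq_one A (A ⧸ maximalIdeal A)] at hlen
  have hK : Module.length A (LinearMap.ker g) ≠ ⊤ := ne_top_of_le_ne_top (length_trunc_ne_top n)
    (Module.length_le_of_injective _ (Submodule.injective_subtype _))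
  haveI := additive_TFun P p
  have hle : Module.length A (CohIII.T P p (ModuleCat.of A (LinearMap.ker g))) ≤
      d * Module.length A (LinearMap.ker g) :=
    length_map_le_mul (CohIII.TFun P p) (halfExact_TFun P p) _
      (fun M hM => (length_simple P p M hM).le) (ModuleCat.of A (LinearMap.ker g)) hK
  have hT : Function.Exact (Tmap P p (LinearMap.ker g).subtype) (Tmap P p g) :=
    Tmap_exact P p (Submodule.injective_subtype _) hg (LinearMap.exact_subtype_ker_map g)
  refine ((length_eq_iff_of_exact hT (ne_top_of_le_ne_top (WithTop.mul_ne_top hd hK) hle)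
    (hN.trans_ne hd)).1 (le_antisymm (length_le_of_exact hT) ?_)).2
  rw [h, hlen, hN, mul_add, mul_one]
  exact add_le_add hle le_rfl

theorem exact_iff_eventually_length :
    ((CohIII.TFun P p).PreservesMonomorphisms ∧ (CohIII.TFun P p).PreservesEpimorphisms) ↔
      ∃ n₀ : ℕ, ∀ n : ℕ, n₀ ≤ n →
        Module.length A (CohIII.T P p (ModuleCat.of A (A ⧸ maximalIdeal A ^ (n + 1)))) =
          Module.length A (CohIII.T P p (ModuleCat.of A (ResidueField A))) *
            Module.length A (A ⧸ maximalIdeal A ^ (n + 1)) := by
  have hH := finite_H P p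
  constructor
  · intro hex
    obtain ⟨he, hflat⟩ := (exact_iff_epi_and_flat P p).1 hex
    haveI : Module.Free A (H P p) := Module.free_of_flat_of_isLocalRing
    let b := Module.Free.chooseBasis A (H P p)
    have key : ∀ (M : Type u) [AddCommGroup M] [Module A M], Module.length A (CohIII.T P p (ModuleCat.of A M)) =
        (Fintype.card (Module.Free.ChooseBasisIndex A (H P p)) : ℕ∞) * Module.length A M := fun M _ _ => by
      classical
      rw [← (LinearEquiv.ofBijective _ (theta_bijective P p he M)).length_eq,
        ((b.equivFun.rTensor M).trans ((TensorProduct.comm A _ _).trans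
          (TensorProduct.piScalarRight A A _ _))).length_eq, Module.length_pi]
      simp
    refine ⟨0, fun n _ => ?_⟩
    haveI : IsSimpleModule A (ResidueField A) :=
      isSimpleModule_iff_quot_maximal.2 ⟨maximalIdeal A, inferInstance, ⟨LinearEquiv.refl A _⟩⟩
    rw [key, key, Module.length_eq_one A (ResidueField A), mul_one]
  · rintro ⟨n₀, hn⟩
    have he : (CohIII.TFun P p).PreservesEpimorphisms :=
      (Groth.Agent.S4490.result P (fun i => ⟨inferInstance, inferInstance⟩) p).2.2
        ⟨n₀, fun n hn' => surjective_factor_of_length_eq P p n (hn n hn')⟩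
    refine (exact_iff_epi_and_flat P p).2 ⟨he, ?_⟩
    obtain ⟨r, hr⟩ : ∃ r : ℕ, Module.length A (CohIII.T P p (ModuleCat.of A (ResidueField A))) = r :=
      ⟨_, (ENat.natCast_toNat (length_T_residue_ne_top P p)).symm⟩
    -- a surjection from a free module of rank `r`, bijective after every truncation
    have hκ : Module.length A (ResidueField A ⊗[A] H P p) = r := by
      rw [← hr, ← (LinearEquiv.ofBijective _ (theta_bijective P p he (ResidueField A))).length_eq]
      exact (TensorProduct.comm A _ _).length_eq
    haveI : IsSimpleModule A (ResidueField A) :=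
      isSimpleModule_iff_quot_maximal.2 ⟨maximalIdeal A, inferInstance, ⟨LinearEquiv.refl A _⟩⟩
    have hfr : Module.finrank (ResidueField A) (ResidueField A ⊗[A] H P p) = r := by
      have h1 := Module.length_eq_of_surjective (S := A) (R := ResidueField A)
        (M := ResidueField A ⊗[A] H P p) IsLocalRing.residue_surjective
      rw [hκ, Module.length_eq_finrank] at h1
      exact_mod_cast h1.symm
    let b := Module.finBasisOfFinrankEq (ResidueField A) (ResidueField A ⊗[A] H P p) hfr
    choose v hv using fun i => TensorProduct.mk_surjective A (H P p) (ResidueField A)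
      IsLocalRing.residue_surjective (b i)
    let f : (Fin r → A) →ₗ[A] H P p := Fintype.linearCombination A v
    have hf : Function.Surjective f := by
      rw [← LinearMap.range_eq_top, Fintype.range_linearCombination]
      exact IsLocalRing.span_eq_top_of_tmul_eq_basis v b hv
    have hinj : Function.Injective f := by
      rw [injective_iff_map_eq_zero]
      intro x hx
      funext i
      have : ∀ n, n₀ ≤ n → x i ∈ maximalIdeal A ^ (n + 1) := fun n hn' => by
        let An := A ⧸ maximalIdeal A ^ (n + 1)
        have hsur : Function.Surjective (f.rTensor An) := LinearMap.rTensor_surjective _ hf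
        let e : (Fin r → A) ⊗[A] An ≃ₗ[A] (Fin r → An) :=
          (TensorProduct.comm A _ _).trans (TensorProduct.piScalarRight A A _ _)
        have hl : Module.length A (H P p ⊗[A] An) = Module.length A ((Fin r → A) ⊗[A] An) := by
          rw [(LinearEquiv.ofBijective _ (theta_bijective P p he An)).length_eq, hn n hn', hr, e.length_eq,
            Module.length_pi]
          simp [An]
        let N₀ : Submodule A ((Fin r → A) ⊗[A] An) := LinearMap.ker (f.rTensor An)
        have hadd := Module.length_eq_add_of_exact (N := N₀) (M := (Fin r → A) ⊗[A] An) (P := H P p ⊗[A] An)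
          N₀.subtype (f.rTensor An) N₀.injective_subtype hsur (fun z => ?_)
        rotate_left
        · exact ⟨fun hz => ⟨⟨z, hz⟩, rfl⟩, fun ⟨y, hy⟩ => hy ▸ y.2⟩
        have htop : Module.length A (H P p ⊗[A] An) ≠ ⊤ := by
          rw [hl, e.length_eq, Module.length_pi]
          simp only [ENat.card_eq_coe_fintype_card, Fintype.card_fin]
          exact WithTop.mul_ne_top (ENat.natCast_ne_top r) (length_trunc_ne_top n)
        rw [← hl] at hadd
        have hker : Module.length A (LinearMap.ker (f.rTensor An)) = 0 :=
          ENat.add_right_injective_of_ne_top htop (show _ + Module.length A (LinearMap.ker (f.rTensor An)) =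
            Module.length A (H P p ⊗[A] An) + 0 by rw [add_zero, add_comm, ← hadd])
        have hx0 : x ⊗ₜ[A] (1 : An) ∈ LinearMap.ker (f.rTensor An) := by
          rw [LinearMap.mem_ker, LinearMap.rTensor_tmul, hx, TensorProduct.zero_tmul]
        haveI := Module.length_eq_zero_iff.1 hker
        have hx1 : x ⊗ₜ[A] (1 : An) = 0 :=
          congrArg Subtype.val (Subsingleton.elim (⟨_, hx0⟩ : LinearMap.ker (f.rTensor An)) 0)
        have h2 := congrFun ((congrArg e hx1).trans (map_zero e)) i
        simp only [e, LinearEquiv.trans_apply, TensorProduct.comm_tmul, TensorProduct.piScalarRight_apply,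
          TensorProduct.piScalarRightHom_tmul, Pi.zero_apply] at h2
        rw [Algebra.smul_def, mul_one] at h2
        exact Ideal.Quotient.eq_zero_iff_mem.1 h2
      have hbot := Ideal.iInf_pow_eq_bot_of_isLocalRing (maximalIdeal A) Ideal.IsPrime.ne_top'
      refine (Submodule.mem_bot A).1 (hbot ▸ (Submodule.mem_iInf _).2 fun n => ?_)
      exact Ideal.pow_le_pow_right (show n ≤ max n n₀ + 1 by omega) (this _ (le_max_right n n₀))
    exact Module.Flat.of_linearEquiv (LinearEquiv.ofBijective f ⟨hinj, hf⟩).symm

end Groth.Agent.CBC10
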