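import Groth.Agent.Lib.CBC10.Crit
import Groth.Agent.Lib.CBC10.Trunc
import Groth.Agent.Lib.CohFound.ReesMaps

/-!
# Truncation and length forms of the exchange criterion
-/

set_option autoImplicit false
set_option linter.style.haveILetI false
set_option linter.unusedSectionVars false

universe u

open CategoryTheory CategoryTheory.Limits AlgebraicGeometry

noncomputable section

namespace Groth.Agent.CBC10

/-- An isomorphism of modules gives a linear isomorphism on cohomology. -/
def hmapLinEquiv (A : Type u) [CommRing A] {X : Scheme.{u}} [X.Over (Spec (CommRingCat.of A))] {P Q : X.Modules}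
    (i : P ≅ Q) (p : ℕ) : Coh.HH X P p ≃ₗ[A] Coh.HH X Q p :=
  (hmapEquiv i p).toLinearEquiv fun a x => by
    change Sheaf.H.map _ p (Sheaf.H.map ((SheafOfModules.toSheaf X.ringCatSheaf).map (Formal.smulMod A P a)) p x) =
      Sheaf.H.map ((SheafOfModules.toSheaf X.ringCatSheaf).map (Formal.smulMod A Q a)) p
        (Sheaf.H.map ((SheafOfModules.toSheaf X.ringCatSheaf).map i.hom) p x)
    refine (Sheaf.H.map_comp_apply _ _ x).symm.trans ((congrArg (fun t => Sheaf.H.map t p x) ?_).trans
      (Sheaf.H.map_comp_apply _ _ x))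
    exact ((SheafOfModules.toSheaf X.ringCatSheaf).map_comp _ _).symm.trans
      ((congrArg (SheafOfModules.toSheaf X.ringCatSheaf).map
        (CohFound.Rees.smulModΓ_natural i.hom _)).trans ((SheafOfModules.toSheaf X.ringCatSheaf).map_comp _ _))

variable (A : Type u) [CommRing A] [IsNoetherianRing A] {X : Scheme.{u}} [X.Over (Spec (CommRingCat.of A))]
  [IsProper (X ↘ Spec (CommRingCat.of A))] (F : X.Modules) (hF : Coh.IsCoh F)
  (hfl : FlatMod.IsFlatOver (X ↘ Spec (CommRingCat.of A)) F)

include hF hfl in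
/-- The complex, with linear comparison on objects and the comparison of functors. -/
theorem exists_complex_linear :
    ∃ L : CochainComplex (ModuleCat.{u} A) ℤ, (∀ i, Module.Finite A (L.X i)) ∧ (∀ i, Module.Flat A (L.X i)) ∧
      (∀ (p : ℕ) (M : ModuleCat.{u} A), Nonempty (CohIII.T (down L) (-(p : ℤ)) M ≃ₗ[A]
        Coh.HH X ((CohIII.tensorAFunctor A F).obj M) p)) ∧
      Nonempty (∀ p : ℕ, CohIII.TFun L (p : ℤ) ⋙ forget₂ (ModuleCat.{u} A) AddCommGrpCat.{u} ≅ TX A F p) := by
  obtain ⟨L, hL, _, _, e, he⟩ := exists_complex A F hF hfl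
  haveI := fun i => (hL i).2
  refine ⟨L, fun i => (hL i).1, fun i => inferInstance, fun p M => ⟨((downIso L p).app M).toLinearEquiv.trans
    ((e p M).trans (hmapLinEquiv A (tensorAIso A F M).symm p))⟩,
    ⟨fun p => Classical.choice (nonempty_natIso _ _ (fun M => (e p M).toAddEquiv.trans
      (hmapEquiv (tensorAIso A F M).symm p)) fun {M M'} g x => ?_)⟩⟩
  refine Eq.trans (congrArg (hmapEquiv (tensorAIso A F M').symm p) (he p g x)) ?_
  exact hmap_square _ _ _ _ (psi_tensorAIso A F g) p (e p M x)

include hF hfl in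
theorem preservesEpi_iff_surjective_trunc [IsLocalRing A] (p : ℕ) :
    (TX A F p).PreservesEpimorphisms ↔ ∀ n : ℕ, Function.Surjective ((TX A F p).map (ModuleCat.ofHom
        (Ideal.Quotient.factorₐ A (Ideal.pow_le_self (I := IsLocalRing.maximalIdeal A)
          (Nat.succ_ne_zero n))).toLinearMap :
        ModuleCat.of A (A ⧸ IsLocalRing.maximalIdeal A ^ (n + 1)) ⟶
          ModuleCat.of A (A ⧸ IsLocalRing.maximalIdeal A))).hom := by
  obtain ⟨L, h1, h2, _, ⟨c⟩⟩ := exists_complex_linear A F hF hfl
  rw [preservesEpi_iff_down L c p]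
  refine ⟨fun h n => (surjective_map_iff_down L c p _).2 (FlatCxLib.Tmap_surjective (down L) _ h
    (Ideal.Quotient.factor_surjective (Ideal.pow_le_self (Nat.succ_ne_zero n)))), fun h => ?_⟩
  exact (Groth.Agent.S4490.result (down L) (fun i => ⟨inferInstance, inferInstance⟩) _).2.2
    ⟨0, fun n _ => (surjective_map_iff_down L c p _).1 (h n)⟩

include hF hfl in
theorem exact_iff_eventually_length' [IsLocalRing A] (p : ℕ) :
    ((TX A F p).PreservesMonomorphisms ∧ (TX A F p).PreservesEpimorphisms) ↔
      ∃ n₀ : ℕ, ∀ n : ℕ, n₀ ≤ n →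
        Module.length A (Coh.HH X ((CohIII.tensorAFunctor A F).obj
            (ModuleCat.of A (A ⧸ IsLocalRing.maximalIdeal A ^ (n + 1)))) p) =
          Module.length A (Coh.HH X ((CohIII.tensorAFunctor A F).obj
              (ModuleCat.of A (IsLocalRing.ResidueField A))) p) *
            Module.length A (A ⧸ IsLocalRing.maximalIdeal A ^ (n + 1)) := by
  obtain ⟨L, h1, h2, he, ⟨c⟩⟩ := exists_complex_linear A F hF hfl
  rw [preservesMono_iff_down L c p, preservesEpi_iff_down L c p, exact_iff_eventually_length (down L)]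
  refine exists_congr fun n₀ => forall_congr' fun n => forall_congr' fun _ => ?_
  rw [(he p (ModuleCat.of A (A ⧸ IsLocalRing.maximalIdeal A ^ (n + 1)))).some.length_eq,
    (he p (ModuleCat.of A (IsLocalRing.ResidueField A))).some.length_eq]

end Groth.Agent.CBC10
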