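import Groth.Agent.Lib.CohFound.RpushCoh
import Groth.Agent.Lib.CohFound.FormalFn
import Groth.Prelude.Def_CohB1

/-!
# Higher direct images over affine opens are `H^q(f⁻¹ U, F)~`
-/

set_option autoImplicit false
set_option linter.style.haveILetI false
set_option maxHeartbeats 1000000

universe u

open CategoryTheory TopologicalSpace Opposite CategoryTheory.Limits AlgebraicGeometry

noncomputable section

namespace Groth.Agent.CBC10

open Groth.Agent.CohFound

variable {X Y : Scheme.{u}}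

/-- The preimage of an affine open is a scheme over its ring of functions. -/
abbrev overU (f : X ⟶ Y) {U : Y.Opens} (hU : IsAffineOpen U) :
    ((f ⁻¹ᵁ U : X.Opens) : Scheme.{u}).Over (Spec (CommRingCat.of Γ(Y, U))) :=
  ⟨f ∣_ U ≫ hU.isoSpec.hom⟩

theorem nonempty_rpush_restrict_iso_tilde (f : X ⟶ Y) [QuasiCompact f] [QuasiSeparated f]
    [HasInjectiveResolutions X.Modules] {M : X.Modules} (hM : Coh.IsQCoh M) (q : ℕ)
    {U : Y.Opens} (hU : IsAffineOpen U) :
    letI := overU f hU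
    Nonempty (((Coh.Rpush f q).obj M).restrict hU.fromSpec ≅ tilde (R := CommRingCat.of Γ(Y, U))
      (ModuleCat.of Γ(Y, U) (Coh.HH (f ⁻¹ᵁ U : X.Opens).toScheme (M.restrict (f ⁻¹ᵁ U).ι) q))) := by
  letI := overU f hU
  let X₁ : Scheme.{u} := (f ⁻¹ᵁ U : X.Opens)
  let g : X₁ ⟶ Spec (CommRingCat.of Γ(Y, U)) := f ∣_ U ≫ hU.isoSpec.hom
  have H : IsPullback g (f ⁻¹ᵁ U).ι hU.fromSpec f :=
    (isPullback_morphismRestrict f U).of_iso (Iso.refl _) hU.isoSpec (Iso.refl _) (Iso.refl _)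
      (by simp [g]) (by simp) (by simp [← IsAffineOpen.isoSpec_inv_ι]) (by simp)
  haveI : IsAffine U := hU
  haveI : CompactSpace X₁ :=
    isCompact_iff_compactSpace.mp (QuasiCompact.isCompact_preimage _ U.isOpen hU.isCompact)
  haveI : QuasiSeparatedSpace X₁ := quasiSeparatedSpace_of_quasiSeparated (f ∣_ U)
  let M₁ : X₁.Modules := M.restrict (f ⁻¹ᵁ U).ι
  haveI : M₁.IsQuasicoherent := M1.isQCoh_restrict hM (f ⁻¹ᵁ U).ι
  let a := (ComplexShape.up ℕ).prev q
  let R₀ := ModRes.ofInj (injectiveResolution M)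
  let R : ModRes M₁ := R₀.restrict (f ⁻¹ᵁ U).ι
  let N := (R.pushSC g a q).homology
  haveI : N.IsQuasicoherent := isQuasicoherent_homology_pushSC R g rfl
  haveI : IsIso N.fromTildeΓ := Scheme.Modules.isIso_fromTildeΓ_of_isQuasicoherent (R := CommRingCat.of Γ(Y, U)) N
  let e₁ : ((Coh.Rpush f q).obj M).restrict hU.fromSpec ≅ N :=
    (Scheme.Modules.restrictFunctor hU.fromSpec).mapIso (rpushPushSCIso f (injectiveResolution M) q) ≪≫
      ((R₀.pushSC f a q).mapHomologyIso (Scheme.Modules.restrictFunctor hU.fromSpec)).symm ≪≫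
      ShortComplex.homologyMapIso (pushSCRestrictIso R₀ H a q)
  let D := modHData g R a q
  have htop : SecGood (R.toAug.pushSC (g.base : sp X₁ ⟶ sp (Spec (CommRingCat.of Γ(Y, U)))) a q)
      (⊤ : (Spec (CommRingCat.of Γ(Y, U))).Opens) :=
    M1.bo_one (R := CommRingCat.of Γ(Y, U)) ▸ secGood_bo g M₁ R.toAug R.acyclicOn rfl 1
  let θ := AugCx.secEquiv D htop (R.acyclicOn _) rfl
  have hsmul : ∀ (c : Γ(Y, U)) (s : Γ(N, ⊤)),
      θ (M1.gs (R := CommRingCat.of Γ(Y, U)) c • s : Γ(N, ⊤)) = gMul M₁ (baseHom g c) q ⊤ (θ s) := by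
    intro c s
    obtain ⟨z, hz⟩ : ∃ z : Γ((R.pushSC g a q).cycles, ⊤),
        (R.pushSC g a q).homologyπ.app ⊤ z = s := AugCx.π_surjective D htop s
    subst hz
    have e : θ (M1.gs (R := CommRingCat.of Γ(Y, U)) c • (R.pushSC g a q).homologyπ.app ⊤ z : Γ(N, ⊤)) =
        AugCx.dataCls D ⊤ (M1.gs (R := CommRingCat.of Γ(Y, U)) c • z : Γ((R.pushSC g a q).cycles, ⊤)) := by
      rw [← Scheme.Modules.Hom.app_smul]
      exact AugCx.secEquiv_π D htop (R.acyclicOn _) rfl _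
    exact e.trans ((dataCls_smul g R a q ⊤ _ (baseHom g c)
      (M1.ores_id (le_top : g ⁻¹ᵁ (⊤ : (Spec (CommRingCat.of Γ(Y, U))).Opens) ≤ ⊤) _).symm z).trans
      (congrArg (gMul M₁ (baseHom g c) q _) (AugCx.secEquiv_π D htop (R.acyclicOn _) rfl z).symm))
  let ε : moduleSpecΓFunctor.obj N ≃+ Coh.HH X₁ M₁ q := θ.trans (hhExt M₁ q).symm
  let l : moduleSpecΓFunctor.obj N ≃ₗ[Γ(Y, U)] Coh.HH X₁ M₁ q :=
    ε.toLinearEquiv fun c s => by
      apply (hhExt M₁ q).injective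
      exact ((hhExt M₁ q).apply_symm_apply _).trans ((hsmul c s).trans
        (((congrArg (gMul M₁ (baseHom g c) q ⊤) ((hhExt M₁ q).apply_symm_apply (θ s))).symm).trans
          (FF.hhExt_smul M₁ q c ((hhExt M₁ q).symm (θ s))).symm))
  exact ⟨e₁ ≪≫ (asIso N.fromTildeΓ).symm ≪≫ (tilde.functor (CommRingCat.of Γ(Y, U))).mapIso l.toModuleIso⟩

end Groth.Agent.CBC10
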