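import Groth.Agent.Lib.CBC10.Fib
import Groth.Agent.Lib.CBC10.Crit2
import Groth.Agent.Lib.CBC10.RpushTilde
import Groth.Agent.Lib.FlatH4.PullFlat
import Groth.Agent.Lib.SchDom.FlatStage
import Groth.Agent.Lib.FlatCx.FiberTrans

/-!
# The complex over an affine open of a general base
-/

set_option autoImplicit false
set_option linter.style.haveILetI false
set_option linter.unusedSectionVars false
set_option maxHeartbeats 1000000

universe u

open CategoryTheory CategoryTheory.Limits AlgebraicGeometry Opposite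

noncomputable section

namespace Groth.Agent.CBC10

/-- `T^p(A) = H^p(X, F)`. -/
theorem Computes.exists_unit {A : Type u} [CommRing A] {X : Scheme.{u}} [X.Over (Spec (CommRingCat.of A))]
    [X.IsSeparated] [CompactSpace X] {F : X.Modules} {P : ChainComplex (ModuleCat.{u} A) ℤ}
    (hP : Computes A F P) (hF : Coh.IsQCoh F) (p : ℕ) :
    Nonempty (CohIII.T P (-(p : ℤ)) (ModuleCat.of A A) ≃ₗ[A] Coh.HH X F p) := by
  have hid : Spec.map (CommRingCat.ofHom (algebraMap A A)) = 𝟙 (Spec (CommRingCat.of A)) := by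
    rw [Algebra.algebraMap_self, CommRingCat.ofHom_id, Spec.map_id]
  haveI : IsIso (Spec.map (CommRingCat.ofHom (algebraMap A A))) := by rw [hid]; infer_instance
  obtain ⟨ε, hε⟩ := hP.exists_bc hF (B := A) (g := 𝟙 X) (IsPullback.of_horiz_isIso ⟨by rw [hid]; simp⟩)
  let e₀ := (ε p).trans (hmapLinEquiv A ((Scheme.Modules.pullbackId X).app F) p).toAddEquiv
  refine ⟨e₀.toLinearEquiv fun c x => ?_⟩
  have hc : (CohIII.TFun P (-(p : ℤ))).map (ModuleCat.ofHom (LinearMap.mulLeft A c)) x = c • x := by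
    rw [show LinearMap.mulLeft A c = c • (LinearMap.id : A →ₗ[A] A) from LinearMap.ext fun _ => rfl]
    exact (LinearMap.congr_fun (FlatCxLib.Tmap_smul P _ c LinearMap.id) x).trans
      (congrArg (c • ·) (LinearMap.congr_fun (FlatCxLib.Tmap_id P _) x))
  exact (congrArg (hmapLinEquiv A ((Scheme.Modules.pullbackId X).app F) p)
    ((congrArg (ε p) hc).symm.trans (hε p c x))).trans (map_smul (hmapLinEquiv A _ p) c (ε p x))

variable {X Y : Scheme.{u}} (f : X ⟶ Y) (F : X.Modules) {U : Y.Opens}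

/-- The restriction of `F` over an open of the base. -/
abbrev resU (U : Y.Opens) : ((f ⁻¹ᵁ U : X.Opens) : Scheme.{u}).Modules := F.restrict (f ⁻¹ᵁ U).ι

theorem isPullback_overU (hU : IsAffineOpen U) :
    IsPullback (f ⁻¹ᵁ U).ι (f ∣_ U ≫ hU.isoSpec.hom) f hU.fromSpec :=
  ((isPullback_morphismRestrict f U).of_iso (Iso.refl _) hU.isoSpec (Iso.refl _) (Iso.refl _)
      (by simp) (by simp) (by simp [← IsAffineOpen.isoSpec_inv_ι]) (by simp)).flip

theorem isProper_overU [IsProper f] (hU : IsAffineOpen U) :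
    letI := overU f hU
    IsProper ((f ⁻¹ᵁ U : X.Opens).toScheme ↘ Spec (CommRingCat.of Γ(Y, U))) :=
  inferInstanceAs (IsProper (f ∣_ U ≫ hU.isoSpec.hom))

variable {f F}

theorem isCoh_resU (hF : Coh.IsCoh F) : Coh.IsCoh (resU f F U) :=
  ⟨M1.isQCoh_restrict hF.1 _, M1.isFT_restrict hF.2 _⟩

theorem isFlatOver_resU (hF : Coh.IsQCoh F) (hfl : FlatMod.IsFlatOver f F) (hU : IsAffineOpen U) :
    FlatMod.IsFlatOver (f ∣_ U ≫ hU.isoSpec.hom) (resU f F U) := fun x => by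
  haveI := hF
  exact SchDom.isFlatOverAt_of_iso _ ((Scheme.Modules.restrictFunctorIsoPullback (f ⁻¹ᵁ U).ι).app F).symm x
    (FlatH4.isFlatOverAt_baseChange (isPullback_overU f hU) F x (hfl _))

variable (f F) in
/-- `P` computes the cohomology over the affine open `U`. -/
def ComputesOn (hU : IsAffineOpen U) (P : ChainComplex (ModuleCat.{u} Γ(Y, U)) ℤ) : Prop :=
  letI := overU f hU
  Computes Γ(Y, U) (resU f F U) P

theorem exists_computesOn [IsProper f] [IsLocallyNoetherian Y] (hF : Coh.IsCoh F)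
    (hfl : FlatMod.IsFlatOver f F) (hU : IsAffineOpen U) :
    ∃ P : ChainComplex (ModuleCat.{u} Γ(Y, U)) ℤ,
      (∀ i, Module.Finite Γ(Y, U) (P.X i)) ∧ (∀ i, Module.Free Γ(Y, U) (P.X i)) ∧
      (∃ i₀ : ℤ, ∀ i < i₀, IsZero (P.X i)) ∧
      (∀ (i : ℤ), 0 < i → ∀ M : ModuleCat.{u} Γ(Y, U), Subsingleton (CohIII.T P i M)) ∧ ComputesOn f F hU P := by
  letI := overU f hU
  haveI : IsNoetherianRing Γ(Y, U) := IsLocallyNoetherian.component_noetherian ⟨U, hU⟩
  haveI := isProper_overU f hU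
  exact exists_computes Γ(Y, U) (resU f F U) (isCoh_resU hF) (isFlatOver_resU hF.1 hfl hU)

variable {hU : IsAffineOpen U} {P : ChainComplex (ModuleCat.{u} Γ(Y, U)) ℤ}

/-- Base change along a ring map out of `Γ(Y, U)`. -/
theorem ComputesOn.exists_bc [IsProper f] (hP : ComputesOn f F hU P) (hF : Coh.IsQCoh F) {B : Type u} [CommRing B]
    [Algebra Γ(Y, U) B] {X' : Scheme.{u}} [X'.Over (Spec (CommRingCat.of B))] {g : X' ⟶ X}
    (h : IsPullback g (X' ↘ Spec (CommRingCat.of B)) f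
      (Spec.map (CommRingCat.ofHom (algebraMap Γ(Y, U) B)) ≫ hU.fromSpec)) :
    ∃ ε : ∀ p : ℕ, CohIII.T P (-(p : ℤ)) (ModuleCat.of Γ(Y, U) B) ≃+
        Coh.HH X' ((Scheme.Modules.pullback g).obj F) p,
      ∀ (p : ℕ) (c : B) (x : CohIII.T P (-(p : ℤ)) (ModuleCat.of Γ(Y, U) B)),
        ε p ((CohIII.TFun P (-(p : ℤ))).map (ModuleCat.ofHom (LinearMap.mulLeft Γ(Y, U) c)) x) = c • ε p x := by
  letI := overU f hU
  haveI := isProper_overU f hU
  let X₁ : Scheme.{u} := (f ⁻¹ᵁ U : X.Opens)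
  haveI : CompactSpace X₁ := QuasiCompact.compactSpace_of_compactSpace (X₁ ↘ Spec (CommRingCat.of Γ(Y, U)))
  haveI : X₁.IsSeparated := ⟨by
    rw [← terminal.comp_from (X₁ ↘ Spec (CommRingCat.of Γ(Y, U)))]
    infer_instance⟩
  have H := isPullback_overU f hU
  let φ := Spec.map (CommRingCat.ofHom (algebraMap Γ(Y, U) B))
  let g₁ : X' ⟶ X₁ := H.lift g ((X' ↘ Spec (CommRingCat.of B)) ≫ φ) (h.w.trans (Category.assoc _ _ _).symm)
  have h1 : g₁ ≫ (f ⁻¹ᵁ U).ι = g := H.lift_fst _ _ _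
  have h2 : g₁ ≫ (X₁ ↘ Spec (CommRingCat.of Γ(Y, U))) = (X' ↘ Spec (CommRingCat.of B)) ≫ φ := H.lift_snd _ _ _
  have hsq : IsPullback g₁ (X' ↘ Spec (CommRingCat.of B)) (X₁ ↘ Spec (CommRingCat.of Γ(Y, U))) φ :=
    IsPullback.of_right (by rw [h1]; exact h) h2 H
  obtain ⟨ε, hε⟩ := Computes.exists_bc hP (M1.isQCoh_restrict hF (f ⁻¹ᵁ U).ι) hsq
  let i : (Scheme.Modules.pullback g₁).obj (resU f F U) ≅ (Scheme.Modules.pullback g).obj F :=
    (Scheme.Modules.pullback g₁).mapIso ((Scheme.Modules.restrictFunctorIsoPullback (f ⁻¹ᵁ U).ι).app F) ≪≫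
      (Scheme.Modules.pullbackComp g₁ (f ⁻¹ᵁ U).ι).app F ≪≫ (Scheme.Modules.pullbackCongr h1).app F
  exact ⟨fun p => (ε p).trans (hmapLinEquiv B i p).toAddEquiv, fun p c x =>
    (congrArg (hmapLinEquiv B i p) (hε p c x)).trans (map_smul (hmapLinEquiv B i p) c (ε p x))⟩

section Fibre

variable {y : Y} (hy : y ∈ U)

theorem fromSpecResidueField_eq :
    Y.fromSpecResidueField y = Spec.map (Y.evaluation U y hy) ≫ hU.fromSpec := by
  rw [Scheme.fromSpecResidueField, ← hU.fromSpecStalk_eq_fromSpecStalk hy, IsAffineOpen.fromSpecStalk,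
    ← Category.assoc, ← Spec.map_comp]
  rfl

theorem comap_evaluation :
    PrimeSpectrum.comap (Y.evaluation U y hy).hom ⟨⊥, Ideal.isPrime_bot⟩ = hU.primeIdealOf ⟨y, hy⟩ := by
  rw [hU.primeIdealOf_eq_map_closedPoint ⟨y, hy⟩]
  show PrimeSpectrum.comap ((Y.residue y).hom.comp (Y.presheaf.germ U y hy).hom) _ = _
  rw [PrimeSpectrum.comap_comp_apply]
  congr 1
  exact PrimeSpectrum.ext IsLocalRing.ker_residue

/-- The residue field as an algebra over `Γ(Y, U)`. -/
abbrev algEval : Algebra Γ(Y, U) (Y.residueField y) := (Y.evaluation U y hy).hom.toAlgebra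

theorem ComputesOn.exists_fiber [IsProper f] (hP : ComputesOn f F hU P) (hF : Coh.IsQCoh F) :
    letI := algEval (U := U) hy
    ∃ ε : ∀ p : ℕ, CohIII.T P (-(p : ℤ)) (ModuleCat.of Γ(Y, U) (Y.residueField y)) ≃+ CohIII.fiberH f F y p,
      ∀ (p : ℕ) (c : Y.residueField y) (x : CohIII.T P (-(p : ℤ)) (ModuleCat.of Γ(Y, U) (Y.residueField y))),
        ε p ((CohIII.TFun P (-(p : ℤ))).map (ModuleCat.ofHom (LinearMap.mulLeft Γ(Y, U) c)) x) = c • ε p x := by
  letI := algEval (U := U) hy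
  letI : (f.fiber y).Over (Spec (CommRingCat.of (Y.residueField y))) := ⟨f.fiberToSpecResidueField y⟩
  have h : IsPullback (f.fiberι y) (f.fiberToSpecResidueField y) f (Y.fromSpecResidueField y) :=
    IsPullback.of_hasPullback _ _
  rw [fromSpecResidueField_eq (hU := hU) hy] at h
  exact hP.exists_bc hF h

theorem ComputesOn.fiberRank_eq [IsProper f] (hP : ComputesOn f F hU P) (hF : Coh.IsQCoh F) (p : ℕ) :
    CohIII.fiberRank f F p y = CohIII.dRank P (-(p : ℤ)) (hU.primeIdealOf ⟨y, hy⟩) := by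
  letI := algEval (U := U) hy
  obtain ⟨ε, hε⟩ := hP.exists_fiber hy hF
  let j := ((FlatCxLib.tensorBcEquiv P (Y.residueField y) (sub_add_cancel (-(p : ℤ)) 1)).symm.trans (ε p))
  have hj : ∀ (c : Y.residueField y) m, j (c • m) = c • j m := fun c m => by
    obtain ⟨x, rfl⟩ := (FlatCxLib.tensorBcEquiv P (Y.residueField y) (sub_add_cancel (-(p : ℤ)) 1)).surjective m
    rw [← FlatCxLib.tensorBcEquiv_mul]
    simp only [j, AddEquiv.trans_apply, AddEquiv.symm_apply_apply]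
    exact hε p c x
  refine ((j.toLinearEquiv hj).finrank_eq.symm).trans ?_
  rw [← comap_evaluation (hU := hU) hy]
  refine Eq.trans ?_ (FlatCxLib.dRank_bcCx P (Y.residueField y) (-(p : ℤ)) ⟨⊥, Ideal.isPrime_bot⟩)
  exact (FlatCxLib.finrank_homology_field (K := Y.residueField y) _ (-(p : ℤ))).symm

theorem ComputesOn.subsingleton_fiberH_iff [IsProper f] (hP : ComputesOn f F hU P) (hF : Coh.IsQCoh F) (p : ℕ) :
    letI := algEval (U := U) hy
    Subsingleton (CohIII.fiberH f F y p) ↔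
      Subsingleton (CohIII.T P (-(p : ℤ)) (ModuleCat.of Γ(Y, U) (Y.residueField y))) := by
  letI := algEval (U := U) hy
  obtain ⟨ε, -⟩ := hP.exists_fiber hy hF
  exact (ε p).toEquiv.subsingleton_congr.symm

end Fibre

/-- The higher direct image over `U` is `T^p(Γ(Y, U))~`. -/
theorem ComputesOn.nonempty_rpush_iso [IsProper f] [HasInjectiveResolutions X.Modules] (hP : ComputesOn f F hU P)
    (hF : Coh.IsQCoh F) (p : ℕ) :
    Nonempty (((Coh.Rpush f p).obj F).restrict hU.fromSpec ≅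
      tilde (R := CommRingCat.of Γ(Y, U)) (CohIII.T P (-(p : ℤ)) (ModuleCat.of Γ(Y, U) Γ(Y, U)))) := by
  letI := overU f hU
  obtain ⟨i₁⟩ := nonempty_rpush_restrict_iso_tilde f hF p hU
  haveI := isProper_overU f hU
  let X₁ : Scheme.{u} := (f ⁻¹ᵁ U : X.Opens)
  haveI : CompactSpace X₁ := QuasiCompact.compactSpace_of_compactSpace (X₁ ↘ Spec (CommRingCat.of Γ(Y, U)))
  haveI : X₁.IsSeparated := ⟨by
    rw [← terminal.comp_from (X₁ ↘ Spec (CommRingCat.of Γ(Y, U)))]
    infer_instance⟩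
  obtain ⟨l⟩ := Computes.exists_unit hP (M1.isQCoh_restrict hF (f ⁻¹ᵁ U).ι) p
  exact ⟨i₁ ≪≫ (tilde.functor (CommRingCat.of Γ(Y, U))).mapIso l.symm.toModuleIso⟩

end Groth.Agent.CBC10
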