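import Groth.Agent.Lib.FlatCx.Local
import Groth.Agent.Lib.FlatCx.Locus
import Groth.Agent.Lib.FlatCx.FiberTrans
import Groth.Agent.Lib.FlatCx.Bounded
import Groth.Agent.Lib.FlatCx.RankExact
import Groth.Agent.Lib.FlatCx.FlatCoeff

/-!
# Homology of a flat complex near a prime
-/

set_option autoImplicit false
set_option linter.style.haveILetI false
set_option linter.unusedSectionVars false

universe u

open CategoryTheory CategoryTheory.Limits Groth.Agent.FlatCxLib Groth.Agent.DMod
open scoped TensorProduct

noncomputable section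

namespace Groth.Agent.CBC10

variable {A : Type u} [CommRing A] [IsNoetherianRing A] (P : ChainComplex (ModuleCat.{u} A) ℤ)
  [∀ i, Module.Finite A (P.X i)] [∀ i, Module.Flat A (P.X i)]

/-- The homology of a base change to a field is finite-dimensional. -/
theorem finite_T_field (K : Type u) [Field K] [Algebra A K] (p : ℤ) :
    Module.Finite K ((CohIII.bcCx (algebraMap A K) P).homology p) := by
  haveI := fun i : ℤ => flat_X_baseChange K P i
  haveI : ∀ i, Module.Finite K ((CohIII.bcCx (algebraMap A K) P).X i) := fun i =>
    Module.Finite.equiv (extEquiv (B := K) (P.X i)).symm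
  haveI := finite_H (CohIII.bcCx (algebraMap A K) P) p
  exact Module.Finite.equiv (unitEquiv (CohIII.bcCx (algebraMap A K) P) p)

/-- `H_p(P ⊗_A K) = 0` for a field `K` over `A` iff the rank at the point below vanishes. -/
theorem subsingleton_T_field_iff (K : Type u) [Field K] [Algebra A K] (p : ℤ) :
    Subsingleton (CohIII.T P p (ModuleCat.of A K)) ↔
      CohIII.dRank P p (PrimeSpectrum.comap (algebraMap A K) ⟨⊥, Ideal.isPrime_bot⟩) = 0 := by
  haveI := finite_T_field P K p
  rw [← dRank_bcCx P K p ⟨⊥, Ideal.isPrime_bot⟩]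
  unfold CohIII.dRank
  rw [finrank_homology_field, Module.finrank_zero_iff]
  exact (tensorBcEquiv P K (sub_add_cancel p 1)).toEquiv.subsingleton_congr

section AtPoint

variable (x : PrimeSpectrum A)

theorem subsingleton_T_localization_of_dRank_zero {p : ℤ} (h : CohIII.dRank P p x = 0) (M : ModuleCat.{u} (Localization.AtPrime x.asIdeal)) :
    Subsingleton (CohIII.T (CohIII.bcCx (algebraMap A (Localization.AtPrime x.asIdeal)) P) p M) := by
  let R := Localization.AtPrime x.asIdeal
  haveI := fun i : ℤ => flat_X_baseChange R P i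
  haveI : ∀ i, Module.Finite R ((CohIII.bcCx (algebraMap A R) P).X i) := fun i =>
    Module.Finite.equiv (extEquiv (B := R) (P.X i)).symm
  haveI : Subsingleton (CohIII.T (CohIII.bcCx (algebraMap A R) P) p (ModuleCat.of R (IsLocalRing.ResidueField R))) := by
    haveI := finite_T_field (CohIII.bcCx (algebraMap A R) P) (IsLocalRing.ResidueField R) p
    refine (tensorBcEquiv (CohIII.bcCx (algebraMap A R) P) (IsLocalRing.ResidueField R)
      (sub_add_cancel p 1)).toEquiv.subsingleton_congr.2 ((Module.finrank_zero_iff (R := IsLocalRing.ResidueField R)).1 ?_)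
    exact (finrank_homology_bc P R x.asIdeal.ResidueField p).trans h
  exact subsingleton_of_subsingleton_residue _ p M

/-- Where the rank vanishes, the neighbouring cokernels are free. -/
theorem mem_freeLocus_of_dRank_zero {p q : ℤ} (hpq : q + 1 = p) (h : CohIII.dRank P p x = 0) :
    x ∈ Module.freeLocus A (Cok P p) ∧ x ∈ Module.freeLocus A (Cok P q) := by
  have hs := subsingleton_T_localization_of_dRank_zero P x h
  constructor
  · refine (preservesMono_localization_iff P x p).1 ⟨fun {M N} f _ => (ModuleCat.mono_iff_injective _).2 ?_⟩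
    exact fun a b _ => (hs M).elim a b
  · refine (preservesEpi_localization_iff P x hpq).1 ⟨fun {M N} f _ => (ModuleCat.epi_iff_surjective _).2 ?_⟩
    exact fun b => ⟨0, (hs N).elim _ _⟩

/-- Where the neighbouring cokernels are free, so is the homology, with rank the rank of the fibre. -/
theorem free_localized_H {p q : ℤ} (hpq : q + 1 = p) (hp : x ∈ Module.freeLocus A (Cok P p))
    (hq : x ∈ Module.freeLocus A (Cok P q)) :
    Module.Free (Localization.AtPrime x.asIdeal) (LocalizedModule x.asIdeal.primeCompl (H P p)) ∧
      Module.finrank (Localization.AtPrime x.asIdeal) (LocalizedModule x.asIdeal.primeCompl (H P p)) =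
        CohIII.dRank P p x := by
  let R := Localization.AtPrime x.asIdeal
  haveI := fun i : ℤ => flat_X_baseChange R P i
  haveI : ∀ i, Module.Finite R ((CohIII.bcCx (algebraMap A R) P).X i) := fun i =>
    Module.Finite.equiv (extEquiv (B := R) (P.X i)).symm
  have hex : (CohIII.TFun (CohIII.bcCx (algebraMap A R) P) p).PreservesMonomorphisms ∧
      (CohIII.TFun (CohIII.bcCx (algebraMap A R) P) p).PreservesEpimorphisms :=
    ⟨(preservesMono_localization_iff P x p).2 hp, (preservesEpi_localization_iff P x hpq).2 hq⟩
  haveI := ((exact_iff_epi_and_flat _ p).1 hex).2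
  haveI := finite_H (CohIII.bcCx (algebraMap A R) P) p
  haveI : Module.Free R (H (CohIII.bcCx (algebraMap A R) P) p) := Module.free_of_flat_of_isLocalRing
  haveI : Module.Flat A R := IsLocalization.flat R x.asIdeal.primeCompl
  let e : LocalizedModule x.asIdeal.primeCompl (H P p) ≃ₗ[R] H (CohIII.bcCx (algebraMap A R) P) p :=
    (LocalizedModule.equivTensorProduct x.asIdeal.primeCompl (H P p)).trans
      ((homologyFlatBaseChange P R p).trans (unitEquiv (CohIII.bcCx (algebraMap A R) P) p).symm)
  refine ⟨Module.Free.of_equiv e.symm, ?_⟩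
  rw [e.finrank_eq, ← Module.finrank_baseChange (R := IsLocalRing.ResidueField R),
    (homologyBaseChange (CohIII.bcCx (algebraMap A R) P) (IsLocalRing.ResidueField R) hpq hex.2).finrank_eq]
  exact finrank_homology_bc P R x.asIdeal.ResidueField p

end AtPoint

theorem flat_cok_of_dRank_zero {p q : ℤ} (hpq : q + 1 = p) (h : ∀ x, CohIII.dRank P p x = 0) :
    Module.Flat A (Cok P p) ∧ Module.Flat A (Cok P q) := by
  haveI := Module.finitePresentation_of_finite A (Cok P p)
  haveI := Module.finitePresentation_of_finite A (Cok P q)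
  haveI : Module.Projective A (Cok P p) := Module.freeLocus_eq_univ_iff.1
    (Set.eq_univ_of_forall fun x => (mem_freeLocus_of_dRank_zero P x hpq (h x)).1)
  haveI : Module.Projective A (Cok P q) := Module.freeLocus_eq_univ_iff.1
    (Set.eq_univ_of_forall fun x => (mem_freeLocus_of_dRank_zero P x hpq (h x)).2)
  exact ⟨inferInstance, inferInstance⟩

theorem mem_freeLocus_of_flat (p : ℤ) [Module.Flat A (Cok P p)] (x : PrimeSpectrum A) :
    x ∈ Module.freeLocus A (Cok P p) := by
  haveI := Module.finitePresentation_of_finite A (Cok P p)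
  haveI := Module.Flat.projective_of_finitePresentation (R := A) (M := Cok P p)
  rw [Module.freeLocus_eq_univ]
  trivial

theorem mem_freeLocus_of_isLocallyConstant [IsReduced A] {p q : ℤ} (hpq : q + 1 = p)
    (h : IsLocallyConstant (CohIII.dRank P p)) (x : PrimeSpectrum A) :
    x ∈ Module.freeLocus A (Cok P p) ∧ x ∈ Module.freeLocus A (Cok P q) := by
  obtain ⟨h1, h2⟩ := (exact_iff_flat_cok P hpq).1 (exact_of_isLocallyConstant_dRank P p h)
  exact ⟨mem_freeLocus_of_flat P p x, mem_freeLocus_of_flat P q x⟩

end Groth.Agent.CBC10
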