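import Groth.Agent.Lib.CBC10.Local
import Groth.Agent.Lib.CBC10.FreeAt
import Groth.Agent.Lib.ModM1.LocFree
import Groth.Agent.Lib.ModM1.Fpqc
import Groth.Agent.Lib.DPerf.Tilde
import Groth.Agent.Lib.DPerf.Free

/-!
# Higher direct images near a point
-/

set_option autoImplicit false
set_option linter.style.haveILetI false
set_option linter.unusedSectionVars false
set_option maxHeartbeats 1000000

universe u

open CategoryTheory CategoryTheory.Limits AlgebraicGeometry Opposite TensorProduct

noncomputable section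

namespace Groth.Agent.CBC10

set_option backward.isDefEq.respectTransparency false in
/-- A module on `Spec R` that becomes free after inverting `r` is free on `D(r)`. -/
theorem exists_fr_away_rank {R : CommRingCat.{u}} (N : ModuleCat.{u} R) (r : R) {I : Type u} [Finite I]
    (b : Module.Basis I (Localization (Submonoid.powers r)) (LocalizedModule.Away r N)) :
    Nonempty ((Scheme.Modules.pullback
      (Spec.map (CommRingCat.ofHom (algebraMap R (Localization (.powers r)))))).obj (tilde N) ≅ M1.fr I) := by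
  let S := CommRingCat.of (Localization (Submonoid.powers r))
  let φ : R ⟶ S := CommRingCat.ofHom (algebraMap R (Localization (.powers r)))
  let e : Localization (Submonoid.powers r) ⊗[R] N ≃ₗ[Localization (Submonoid.powers r)]
      (I →₀ Localization (Submonoid.powers r)) :=
    (LocalizedModule.equivTensorProduct (.powers r) N).symm.trans b.repr
  let g : ((ModuleCat.restrictScalars φ.hom).obj (ModuleCat.of S S)) ≃ₗ[R]
      Localization (Submonoid.powers r) :=
    { toFun := fun x => x
      invFun := fun x => x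
      left_inv := fun _ => rfl
      right_inv := fun _ => rfl
      map_add' := fun _ _ => rfl
      map_smul' := fun a x =>
        (Algebra.smul_def (A := Localization (Submonoid.powers r)) a
          (show Localization (Submonoid.powers r) from x)).symm }
  let q := TensorProduct.congr g (LinearEquiv.refl R N)
  let d : ((ModuleCat.extendScalars φ.hom).obj N) ≅
      ModuleCat.of S (Localization (Submonoid.powers r) ⊗[R] N) :=
    LinearEquiv.toModuleIso
      (X₁ := (ModuleCat.extendScalars φ.hom).obj N)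
      (X₂ := Localization (Submonoid.powers r) ⊗[R] N) (R := S)
      { toFun := fun x => q x
        invFun := fun x => q.symm x
        left_inv := fun x => q.symm_apply_apply x
        right_inv := fun x => q.apply_symm_apply x
        map_add' := fun x y => q.map_add x y
        map_smul' := fun c x => by
          induction (show ((ModuleCat.restrictScalars φ.hom).obj (ModuleCat.of S S)) ⊗[R] N from x)
            using TensorProduct.induction_on with
          | zero => erw [smul_zero, q.map_zero, smul_zero]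
          | tmul a m => rfl
          | add x y hx hy => erw [smul_add, q.map_add, hx, hy, q.map_add, smul_add] }
  let e' : ((ModuleCat.extendScalars φ.hom).obj N) ≅ ModuleCat.of S (I →₀ S) :=
    d ≪≫ LinearEquiv.toModuleIso (X₁ := Localization (Submonoid.powers r) ⊗[R] N) (R := S) e
  exact ⟨M1.tildePullbackObjIso φ N ≪≫ (tilde.functor S).mapIso e' ≪≫ M1.frTildeIso _⟩

/-- A module free of rank `d` at a prime is `O^d` on a basic open around it, on the spectrum. -/
theorem exists_openImmersion_fr {R : CommRingCat.{u}} (N : ModuleCat.{u} R) [Module.FinitePresentation R N]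
    (x : PrimeSpectrum R) [Module.Free (Localization.AtPrime x.asIdeal) (LocalizedModule x.asIdeal.primeCompl N)]
    (d : ℕ)
    (hd : Module.finrank (Localization.AtPrime x.asIdeal) (LocalizedModule x.asIdeal.primeCompl N) = d) :
    ∃ (Z : Scheme.{u}) (j : Z ⟶ Spec R) (_ : IsOpenImmersion j) (z : Z), j z = x ∧
      Nonempty ((tilde N).restrict j ≅ M1.fr (ULift.{u} (Fin d))) := by
  obtain ⟨r, hr, hfree, hrank⟩ := Module.FinitePresentation.exists_free_localizedModule_powers
    x.asIdeal.primeCompl (LocalizedModule.mkLinearMap x.asIdeal.primeCompl N) (Localization.AtPrime x.asIdeal)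
  haveI := hfree
  haveI : Nontrivial (Localization (Submonoid.powers r)) := by
    refine (IsLocalization.Away.lift (S := Localization (Submonoid.powers r)) r (g := algebraMap R (Localization.AtPrime x.asIdeal)) ?_).domain_nontrivial
    exact IsLocalization.map_units (Localization.AtPrime x.asIdeal) ⟨r, hr⟩
  haveI : Module.Finite (Localization (.powers r)) (LocalizedModule.Away r N) :=
    Module.Finite.of_isLocalizedModule (.powers r) (LocalizedModule.mkLinearMap (.powers r) N)
  let b₀ := Module.finBasisOfFinrankEq (Localization (.powers r)) (LocalizedModule.Away r N) (hrank.trans hd)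
  let j := Spec.map (CommRingCat.ofHom (algebraMap R (Localization (.powers r))))
  haveI : IsOpenImmersion j := IsOpenImmersion.of_isLocalization r
  obtain ⟨e'⟩ := exists_fr_away_rank N r (b₀.reindex Equiv.ulift.symm)
  have hmem : x ∈ Set.range j := by
    change x ∈ Set.range (PrimeSpectrum.comap (algebraMap R (Localization (.powers r))))
    rw [PrimeSpectrum.localization_away_comap_range (S := Localization.Away r) r]
    exact hr
  obtain ⟨z, hz⟩ := hmem
  exact ⟨_, j, inferInstance, z, hz, ⟨(Scheme.Modules.restrictFunctorIsoPullback j).app (tilde N) ≪≫ e'⟩⟩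

/-- Free on the image of an open immersion. -/
theorem exists_open_freeMod {X : Scheme.{u}} {M : X.Modules} {Z : Scheme.{u}} (j : Z ⟶ X) [IsOpenImmersion j]
    {d : ℕ} (e : M.restrict j ≅ M1.fr (ULift.{u} (Fin d))) (z : Z) :
    ∃ U : X.Opens, j z ∈ U ∧ Nonempty (M.restrict U.ι ≅ FlatMod.freeMod (U : Scheme.{u}) d) := by
  have h : Set.range j.opensRange.ι ⊆ Set.range j := by rw [Scheme.Opens.range_ι]; rfl
  exact ⟨j.opensRange, ⟨z, rfl⟩, ⟨(M1.restrictLiftIso M j j.opensRange.ι h).symm ≪≫
    (Scheme.Modules.restrictFunctor (IsOpenImmersion.lift j j.opensRange.ι h)).mapIso e ≪≫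
      (M1.frRestrictIso (IsOpenImmersion.lift j j.opensRange.ι h) _).symm ≪≫ (M1.freeModFrIso _ d).symm⟩⟩

theorem isZero_of_iso_freeMod_zero {X : Scheme.{u}} {M : X.Modules} (e : M ≅ FlatMod.freeMod X 0) : IsZero M :=
  IsZero.of_iso (DPerf.isZero_freeMod_zero X) e

variable {X Y : Scheme.{u}} {f : X ⟶ Y} {F : X.Modules} {U : Y.Opens} {hU : IsAffineOpen U}
  {P : ChainComplex (ModuleCat.{u} Γ(Y, U)) ℤ}

section Nhd

variable [IsProper f] [IsLocallyNoetherian Y] [HasInjectiveResolutions X.Modules]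
  [∀ i, Module.Finite Γ(Y, U) (P.X i)] [∀ i, Module.Flat Γ(Y, U) (P.X i)]

/-- `R^p f_* F` is free of rank `h^p(y)` near `y` when the two cokernels of the complex are free at `y`. -/
theorem ComputesOn.exists_free_nhd (hP : ComputesOn f F hU P) (hF : Coh.IsQCoh F) {y : Y} (hy : y ∈ U) (p : ℕ)
    (hp : hU.primeIdealOf ⟨y, hy⟩ ∈ Module.freeLocus Γ(Y, U) (FlatCxLib.Cok P (-(p : ℤ))))
    (hq : hU.primeIdealOf ⟨y, hy⟩ ∈ Module.freeLocus Γ(Y, U) (FlatCxLib.Cok P (-(p : ℤ) - 1))) :
    ∃ V : Y.Opens, y ∈ V ∧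
      Nonempty (((Coh.Rpush f p).obj F).restrict V.ι ≅ FlatMod.freeMod (↑V) (CohIII.fiberRank f F p y)) := by
  haveI : IsNoetherianRing Γ(Y, U) := IsLocallyNoetherian.component_noetherian ⟨U, hU⟩
  obtain ⟨hfree, hrank⟩ := free_localized_H P (hU.primeIdealOf ⟨y, hy⟩) (sub_add_cancel (-(p : ℤ)) 1) hp hq
  haveI := FlatCxLib.finite_H P (-(p : ℤ))
  haveI : Module.FinitePresentation Γ(Y, U) (CohIII.T P (-(p : ℤ)) (ModuleCat.of Γ(Y, U) Γ(Y, U))) :=
    Module.finitePresentation_of_finite _ _
  haveI := hfree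
  obtain ⟨Z, j, hj, z, hz, ⟨e⟩⟩ := exists_openImmersion_fr (R := Γ(Y, U))
    (CohIII.T P (-(p : ℤ)) (ModuleCat.of Γ(Y, U) Γ(Y, U))) (hU.primeIdealOf ⟨y, hy⟩) _
    (hrank.trans (hP.fiberRank_eq hy hF p).symm)
  obtain ⟨i⟩ := hP.nonempty_rpush_iso hF p
  obtain ⟨V, hV, hiso⟩ := exists_open_freeMod (j ≫ hU.fromSpec)
    ((M1.restrictRestrictIso ((Coh.Rpush f p).obj F) hU.fromSpec j (j ≫ hU.fromSpec) rfl).symm ≪≫
      (Scheme.Modules.restrictFunctor j).mapIso i ≪≫ e) z
  refine ⟨V, ?_, hiso⟩
  rwa [Scheme.Hom.comp_apply, hz, hU.fromSpec_primeIdealOf] at hV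

theorem ComputesOn.mem_freeLocus_of_fiberRank_zero (hP : ComputesOn f F hU P) (hF : Coh.IsQCoh F) {y : Y}
    (hy : y ∈ U) (p : ℕ) (h : CohIII.fiberRank f F p y = 0) :
    hU.primeIdealOf ⟨y, hy⟩ ∈ Module.freeLocus Γ(Y, U) (FlatCxLib.Cok P (-(p : ℤ))) ∧
    hU.primeIdealOf ⟨y, hy⟩ ∈ Module.freeLocus Γ(Y, U) (FlatCxLib.Cok P (-(p : ℤ) - 1)) := by
  haveI : IsNoetherianRing Γ(Y, U) := IsLocallyNoetherian.component_noetherian ⟨U, hU⟩
  exact mem_freeLocus_of_dRank_zero P _ (sub_add_cancel (-(p : ℤ)) 1) ((hP.fiberRank_eq hy hF p).symm.trans h)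

end Nhd

theorem fiberRank_eq_zero_of_subsingleton {y : Y} {p : ℕ} (h : Subsingleton (CohIII.fiberH f F y p)) :
    CohIII.fiberRank f F p y = 0 :=
  Module.finrank_zero_of_subsingleton

theorem ComputesOn.subsingleton_fiberH_of_fiberRank_eq_zero [IsProper f] [IsLocallyNoetherian Y]
    [∀ i, Module.Finite Γ(Y, U) (P.X i)] [∀ i, Module.Flat Γ(Y, U) (P.X i)]
    (hP : ComputesOn f F hU P) (hF : Coh.IsQCoh F) {y : Y} (hy : y ∈ U) {p : ℕ}
    (h : CohIII.fiberRank f F p y = 0) : Subsingleton (CohIII.fiberH f F y p) := by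
  letI := algEval (U := U) hy
  haveI : IsNoetherianRing Γ(Y, U) := IsLocallyNoetherian.component_noetherian ⟨U, hU⟩
  refine (hP.subsingleton_fiberH_iff hy hF p).2 ((subsingleton_T_field_iff P (Y.residueField y) _).2 ?_)
  rw [show PrimeSpectrum.comap (algebraMap Γ(Y, U) (Y.residueField y)) ⟨⊥, Ideal.isPrime_bot⟩ =
    hU.primeIdealOf ⟨y, hy⟩ from comap_evaluation (hU := hU) hy]
  exact (hP.fiberRank_eq hy hF p).symm.trans h

/-- Bundled: a finite free complex over every affine open. -/
theorem exists_complexOn [IsProper f] [IsLocallyNoetherian Y] (hF : Coh.IsCoh F) (hfl : FlatMod.IsFlatOver f F)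
    (hU : IsAffineOpen U) :
    ∃ P : ChainComplex (ModuleCat.{u} Γ(Y, U)) ℤ,
      (∀ i, Module.Finite Γ(Y, U) (P.X i)) ∧ (∀ i, Module.Flat Γ(Y, U) (P.X i)) ∧
      (∃ i₀ : ℤ, ∀ i < i₀, IsZero (P.X i)) ∧
      (∀ (i : ℤ), 0 < i → ∀ M : ModuleCat.{u} Γ(Y, U), Subsingleton (CohIII.T P i M)) ∧ ComputesOn f F hU P := by
  obtain ⟨P, h1, h2, h3, h4, h5⟩ := exists_computesOn hF hfl hU
  haveI := h2
  exact ⟨P, h1, fun i => inferInstance, h3, h4, h5⟩

/-- `Cok P 0` is flat when `T_1 = 0`. -/
theorem flat_cok_zero {A : Type u} [CommRing A] (P : ChainComplex (ModuleCat.{u} A) ℤ) [∀ i, Module.Flat A (P.X i)]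
    (h : ∀ M : ModuleCat.{u} A, Subsingleton (CohIII.T P 1 M)) : Module.Flat A (FlatCxLib.Cok P 0) :=
  (FlatCxLib.preservesEpi_iff P (zero_add 1)).1
    ⟨fun {_ N} _ _ => (ModuleCat.epi_iff_surjective _).2 fun _ => ⟨0, (h N).elim _ _⟩⟩

end Groth.Agent.CBC10
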