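import Groth.Agent.Lib.CBC10.Cech
import Groth.Agent.Lib.TensorMod.QCohTensor
import Groth.Agent.Lib.ModLimH13.Sections
import Groth.Prelude.Def_ega3
import Mathlib.RingTheory.LocalProperties.Exactness
import Mathlib.RingTheory.Localization.BaseChange

/-!
# Sections of tensor products over affine opens

For quasi-coherent `F`, `G` and an affine open `U`, `Γ(F, U) ⊗ Γ(G, U) → Γ(F ⊗ G, U)` is bijective; on a scheme
over `Spec A` this gives `Γ(F, U) ⊗[A] M = Γ(F ⊗_A M, U)`, naturally in `U` and `M`.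
-/

set_option autoImplicit false
set_option linter.style.haveILetI false

universe u

open CategoryTheory Limits AlgebraicGeometry TopologicalSpace Opposite TensorProduct

noncomputable section

namespace Groth.Agent.CBC10

section Algebra

variable {A R O M T P : Type u} [CommRing A] [CommRing R] [CommRing O] [AddCommGroup M] [AddCommGroup T]
  [AddCommGroup P] [Algebra A O] [Algebra R O] [Module A M] [Module R T] [Module O P] [Module A P]
  [IsScalarTower A O P]

/-- A base change transported along an isomorphism of the base rings. -/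
theorem isBaseChange_of_semilinear (σ : A ≃+* R) (hσ : ∀ a, algebraMap R O (σ a) = algebraMap A O a)
    (g : M ≃+ T) (hg : ∀ a m, g (a • m) = σ a • g m) (Φ : O ⊗[R] T ≃ₗ[O] P) (η : M →ₗ[A] P)
    (hη : ∀ c m, Φ (c ⊗ₜ g m) = c • η m) : IsBaseChange O η := by
  let bal : O →+ T →+ O ⊗[A] M :=
    AddMonoidHom.mk' (fun c => AddMonoidHom.mk' (fun t => c ⊗ₜ[A] g.symm t) fun t t' => by
      rw [map_add, TensorProduct.tmul_add]) fun c c' => AddMonoidHom.ext fun t => TensorProduct.add_tmul _ _ _
  let Ψ : O ⊗[R] T →+ O ⊗[A] M := TensorProduct.liftAddHom bal fun r c t => by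
    obtain ⟨a, rfl⟩ := σ.surjective r
    obtain ⟨m, rfl⟩ := g.surjective t
    change (σ a • c) ⊗ₜ[A] g.symm (g m) = c ⊗ₜ[A] g.symm (σ a • g m)
    rw [← hg, g.symm_apply_apply, g.symm_apply_apply, ← TensorProduct.smul_tmul, Algebra.smul_def,
      Algebra.smul_def, hσ]
  let E := η.liftBaseChange O
  have hE : ∀ (c : O) (m : M), E (c ⊗ₜ m) = Φ (c ⊗ₜ g m) := fun c m =>
    (LinearMap.liftBaseChange_tmul _ _ _ _).trans (hη c m).symm
  have hinv : ∀ z, Ψ (Φ.symm (E z)) = z := fun z => by
    induction z using TensorProduct.induction_on with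
    | zero => simp only [map_zero]
    | add a b ha hb => simp only [map_add, ha, hb]
    | tmul c m =>
      rw [hE, LinearEquiv.symm_apply_apply, TensorProduct.liftAddHom_tmul]
      exact congrArg (c ⊗ₜ[A] ·) (g.symm_apply_apply m)
  refine IsBaseChange.of_equiv (LinearEquiv.ofBijective E ⟨fun a b h => ?_, fun t => ?_⟩) fun m =>
    LinearMap.liftBaseChange_one_tmul _ _ _
  · rw [← hinv a, h, hinv b]
  · obtain ⟨w, rfl⟩ := Φ.surjective t
    induction w using TensorProduct.induction_on with
    | zero => exact ⟨0, by rw [map_zero, map_zero]⟩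
    | add a b ha hb =>
      obtain ⟨a', ha'⟩ := ha
      obtain ⟨b', hb'⟩ := hb
      exact ⟨a' + b', by rw [map_add, map_add, ha', hb']⟩
    | tmul c t =>
      obtain ⟨m, rfl⟩ := g.surjective t
      exact ⟨c ⊗ₜ m, hE c m⟩

end Algebra

section General

variable {X : Scheme.{u}} (F G : X.Modules) {U : X.Opens}

/-- The product of sections, as a linear map. -/
def secTensor : Γ(F, U) ⊗[Γ(X, U)] Γ(G, U) →ₗ[Γ(X, U)] Γ(CohB1.tensorMod F G, U) :=
  TensorProduct.lift (LinearMap.mk₂ Γ(X, U) (fun s t => M2.tsec F G s t)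
    (fun s s' t => M2.tsec_add_left s s' t) (fun r s t => M2.tsec_smul_left r s t)
    (fun s t t' => M2.tsec_add_right s t t') (fun r s t => M2.tsec_smul_right r s t))

lemma secTensor_tmul (s : Γ(F, U)) (t : Γ(G, U)) : secTensor F G (s ⊗ₜ t) = M2.tsec F G s t :=
  TensorProduct.lift.tmul _ _

/-- On affine opens the sections of a tensor product are the tensor product of the sections. -/
theorem bijective_secTensor (hF : Coh.IsQCoh F) (hG : Coh.IsQCoh G) (hU : IsAffineOpen U) :
    Function.Bijective (secTensor F G (U := U)) := by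
  haveI := hF
  haveI := hG
  haveI hT : Coh.IsQCoh (CohB1.tensorMod F G) := M2.isQCoh_tensor hF hG
  let pt : ∀ (P : Ideal Γ(X, U)) [P.IsMaximal], X := fun P hP => hU.fromSpec ⟨P, hP.isPrime⟩
  have hpt : ∀ (P : Ideal Γ(X, U)) [P.IsMaximal], pt P ∈ U := fun P _ => hU.range_fromSpec.le ⟨_, rfl⟩
  have hprime : ∀ (P : Ideal Γ(X, U)) [P.IsMaximal],
      (hU.primeIdealOf ⟨pt P, hpt P⟩).asIdeal.primeCompl = P.primeCompl := fun P hP => by
    have : hU.primeIdealOf ⟨pt P, hpt P⟩ = (⟨P, hP.isPrime⟩ : PrimeSpectrum Γ(X, U)) :=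
      hU.fromSpec.isOpenEmbedding.injective (hU.fromSpec_primeIdealOf _)
    ext r
    show r ∉ (hU.primeIdealOf ⟨pt P, hpt P⟩).asIdeal ↔ r ∉ P
    rw [this]
  have key : ∀ (x : X) (hx : x ∈ U),
      letI := M1.stalkModule (CohB1.tensorMod F G) hx
      IsLocalizedModule (hU.primeIdealOf ⟨x, hx⟩).asIdeal.primeCompl
        ((M1.germₗ (CohB1.tensorMod F G) hx).comp (secTensor F G)) := by
    intro x hx
    letI algX : Algebra Γ(X, U) (X.presheaf.stalk x) := (X.presheaf.germ U x hx).hom.toAlgebra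
    letI := M1.stalkModule F hx
    letI := M1.stalkModule G hx
    letI := M1.stalkModule (CohB1.tensorMod F G) hx
    haveI hs : ∀ N : X.Modules,
        letI := M1.stalkModule N hx
        IsScalarTower Γ(X, U) (X.presheaf.stalk x) (N.presheaf.stalk x : Type u) := fun N =>
      letI := M1.stalkModule N hx
      IsScalarTower.of_algebraMap_smul fun _ _ => rfl
    haveI := hs F
    haveI := hs G
    haveI := hs (CohB1.tensorMod F G)
    haveI := hU.isLocalization_stalk ⟨x, hx⟩
    haveI := M1.isLocalizedModule_germ F hU hx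
    haveI := M1.isLocalizedModule_germ G hU hx
    let S := (hU.primeIdealOf ⟨x, hx⟩).asIdeal.primeCompl
    let E := (IsLocalization.moduleTensorEquiv S (X.presheaf.stalk x)
      (F.presheaf.stalk x : Type u) (G.presheaf.stalk x : Type u)).symm.restrictScalars Γ(X, U)
    let g := E.toLinearMap ∘ₗ TensorProduct.map (M1.germₗ F hx) (M1.germₗ G hx)
    haveI : IsLocalizedModule S g := IsLocalizedModule.of_linearEquiv _ _ _
    let σ := ((M2.stalkEquiv F G x).symm.restrictScalars Γ(X, U))
    have hg : (M1.germₗ (CohB1.tensorMod F G) hx).comp (secTensor F G) = σ.toLinearMap ∘ₗ g := by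
      refine TensorProduct.ext' fun s t => ?_
      change (CohB1.tensorMod F G).presheaf.germ U x hx (secTensor F G (s ⊗ₜ t)) =
        (M2.stalkEquiv F G x).symm (E (F.presheaf.germ U x hx s ⊗ₜ G.presheaf.germ U x hx t))
      rw [secTensor_tmul, LinearEquiv.eq_symm_apply]
      exact M2.stalkEquiv_tsec F G x hx s t
    rw [hg]
    exact IsLocalizedModule.of_linearEquiv _ _ _
  have hloc : ∀ (P : Ideal Γ(X, U)) [P.IsMaximal] (t : Γ(CohB1.tensorMod F G, U)),
      ∃ s : Γ(X, U), s ∉ P ∧ ∃ z, secTensor F G z = s • t := fun P hP t => by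
    letI := M1.stalkModule (CohB1.tensorMod F G) (hpt P)
    haveI h1 := key _ (hpt P)
    haveI h2 := M1.isLocalizedModule_germ (CohB1.tensorMod F G) hU (hpt P)
    rw [hprime P] at h1 h2
    obtain ⟨⟨z, s⟩, e⟩ := IsLocalizedModule.surj P.primeCompl
      ((M1.germₗ (CohB1.tensorMod F G) (hpt P)).comp (secTensor F G))
      (M1.germₗ (CohB1.tensorMod F G) (hpt P) t)
    have e' : M1.germₗ (CohB1.tensorMod F G) (hpt P) ((s : Γ(X, U)) • t) =
        M1.germₗ (CohB1.tensorMod F G) (hpt P) (secTensor F G z) := (map_smul _ _ _).trans e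
    obtain ⟨s', hs'⟩ := (IsLocalizedModule.eq_iff_exists P.primeCompl _).1 e'
    refine ⟨(s' : Γ(X, U)) * s, fun h => (hP.isPrime.mem_or_mem h).elim s'.2 s.2, (s' : Γ(X, U)) • z, ?_⟩
    rw [map_smul, mul_smul]
    exact hs'.symm
  have hker : ∀ (P : Ideal Γ(X, U)) [P.IsMaximal] (z : Γ(F, U) ⊗[Γ(X, U)] Γ(G, U)), secTensor F G z = 0 →
      ∃ s : Γ(X, U), s ∉ P ∧ s • z = 0 := fun P hP z hz => by
    letI := M1.stalkModule (CohB1.tensorMod F G) (hpt P)
    haveI h1 := key _ (hpt P)
    rw [hprime P] at h1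
    have e' : ((M1.germₗ (CohB1.tensorMod F G) (hpt P)).comp (secTensor F G)) z =
        ((M1.germₗ (CohB1.tensorMod F G) (hpt P)).comp (secTensor F G)) 0 := by
      rw [map_zero, LinearMap.comp_apply, hz, map_zero]
    obtain ⟨s, hs⟩ := (IsLocalizedModule.eq_iff_exists P.primeCompl _).1 e'
    exact ⟨s, s.2, hs.trans (smul_zero _)⟩
  refine ⟨(injective_iff_map_eq_zero _).2 fun z hz => ?_, fun t => ?_⟩
  · by_contra hne
    have hI : LinearMap.ker (LinearMap.toSpanSingleton Γ(X, U) _ z) ≠ ⊤ := fun h => hne (by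
      simpa using (LinearMap.ker_eq_top.1 h ▸ rfl : LinearMap.toSpanSingleton Γ(X, U) _ z 1 = 0))
    obtain ⟨P, hP, hle⟩ := Ideal.exists_le_maximal _ hI
    obtain ⟨s, hs, hsz⟩ := hker P z hz
    exact hs (hle hsz)
  · by_contra hne
    have hI : Submodule.comap (LinearMap.toSpanSingleton Γ(X, U) _ t) (LinearMap.range (secTensor F G (U := U))) ≠ ⊤ :=
      fun h => hne (by
        have h1 : (1 : Γ(X, U)) ∈ Submodule.comap (LinearMap.toSpanSingleton Γ(X, U) _ t)
            (LinearMap.range (secTensor F G (U := U))) := by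
          rw [h]; trivial
        simpa using h1)
    obtain ⟨P, hP, hle⟩ := Ideal.exists_le_maximal _ hI
    obtain ⟨s, hs, z, hz⟩ := hloc P t
    exact hs (hle ⟨z, hz⟩)

/-- The global sections of `M~`. -/
def gsecEquiv {R : CommRingCat.{u}} (M : ModuleCat.{u} R) : M ≃+ Γ(tilde M, ⊤) :=
  AddEquiv.ofBijective (AddMonoidHom.mk' (M2.gsec M) (M2.gsec_add M))
    (ConcreteCategory.bijective_of_isIso (tilde.isoTop M).hom)

lemma gsecEquiv_apply {R : CommRingCat.{u}} (M : ModuleCat.{u} R) (m : M) : gsecEquiv M m = M2.gsec M m := rfl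

/-- A morphism of modules on the global sections of the `~`. -/
lemma map_gsec {R : CommRingCat.{u}} {M N : ModuleCat.{u} R} (g : M ⟶ N) (m : M) :
    ((tilde.functor R).map g).app ⊤ (M2.gsec M m) = M2.gsec N (g m) :=
  ConcreteCategory.congr_hom (tilde.toOpen_map_app g ⊤) m

end General

section Over

variable (A : Type u) [CommRing A] {X : Scheme.{u}} [X.Over (Spec (CommRingCat.of A))]

attribute [local instance] secA

/-- The module `f^* M~`. -/
abbrev pullM (M : ModuleCat.{u} A) : X.Modules :=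
  (Scheme.Modules.pullback (X ↘ Spec (CommRingCat.of A))).obj (tilde (R := CommRingCat.of A) M)

lemma le_pre_top (U : X.Opens) :
    U ≤ (X ↘ Spec (CommRingCat.of A)) ⁻¹ᵁ (⊤ : (Spec (CommRingCat.of A)).Opens) := le_top

/-- The section of `f^* M~` over an open given by an element of `M`. -/
def melt (M : ModuleCat.{u} A) (U : X.Opens) : M →+ Γ(pullM A M, U) :=
  AddMonoidHom.mk' (fun m => ModLimH13.res' _ (tilde (R := CommRingCat.of A) M) (le_pre_top A U) (M2.gsec (R := CommRingCat.of A) M m)) fun m m' =>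
    (congrArg (ModLimH13.res' _ (tilde (R := CommRingCat.of A) M) (le_pre_top A U)) (M2.gsec_add (R := CommRingCat.of A) M m m')).trans
      (ModLimH13.res'_add _ _ _ _ _)

lemma appLE_ρ (U : X.Opens) (a : A) :
    (X ↘ Spec (CommRingCat.of A)).appLE ⊤ U (le_pre_top A U)
      ((Scheme.ΓSpecIso (CommRingCat.of A)).inv a) = ρ A U a := rfl

lemma gsec_smul' (M : ModuleCat.{u} A) (a : A) (m : M) :
    M2.gsec (R := CommRingCat.of A) M (a • m) = ((Scheme.ΓSpecIso (CommRingCat.of A)).inv a) • M2.gsec (R := CommRingCat.of A) M m := by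
  refine (M2.gsec_smul (R := CommRingCat.of A) M a m).trans ?_
  exact congrArg (fun r : Γ(Spec (CommRingCat.of A), ⊤) => r • M2.gsec (R := CommRingCat.of A) M m)
    (ConcreteCategory.congr_hom ((Spec (CommRingCat.of A)).presheaf.map_id (op ⊤)) _)

lemma melt_smul (M : ModuleCat.{u} A) (U : X.Opens) (a : A) (m : M) :
    melt A M U (a • m) = ρ A U a • melt A M U m := by
  refine (congrArg (ModLimH13.res' _ (tilde (R := CommRingCat.of A) M) (le_pre_top A U)) (gsec_smul' A M a m)).trans ?_
  rw [ModLimH13.res'_smul, appLE_ρ]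
  rfl

lemma mres_melt (M : ModuleCat.{u} A) {U V : X.Opens} (h : V ≤ U) (m : M) :
    M1.mres _ h (melt A M U m) = melt A M V m :=
  ModLimH13.mres_res' _ (tilde (R := CommRingCat.of A) M) (le_pre_top A U) h _

/-- The section of `F ⊗_A M` given by a section of `F` and an element of `M`. -/
def beta (F : X.Modules) (M : ModuleCat.{u} A) (U : X.Opens) :
    Γ(F, U) ⊗[A] M →ₗ[A] Γ(CohIII.tensorA A F M, U) :=
  TensorProduct.lift (LinearMap.mk₂ A (fun s m => M2.tsec F (pullM A M) s (melt A M U m))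
    (fun s s' m => M2.tsec_add_left s s' _)
    (fun a s m => M2.tsec_smul_left (ρ A U a) s _)
    (fun s m m' => by rw [map_add]; exact M2.tsec_add_right s _ _)
    (fun a s m => by rw [melt_smul]; exact M2.tsec_smul_right (ρ A U a) s _))

lemma beta_tmul (F : X.Modules) (M : ModuleCat.{u} A) (U : X.Opens) (s : Γ(F, U)) (m : M) :
    beta A F M U (s ⊗ₜ m) = M2.tsec F (pullM A M) s (melt A M U m) :=
  TensorProduct.lift.tmul _ _

lemma beta_res (F : X.Modules) (M : ModuleCat.{u} A) {U V : X.Opens} (h : V ≤ U) (z : Γ(F, U) ⊗[A] M) :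
    beta A F M V ((resL A F h).rTensor M z) = resL A (CohIII.tensorA A F M) h (beta A F M U z) := by
  induction z using TensorProduct.induction_on with
  | zero => simp only [map_zero]
  | add a b ha hb => simp only [map_add, ha, hb]
  | tmul s m =>
    rw [LinearMap.rTensor_tmul, beta_tmul, beta_tmul]
    refine Eq.trans ?_ (M2.res_tsec h s (melt A M U m)).symm
    exact congrArg (M2.tsec F (pullM A M) _) (mres_melt A M h m).symm

theorem isBaseChange_melt (M : ModuleCat.{u} A) {U : X.Opens} (hU : IsAffineOpen U) :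
    letI := (ρ A U).toAlgebra
    letI : Module A Γ(pullM A M, U) := secA A (pullM A M) U
    haveI : IsScalarTower A Γ(X, U) Γ(pullM A M, U) := IsScalarTower.of_algebraMap_smul fun _ _ => rfl
    IsBaseChange Γ(X, U) ({ toFun := melt A M U, map_add' := map_add _, map_smul' := melt_smul A M U } :
      M →ₗ[A] Γ(pullM A M, U)) := by
  letI := (ρ A U).toAlgebra
  letI : Module A Γ(pullM A M, U) := secA A (pullM A M) U
  haveI : IsScalarTower A Γ(X, U) Γ(pullM A M, U) := IsScalarTower.of_algebraMap_smul fun _ _ => rfl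
  set η : M →ₗ[A] Γ(pullM A M, U) :=
    { toFun := melt A M U, map_add' := map_add _, map_smul' := melt_smul A M U }
  haveI : Coh.IsQCoh (tilde (R := CommRingCat.of A) M) := inferInstance
  let f := X ↘ Spec (CommRingCat.of A)
  letI alg := (f.appLE ⊤ U (le_pre_top A U)).hom.toAlgebra
  obtain ⟨Φ, hΦ⟩ := ModLimH13.exists_pullEquiv f (tilde (R := CommRingCat.of A) M) (le_pre_top A U) (isAffineOpen_top _) hU
  exact isBaseChange_of_semilinear (Scheme.ΓSpecIso (CommRingCat.of A)).commRingCatIsoToRingEquiv.symm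
    (appLE_ρ A U) (gsecEquiv (R := CommRingCat.of A) M) (gsec_smul' A M) Φ η
    fun c m => hΦ c (M2.gsec (R := CommRingCat.of A) M m)

/-- `Γ(F, U) ⊗[A] M = Γ(F ⊗_A M, U)` on affine opens. -/
theorem bijective_beta {F : X.Modules} (hF : Coh.IsQCoh F) (M : ModuleCat.{u} A) {U : X.Opens}
    (hU : IsAffineOpen U) : Function.Bijective (beta A F M U) := by
  letI := (ρ A U).toAlgebra
  haveI : IsScalarTower A Γ(X, U) Γ(F, U) := IsScalarTower.of_algebraMap_smul fun _ _ => rfl
  letI : Module A Γ(pullM A M, U) := secA A (pullM A M) U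
  haveI : IsScalarTower A Γ(X, U) Γ(pullM A M, U) := IsScalarTower.of_algebraMap_smul fun _ _ => rfl
  have hP : Coh.IsQCoh (pullM (X := X) A M) := M1.isQCoh_pullback _ inferInstance
  have hbc := isBaseChange_melt A M hU
  let e1 := (TensorProduct.AlgebraTensorModule.cancelBaseChange A Γ(X, U) Γ(X, U) Γ(F, U) M).symm
  let e2 := hbc.equiv.lTensor Γ(F, U)
  have hb := (bijective_secTensor F (pullM A M) hF hP hU).comp (e1.trans e2).bijective
  suffices h : ∀ z, beta A F M U z = secTensor F (pullM A M) ((e1.trans e2) z) from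
    ⟨fun x y hxy => hb.1 ((h x).symm.trans (hxy.trans (h y))), fun t => (hb.2 t).imp fun z hz => (h z).trans hz⟩
  intro z
  induction z using TensorProduct.induction_on with
  | zero =>
    refine (map_zero _).trans ?_
    exact ((congrArg (secTensor F (pullM A M)) (map_zero (e1.trans e2))).trans (map_zero _)).symm
  | add a b ha hb =>
    refine (map_add _ _ _).trans (((congrArg₂ (· + ·) ha hb)).trans ?_)
    exact ((congrArg (secTensor F (pullM A M)) (map_add (e1.trans e2) a b)).trans (map_add _ _ _)).symm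
  | tmul s m =>
    refine (beta_tmul A F M U s m).trans ?_
    have h1 : e1 (s ⊗ₜ[A] m) = s ⊗ₜ[Γ(X, U)] ((1 : Γ(X, U)) ⊗ₜ[A] m) :=
      TensorProduct.AlgebraTensorModule.cancelBaseChange_symm_tmul A Γ(X, U) Γ(X, U) s m
    have h2 : hbc.equiv ((1 : Γ(X, U)) ⊗ₜ[A] m) = melt A M U m := (hbc.equiv_tmul 1 m).trans (one_smul _ _)
    refine Eq.trans ?_ (congrArg (fun w => secTensor F (pullM A M) (e2 w)) h1).symm
    refine Eq.trans ?_ (congrArg (fun w => secTensor F (pullM A M) (s ⊗ₜ[Γ(X, U)] w)) h2).symm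
    exact (secTensor_tmul F (pullM A M) s (melt A M U m)).symm

/-- Naturality in the module. -/
lemma beta_map (F : X.Modules) {M M' : ModuleCat.{u} A} (g : M ⟶ M') (U : X.Opens) (z : Γ(F, U) ⊗[A] M) :
    (M2.tensorMap (𝟙 F) ((Scheme.Modules.pullback (X ↘ Spec (CommRingCat.of A))).map
        ((tilde.functor (CommRingCat.of A)).map g))).app U (beta A F M U z) =
      beta A F M' U (g.hom.lTensor Γ(F, U) z) := by
  induction z using TensorProduct.induction_on with
  | zero => exact (congrArg _ (map_zero _)).trans ((map_zero _).trans ((congrArg (beta A F M' U) (map_zero _)).trans (map_zero _)).symm)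
  | add a b ha hb =>
    exact (congrArg _ (map_add _ a b)).trans ((map_add _ _ _).trans ((congrArg₂ (· + ·) ha hb).trans
      ((congrArg (beta A F M' U) (map_add _ a b)).trans (map_add _ _ _)).symm))
  | tmul s m =>
    rw [beta_tmul, LinearMap.lTensor_tmul, beta_tmul]
    refine (M2.tensorMap_tsec _ _ _ _).trans ?_
    refine congrArg (M2.tsec F (pullM A M') s) ?_
    refine (ModLimH13.map_res' _ (tilde (R := CommRingCat.of A) M) (le_pre_top A U) _ _).trans ?_
    refine congrArg (ModLimH13.res' _ (tilde (R := CommRingCat.of A) M') (le_pre_top A U)) ?_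
    exact map_gsec (R := CommRingCat.of A) g m

end Over

end Groth.Agent.CBC10
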