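import Groth.Agent.Lib.CBC10.Apps

/-!
# Fibre ranks after base change
-/

set_option autoImplicit false
set_option linter.style.haveILetI false
set_option linter.unusedSectionVars false
set_option maxHeartbeats 1000000

universe u

open CategoryTheory CategoryTheory.Limits AlgebraicGeometry Opposite

noncomputable section

namespace Groth.Agent.CBC10

variable {X Y : Scheme.{u}} {f : X ⟶ Y} {F : X.Modules} {U : Y.Opens} {hU : IsAffineOpen U}
  {P : ChainComplex (ModuleCat.{u} Γ(Y, U)) ℤ}

/-- The dimension of the cohomology over a field is the rank of the complex. -/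
theorem ComputesOn.finrank_bc_field [IsProper f] (hP : ComputesOn f F hU P) (hF : Coh.IsQCoh F) {B : Type u}
    [Field B] [Algebra Γ(Y, U) B] {X' : Scheme.{u}} [X'.Over (Spec (CommRingCat.of B))] {g : X' ⟶ X}
    (h : IsPullback g (X' ↘ Spec (CommRingCat.of B)) f
      (Spec.map (CommRingCat.ofHom (algebraMap Γ(Y, U) B)) ≫ hU.fromSpec)) (p : ℕ) :
    Module.finrank B (Coh.HH X' ((Scheme.Modules.pullback g).obj F) p) =
      CohIII.dRank P (-(p : ℤ)) (PrimeSpectrum.comap (algebraMap Γ(Y, U) B) ⟨⊥, Ideal.isPrime_bot⟩) := by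
  obtain ⟨ε, hε⟩ := hP.exists_bc hF h
  let j := ((FlatCxLib.tensorBcEquiv P B (sub_add_cancel (-(p : ℤ)) 1)).symm.trans (ε p))
  have hj : ∀ (c : B) m, j (c • m) = c • j m := fun c m => by
    obtain ⟨x, rfl⟩ := (FlatCxLib.tensorBcEquiv P B (sub_add_cancel (-(p : ℤ)) 1)).surjective m
    rw [← FlatCxLib.tensorBcEquiv_mul]
    simp only [j, AddEquiv.trans_apply, AddEquiv.symm_apply_apply]
    exact hε p c x
  refine ((j.toLinearEquiv hj).finrank_eq.symm).trans ?_
  refine Eq.trans ?_ (FlatCxLib.dRank_bcCx P B (-(p : ℤ)) ⟨⊥, Ideal.isPrime_bot⟩)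
  exact (FlatCxLib.finrank_homology_field (K := B) _ (-(p : ℤ))).symm

/-- The fibre dimensions do not change under base change. -/
theorem fiberRank_baseChange {Y' : Scheme.{u}} [IsProper f] [IsLocallyNoetherian Y] (g : Y' ⟶ Y)
    (hF : Coh.IsCoh F) (hfl : FlatMod.IsFlatOver f F) (y' : Y') (p : ℕ) :
    CohIII.fiberRank (pullback.snd f g) ((Scheme.Modules.pullback (pullback.fst f g)).obj F) p y' =
      CohIII.fiberRank f F p (g.base y') := by
  obtain ⟨U, hU, hyU, -⟩ := exists_isAffineOpen_mem_and_subset (X := Y) (x := g.base y') (U := ⊤) trivial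
  obtain ⟨P, h1, h2, -, -, hP⟩ := exists_complexOn (f := f) hF hfl hU
  let φ := Y.evaluation U (g.base y') hyU ≫ g.residueFieldMap y'
  letI : Algebra Γ(Y, U) (Y'.residueField y') := φ.hom.toAlgebra
  let Z := (pullback.snd f g).fiber y'
  letI : Z.Over (Spec (CommRingCat.of (Y'.residueField y'))) :=
    ⟨(pullback.snd f g).fiberToSpecResidueField y'⟩
  have h : IsPullback ((pullback.snd f g).fiberι y' ≫ pullback.fst f g)
      ((pullback.snd f g).fiberToSpecResidueField y') f (Y'.fromSpecResidueField y' ≫ g) :=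
    (IsPullback.of_hasPullback (pullback.snd f g) (Y'.fromSpecResidueField y')).paste_horiz
      (IsPullback.of_hasPullback f g)
  have hφ : Y'.fromSpecResidueField y' ≫ g =
      Spec.map (CommRingCat.ofHom (algebraMap Γ(Y, U) (Y'.residueField y'))) ≫ hU.fromSpec := by
    rw [← Scheme.Hom.SpecMap_residueFieldMap_fromSpecResidueField, fromSpecResidueField_eq (hU := hU) hyU,
      ← Category.assoc, ← Spec.map_comp]
    rfl
  rw [hφ] at h
  have key := hP.finrank_bc_field hF.1 (B := Y'.residueField y') (X' := Z)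
    (g := (pullback.snd f g).fiberι y' ≫ pullback.fst f g) h p
  let i : (Scheme.Modules.pullback ((pullback.snd f g).fiberι y')).obj
      ((Scheme.Modules.pullback (pullback.fst f g)).obj F) ≅
      (Scheme.Modules.pullback ((pullback.snd f g).fiberι y' ≫ pullback.fst f g)).obj F :=
    (Scheme.Modules.pullbackComp _ _).app F
  refine (((hmapLinEquiv (Y'.residueField y') i p).finrank_eq).trans key).trans ?_
  rw [hP.fiberRank_eq hyU hF.1 p]
  congr 1
  refine Eq.trans ?_ (comap_evaluation (hU := hU) hyU)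
  show PrimeSpectrum.comap ((g.residueFieldMap y').hom.comp (Y.evaluation U (g.base y') hyU).hom) _ = _
  rw [PrimeSpectrum.comap_comp_apply]
  congr 1
  exact PrimeSpectrum.ext ((RingHom.injective_iff_ker_eq_bot _).1 (RingHom.injective _))

end Groth.Agent.CBC10
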