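import Groth.Agent.Lib.FlatCx.Cochain
import Groth.Prelude.Def_ega3

/-!
# Flat complexes which are universally exact in high degrees

A quasi-isomorphism from a bounded above complex of flat modules to a complex of flat modules which stays exact
in high degrees after tensoring with any module stays a quasi-isomorphism after tensoring.
-/

set_option autoImplicit false

universe u

open CategoryTheory CategoryTheory.Limits Groth.Agent.DMod Groth.Agent.FlatCxLib
open scoped TensorProduct

noncomputable section

namespace Groth.Agent.CBC10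

variable {A : Type u} [CommRing A]

/-- A universally injective submodule of a flat module is flat. -/
theorem flat_of_pure {C F : Type u} [AddCommGroup C] [Module A C] [AddCommGroup F] [Module A F]
    [Module.Flat A F] (f : C →ₗ[A] F)
    (hf : ∀ (M : Type u) [AddCommGroup M] [Module A M], Function.Injective (f.rTensor M)) :
    Module.Flat A C := by
  rw [Module.Flat.iff_lTensor_preserves_injective_linearMap]
  intro M N _ _ _ _ i hi a b hab
  refine hf M (Module.Flat.lTensor_preserves_injective_linearMap (M := F) i hi ?_)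
  rw [← LinearMap.comp_apply, ← LinearMap.comp_apply, LinearMap.lTensor_comp_rTensor,
    ← LinearMap.rTensor_comp_lTensor, LinearMap.comp_apply, LinearMap.comp_apply, hab]

variable (E : CochainComplex (ModuleCat.{u} A) ℤ)

/-- Exactness at `j` after tensoring with every module. -/
def UnivExactAt (j : ℤ) : Prop :=
  ∀ (M : Type u) [AddCommGroup M] [Module A M] (x : E.X j ⊗[A] M),
    (cd E j (j + 1)).rTensor M x = 0 → ∃ y, (cd E (j - 1) j).rTensor M y = x

variable {E}

/-- Universally exact spots have flat cycles. -/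
theorem flat_ker_of_univExact (hF : ∀ i, Module.Flat A (E.X i)) {j : ℤ} (h : UnivExactAt E j) :
    Module.Flat A (LinearMap.ker (cd E j (j + 1))) := by
  let B := LinearMap.range (cd E (j - 1) j)
  let f : (E.X j ⧸ B) →ₗ[A] E.X (j + 1) :=
    B.liftQ (cd E j (j + 1)) (by rintro _ ⟨y, rfl⟩; exact cd_cd E _ _ _ y)
  have hf : ∀ (M : Type u) [AddCommGroup M] [Module A M], Function.Injective (f.rTensor M) := fun M _ _ => by
    refine (injective_iff_map_eq_zero _).2 fun z hz => ?_
    obtain ⟨x, rfl⟩ := LinearMap.rTensor_surjective M B.mkQ_surjective z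
    rw [← LinearMap.rTensor_comp_apply] at hz
    obtain ⟨y, rfl⟩ := h M x (by simpa [f, B.liftQ_mkQ] using hz)
    rw [← LinearMap.rTensor_comp_apply]
    have : B.mkQ ∘ₗ cd E (j - 1) j = 0 := LinearMap.ext fun y => (Submodule.Quotient.mk_eq_zero B).2 ⟨y, rfl⟩
    rw [this, LinearMap.rTensor_zero, LinearMap.zero_apply]
  haveI := hF (j + 1)
  haveI : Module.Flat A (E.X j ⧸ B) := flat_of_pure f hf
  haveI := hF j
  haveI hB : Module.Flat A (LinearMap.ker B.mkQ) := flat_ker_of_surjective B.mkQ_surjective
  have e : LinearMap.ker (cd E j (j + 1)) = LinearMap.ker B.mkQ := by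
    rw [Submodule.ker_mkQ]
    refine le_antisymm (fun x hx => ?_) (by rintro _ ⟨y, rfl⟩; exact cd_cd E _ _ _ y)
    obtain ⟨y, hy⟩ := h A (x ⊗ₜ 1) (by rw [LinearMap.rTensor_tmul, hx, TensorProduct.zero_tmul])
    obtain ⟨w, rfl⟩ := (TensorProduct.rid A (E.X (j - 1))).symm.surjective y
    refine ⟨w, ?_⟩
    have h' := congrArg (TensorProduct.rid A (E.X j)) hy
    simpa using h'
  rwa [e]

/-- An acyclic complex of flat modules, universally exact in high degrees, is universally exact. -/
theorem univExact_of_acyclic (hF : ∀ i, Module.Flat A (E.X i)) {b : ℤ} (hu : ∀ j, b < j → UnivExactAt E j)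
    (hac : ∀ p, E.ExactAt p) (j : ℤ) : UnivExactAt E j := by
  have hflat : ∀ p, Module.Flat A (LinearMap.ker (cd E p (p + 1))) := by
    suffices ∀ (n : ℕ) (p : ℤ), b + 1 ≤ p + n → Module.Flat A (LinearMap.ker (cd E p (p + 1))) from
      fun p => this (b + 1 - p).toNat p (by omega)
    intro n
    induction n with
    | zero => exact fun p hp => flat_ker_of_univExact hF (hu p (by omega))
    | succ n ih =>
      intro p hp
      have := ih (p + 1) (by omega)
      have := flat_ker_of_surjective (toKer_surjective E (i := p) rfl rfl (hac (p + 1)))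
      rwa [ker_toKer] at this
  intro M _ _ x hx
  have hsub : ∀ p, Function.Injective ((LinearMap.ker (cd E p (p + 1))).subtype.rTensor M) := fun p => by
    refine (LinearMap.lTensor_inj_iff_rTensor_inj _ _).1 ?_
    have := hflat (p + 1)
    refine LinearMap.lTensor_injective_of_exact_of_flat (toKer E p (p + 1) (p + 1 + 1))
      (toKer_surjective E rfl rfl (hac (p + 1))) _ (Submodule.injective_subtype _) ?_ M
    rw [← ker_toKer E p (p + 1) (p + 1 + 1)]
    exact LinearMap.exact_subtype_ker_map _
  obtain ⟨i, rfl⟩ : ∃ i, i + 1 = j := ⟨j - 1, by omega⟩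
  have h1 : (toKer E (i + 1) (i + 1 + 1) (i + 1 + 1 + 1)).rTensor M x = 0 := hsub (i + 1 + 1) <| by
    rw [map_zero, ← LinearMap.rTensor_comp_apply]
    exact hx
  obtain ⟨z, hz⟩ := (rTensor_exact M (f := (LinearMap.ker (cd E (i + 1) (i + 1 + 1))).subtype)
    (g := toKer E (i + 1) (i + 1 + 1) (i + 1 + 1 + 1))
    (by rw [← ker_toKer E (i + 1) (i + 1 + 1) (i + 1 + 1 + 1)]; exact LinearMap.exact_subtype_ker_map _)
    (toKer_surjective E rfl rfl (hac (i + 1 + 1))) x).1 h1
  obtain ⟨y, rfl⟩ := LinearMap.rTensor_surjective M (toKer_surjective E (i := i) rfl rfl (hac (i + 1))) z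
  have key : ∀ a, a = i → ∃ w : E.X a ⊗[A] M, (cd E a (i + 1)).rTensor M w = x := by
    rintro a rfl
    exact ⟨y, by rw [← hz, ← LinearMap.rTensor_comp_apply]; rfl⟩
  exact key _ (by omega)

/-- Exactness of the tensored complex, as universal exactness. -/
theorem univExactAt_iff (j : ℤ) :
    UnivExactAt E j ↔ ∀ M : ModuleCat.{u} A, (CohIII.tensorObj E M).ExactAt j := by
  constructor
  · intro h M
    rw [exactAt_iff_subsingleton, subsingleton_homology_iff _ (CochainComplex.prev ℤ j) (CochainComplex.next ℤ j)]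
    exact fun x hx => h M x hx
  · intro h M _ _ x hx
    exact (subsingleton_homology_iff (CohIII.tensorObj E (ModuleCat.of A M)) (CochainComplex.prev ℤ j)
      (CochainComplex.next ℤ j)).1 ((exactAt_iff_subsingleton _ j).1 (h _)) x hx

/-- The cone agrees with the target where the source vanishes. -/
theorem exactAt_mappingCone {C D : CochainComplex (ModuleCat.{u} A) ℤ} (φ : C ⟶ D) {b : ℤ}
    (hb : ∀ i, b < i → IsZero (C.X i)) (i : ℤ) (hi : b < i) (h : D.ExactAt i) :
    (CochainComplex.mappingCone φ).ExactAt i := by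
  open CochainComplex in
  have hk : ∀ k, i - 1 ≤ k → IsIso ((mappingCone.inr φ).f k) := fun k hk =>
    ⟨(mappingCone.snd φ).v k k (add_zero k), by simp, by
      rw [mappingCone.ext_from_iff φ (k + 1) k rfl]
      exact ⟨(hb (k + 1) (by omega)).eq_of_src _ _, by simp⟩⟩
  rw [HomologicalComplex.exactAt_iff' _ (i - 1) i (i + 1) (by simp) (by simp)] at h ⊢
  let α := CochainComplex.mappingCone.inr φ
  exact (ShortComplex.exact_iff_of_iso (ShortComplex.isoMk (@asIso _ _ _ _ (α.f (i - 1)) (hk _ le_rfl))
    (@asIso _ _ _ _ (α.f i) (hk _ (by omega))) (@asIso _ _ _ _ (α.f (i + 1)) (hk _ (by omega)))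
    (α.comm _ _) (α.comm _ _) :
      D.sc' (i - 1) i (i + 1) ≅ (CochainComplex.mappingCone φ).sc' (i - 1) i (i + 1))).1 h

/-- Tensoring preserves quasi-isomorphisms from bounded above flat complexes to flat complexes which are
universally exact in high degrees. -/
theorem quasiIso_tensor_of_univExact {C D : CochainComplex (ModuleCat.{u} A) ℤ}
    (hC : ∀ i, Module.Flat A (C.X i)) (hD : ∀ i, Module.Flat A (D.X i))
    {b : ℤ} (hbC : ∀ i, b < i → IsZero (C.X i)) {d : ℤ} (huD : ∀ i, d < i → UnivExactAt D i)
    (φ : C ⟶ D) [QuasiIso φ] (M : ModuleCat.{u} A) :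
    QuasiIso (((MonoidalCategory.tensorRight M).mapHomologicalComplex (ComplexShape.up ℤ)).map φ) := by
  let E := CochainComplex.mappingCone φ
  have hac : ∀ p, E.ExactAt p := (quasiIso_iff_acyclic φ).1 inferInstance
  let e : ∀ i, E.X i ≅ C.X (i + 1) ⊞ D.X i := fun i =>
    HomologicalComplex.homotopyCofiber.XIsoBiprod φ i (i + 1) rfl
  have hF : ∀ i, Module.Flat A (E.X i) := fun i =>
    have := hC (i + 1)
    have := hD i
    have : Module.Flat A ↑(ModuleCat.of A (↑(C.X (i + 1)) × ↑(D.X i))) := flat_prod
    Module.Flat.of_linearEquiv ((e i) ≪≫ ModuleCat.biprodIsoProd _ _).toLinearEquiv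
  have hT : ∀ (N : ModuleCat.{u} A) (p : ℤ),
      (CochainComplex.mappingCone (((MonoidalCategory.tensorRight N).mapHomologicalComplex
        (ComplexShape.up ℤ)).map φ)).ExactAt p ↔ (CohIII.tensorObj E N).ExactAt p := fun N p =>
    ⟨fun h => h.of_iso (CochainComplex.mappingCone.mapHomologicalComplexIso φ (MonoidalCategory.tensorRight N)).symm,
      fun h => h.of_iso (CochainComplex.mappingCone.mapHomologicalComplexIso φ (MonoidalCategory.tensorRight N))⟩
  have hu : ∀ i, max b d < i → UnivExactAt E i := fun i hi => (univExactAt_iff i).2 fun N => (hT N i).1 <|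
    exactAt_mappingCone _ (b := b) (fun k hk => (MonoidalCategory.tensorRight N).map_isZero (hbC k hk)) i
      (by omega) ((univExactAt_iff i).1 (huD i (by omega)) N)
  rw [quasiIso_iff_acyclic]
  exact fun p => (hT M p).2 ((univExactAt_iff p).1 (univExact_of_acyclic hF hu hac p) M)

end Groth.Agent.CBC10
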