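import Groth.Agent.Lib.DMod.Homology
import Mathlib.RingTheory.Noetherian.Basic
import Mathlib.LinearAlgebra.Finsupp.LinearCombination
import Mathlib.Algebra.Category.ModuleCat.Abelian
import Mathlib.Algebra.Homology.HomologicalComplex

/-!
# Finite free resolutions of bounded above complexes with finite cohomology

Over a noetherian ring a cochain complex which is exact in high degrees and has finitely generated cohomology
receives a quasi-isomorphism from a bounded above complex of finite free modules.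
-/

set_option autoImplicit false

universe u

open CategoryTheory CategoryTheory.Limits Groth.Agent.DMod

noncomputable section

namespace Groth.Agent.CBC10

variable {A : Type u} [CommRing A] (K : CochainComplex (ModuleCat.{u} A) ℤ)

/-- A finite free term with its map to the complex and a module of cycles. -/
structure Stage (i : ℤ) where
  n : ℕ
  φ : (Fin n → A) →ₗ[A] K.X i
  Z : Submodule A (Fin n → A)
  cycle : ∀ e ∈ Z, K.d i (i + 1) (φ e) = 0

/-- What the differential between two consecutive stages satisfies. -/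
structure StepSpec (i : ℤ) (t : Stage K i) (s : Stage K (i + 1)) (d : (Fin t.n → A) →ₗ[A] (Fin s.n → A)) :
    Prop where
  mem : ∀ e, d e ∈ s.Z
  ker : LinearMap.ker d = t.Z
  comm : ∀ e, s.φ (d e) = K.d i (i + 1) (t.φ e)
  span : ∀ e ∈ s.Z, ∀ x : K.X i, s.φ e = K.d i (i + 1) x →
    ∃ c y, d c = e ∧ t.φ c + K.d (i - 1) i y = x

/-- Finitely many cycles generate the cycles modulo boundaries. -/
theorem exists_cycles_gen (i : ℤ) [Module.Finite A (K.homology i)] :
    ∃ G : Finset (K.X i), (∀ g ∈ G, K.d i (i + 1) g = 0) ∧ ∀ x : K.X i, K.d i (i + 1) x = 0 →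
      x ∈ Submodule.span A (G : Set (K.X i)) ⊔ LinearMap.range (K.d (i - 1) i).hom := by
  classical
  obtain ⟨T, hT⟩ := Module.Finite.fg_top (R := A) (M := K.homology i)
  choose z hz using homologyπ_surjective K i
  refine ⟨T.image fun t => K.iCycles i (z t), fun g hg => ?_, fun x hx => ?_⟩
  · obtain ⟨t, -, rfl⟩ := Finset.mem_image.1 hg
    exact d_iCycles _ _ _
  obtain ⟨c, rfl⟩ := exists_cycle (CochainComplex.next ℤ i) x hx
  have key : ∀ η, ∃ c', K.homologyπ i c' = η ∧ K.iCycles i c' ∈
      Submodule.span A ((T.image fun t => K.iCycles i (z t) : Finset _) : Set (K.X i)) := by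
    intro η
    have hη : η ∈ Submodule.span A (T : Set (K.homology i)) := hT ▸ trivial
    induction hη using Submodule.span_induction with
    | mem t ht => exact ⟨z t, hz t, Submodule.subset_span (Finset.mem_image_of_mem _ ht)⟩
    | zero => exact ⟨0, map_zero _, by rw [map_zero]; exact zero_mem _⟩
    | add a b _ _ ha hb =>
      obtain ⟨c₁, h₁, h₁'⟩ := ha
      obtain ⟨c₂, h₂, h₂'⟩ := hb
      exact ⟨c₁ + c₂, by rw [map_add, h₁, h₂], by rw [map_add]; exact add_mem h₁' h₂'⟩
    | smul a t _ ha =>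
      obtain ⟨c₁, h₁, h₁'⟩ := ha
      exact ⟨a • c₁, by rw [map_smul, h₁], by rw [map_smul]; exact Submodule.smul_mem _ _ h₁'⟩
  obtain ⟨c', h, h'⟩ := key (K.homologyπ i c)
  obtain ⟨y, hy⟩ := (homologyπ_eq_zero_iff (CochainComplex.prev ℤ i) (c - c')).1
    (by rw [map_sub, h, sub_self])
  rw [map_sub, eq_sub_iff_add_eq] at hy
  exact Submodule.mem_sup.2 ⟨_, h', _, ⟨y, rfl⟩, (add_comm _ _).trans hy⟩

variable [IsNoetherianRing A]

/-- One descending step. -/
theorem exists_step (i : ℤ) [Module.Finite A (K.homology i)] (s : Stage K (i + 1)) :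
    ∃ (t : Stage K i) (d : (Fin t.n → A) →ₗ[A] (Fin s.n → A)), StepSpec K i t s d := by
  classical
  let P := (Fin s.n → A) × K.X i
  let S : Submodule A P :=
    LinearMap.ker ((s.φ ∘ₗ LinearMap.fst A _ _) - (K.d i (i + 1)).hom ∘ₗ LinearMap.snd A _ _) ⊓
      s.Z.comap (LinearMap.fst A _ _)
  have hS : ∀ p : P, p ∈ S ↔ s.φ p.1 = K.d i (i + 1) p.2 ∧ p.1 ∈ s.Z := fun p => by
    simp only [S, Submodule.mem_inf, LinearMap.mem_ker, LinearMap.sub_apply, LinearMap.comp_apply,
      Submodule.mem_comap, sub_eq_zero]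
    exact Iff.rfl
  obtain ⟨T, hT⟩ := IsNoetherian.noetherian (S.map (LinearMap.fst A (Fin s.n → A) (K.X i)))
  have hlift : ∀ e ∈ T, ∃ p ∈ S, p.1 = e := fun e he => by
    have : e ∈ S.map (LinearMap.fst A (Fin s.n → A) (K.X i)) := hT ▸ Submodule.subset_span he
    exact this
  choose p hp hp1 using hlift
  obtain ⟨G, hG, hG'⟩ := exists_cycles_gen K i
  let L : Finset P := T.attach.image (fun e => p e.1 e.2) ∪ G.image (fun g => ((0 : Fin s.n → A), g))
  have hL : ∀ q ∈ L, q ∈ S := fun q hq => by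
    rcases Finset.mem_union.1 hq with h | h <;> obtain ⟨a, ha, rfl⟩ := Finset.mem_image.1 h
    · exact hp _ _
    · exact (hS _).2 ⟨by simp [hG a ha], zero_mem _⟩
  let v : Fin L.card → P := fun k => (L.equivFin.symm k).1
  let Φ : (Fin L.card → A) →ₗ[A] P := Fintype.linearCombination A v
  have hΦ : LinearMap.range Φ = Submodule.span A (L : Set P) := by
    rw [Fintype.range_linearCombination]
    congr 1
    ext q
    exact ⟨fun ⟨k, hk⟩ => hk ▸ (L.equivFin.symm k).2, fun hq => ⟨L.equivFin ⟨q, hq⟩, by simp [v]⟩⟩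
  have hΦS : ∀ c, Φ c ∈ S := fun c =>
    Submodule.span_le.2 hL (hΦ ▸ LinearMap.mem_range_self Φ c)
  let d := LinearMap.fst A _ _ ∘ₗ Φ
  refine ⟨⟨L.card, LinearMap.snd A _ _ ∘ₗ Φ, LinearMap.ker d, fun c hc => ?_⟩, d,
    ⟨fun c => ((hS _).1 (hΦS c)).2, rfl, fun c => ((hS _).1 (hΦS c)).1, ?_⟩⟩
  · exact ((hS _).1 (hΦS c)).1.symm.trans ((congrArg s.φ hc).trans (map_zero _))
  intro e he x hx
  have hpS : ((e, x) : P) ∈ S := (hS _).2 ⟨hx, he⟩
  have heT : e ∈ Submodule.span A (T : Set (Fin s.n → A)) := hT ▸ ⟨_, hpS, rfl⟩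
  obtain ⟨q, hq, hqe⟩ : ∃ q ∈ Submodule.span A (L : Set P), q.1 = e := by
    have : Submodule.span A (T : Set (Fin s.n → A)) ≤
        (Submodule.span A (L : Set P)).map (LinearMap.fst A _ _) :=
      Submodule.span_le.2 fun a ha => ⟨p a ha, Submodule.subset_span (Finset.mem_union_left _
        (Finset.mem_image.2 ⟨⟨a, ha⟩, Finset.mem_attach _ _, rfl⟩)), hp1 a ha⟩
    exact this heT
  have hqS : q ∈ S := Submodule.span_le.2 hL hq
  obtain ⟨g, hg, _, ⟨y, rfl⟩, hgy⟩ := Submodule.mem_sup.1 (hG' (x - q.2) (by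
    rw [map_sub, sub_eq_zero, ← ((hS _).1 hqS).1, hqe, hx]))
  have hg' : ((0, g) : P) ∈ Submodule.span A (L : Set P) := by
    have : Submodule.span A (G : Set (K.X i)) ≤
        (Submodule.span A (L : Set P)).comap (LinearMap.inr A (Fin s.n → A) (K.X i)) :=
      Submodule.span_le.2 fun a ha => Submodule.subset_span (Finset.mem_union_right _
        (Finset.mem_image.2 ⟨a, ha, rfl⟩))
    exact this hg
  obtain ⟨c, hc⟩ : q + (0, g) ∈ LinearMap.range Φ := hΦ ▸ add_mem hq hg'
  refine ⟨c, y, ?_, ?_⟩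
  · change (Φ c).1 = e
    rw [hc, Prod.fst_add, hqe, add_zero]
  · change (Φ c).2 + _ = x
    rw [hc, Prod.snd_add, add_assoc]
    exact (congrArg (q.2 + ·) hgy).trans (add_sub_cancel q.2 x)

/-- The zero stage. -/
abbrev Stage.nil (i : ℤ) : Stage K i := ⟨0, 0, ⊥, fun e he => by simp [(Submodule.mem_bot A).1 he]⟩

variable (b : ℤ) (hfin : ∀ i, Module.Finite A (K.homology i))

open Classical in
/-- The stages, zero above `b`. -/
def stg (i : ℤ) : Stage K i :=
  if _h : b < i then Stage.nil K i else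
    (@exists_step A _ K _ i (hfin i) (stg (i + 1))).choose
termination_by (b + 1 - i).toNat
decreasing_by omega

variable (hb : ∀ i, b < i → K.ExactAt i)

include hb in
theorem exists_diff (i : ℤ) : ∃ d, StepSpec K i (stg K b hfin i) (stg K b hfin (i + 1)) d := by
  by_cases h : b < i
  · have h1 : stg K b hfin i = Stage.nil K i := by rw [stg, dif_pos h]
    have h2 : stg K b hfin (i + 1) = Stage.nil K (i + 1) := by rw [stg, dif_pos (by omega)]
    rw [h1, h2]
    refine ⟨0, ⟨fun e => zero_mem _, ?_, fun e => ?_, fun e he x hx => ?_⟩⟩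
    · exact Submodule.ext fun e => ⟨fun _ => (Subsingleton.elim e 0) ▸ zero_mem _, fun _ => rfl⟩
    · exact (map_zero _).trans ((congrArg (K.d i (i + 1)) (map_zero (Stage.nil K i).φ)).trans (map_zero _)).symm
    · obtain ⟨y, hy⟩ := (subsingleton_homology_iff K (CochainComplex.prev ℤ i) (CochainComplex.next ℤ i)).1
        ((exactAt_iff_subsingleton K i).1 (hb i h)) x
        (hx.symm.trans ((congrArg (Stage.nil K (i + 1)).φ ((Submodule.mem_bot A).1 he)).trans (map_zero _)))
      exact ⟨0, y, (map_zero _).trans ((Submodule.mem_bot A).1 he).symm, (congrArg (· + _) (map_zero _)).trans ((zero_add _).trans hy)⟩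
  · have h1 : stg K b hfin i = (@exists_step A _ K _ i (hfin i) (stg K b hfin (i + 1))).choose := by
      rw [stg, dif_neg h]
    rw [h1]
    exact (@exists_step A _ K _ i (hfin i) (stg K b hfin (i + 1))).choose_spec

include hb hfin in
/-- A complex exact above `b` with finite cohomology over a noetherian ring receives a quasi-isomorphism
from a bounded above complex of finite free modules. -/
theorem exists_finiteFree_quasiIso :
    ∃ (E : CochainComplex (ModuleCat.{u} A) ℤ) (φ : E ⟶ K),
      (∀ i, Module.Finite A (E.X i) ∧ Module.Free A (E.X i)) ∧ (∀ i, b < i → IsZero (E.X i)) ∧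
      QuasiIso φ := by
  choose d hd using exists_diff K b hfin hb
  let N : ℤ → ℕ := fun i => (stg K b hfin i).n
  have hdd : ∀ i e, d (i + 1) (d i e) = 0 := fun i e => by
    rw [← LinearMap.mem_ker, (hd (i + 1)).ker]
    exact (hd i).mem e
  let E : CochainComplex (ModuleCat.{u} A) ℤ :=
    CochainComplex.of (fun i => ModuleCat.of A (Fin (N i) → A)) (fun i => ModuleCat.ofHom (d i))
      (fun i => by ext1; exact LinearMap.ext (hdd i))
  have hE : ∀ i, E.d i (i + 1) = ModuleCat.ofHom (d i) := fun i =>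
    CochainComplex.of_d (fun i => ModuleCat.of A (Fin (N i) → A)) (fun i => ModuleCat.ofHom (d i)) i
  let φ : E ⟶ K :=
    { f := fun i => ModuleCat.ofHom (stg K b hfin i).φ
      comm' := fun i j h => by
        obtain rfl : i + 1 = j := h
        rw [hE]
        ext1
        exact LinearMap.ext fun e => ((hd i).comm e).symm }
  refine ⟨E, φ, fun i => ⟨inferInstanceAs (Module.Finite A (Fin (N i) → A)),
    inferInstanceAs (Module.Free A (Fin (N i) → A))⟩, fun i hi => ?_, ⟨fun j => ?_⟩⟩
  · have h1 : N i = 0 := by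
      change (stg K b hfin i).n = 0
      rw [stg, dif_pos hi]
    have : IsEmpty (Fin (N i)) := by rw [h1]; infer_instance
    exact @ModuleCat.isZero_of_subsingleton _ _ (ModuleCat.of A (Fin (N i) → A))
      (inferInstanceAs (Subsingleton (Fin (N i) → A)))
  rw [quasiIsoAt_iff_isIso_homologyMap, ConcreteCategory.isIso_iff_bijective]
  obtain ⟨j, rfl⟩ : ∃ k, k + 1 = j := ⟨j - 1, by omega⟩
  refine homologyMap_bijective_of φ (i := j) (k := j + 1 + 1) (by simp) (by simp)
    (fun x hx => ?_) fun w y hw hy => ?_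
  · obtain ⟨c, y, hc, hy⟩ := (hd (j + 1)).span 0 (zero_mem _) x ((map_zero _).trans hx.symm)
    obtain ⟨y', hy'⟩ : ∃ y' : K.X j, K.d j (j + 1) y' = K.d (j + 1 - 1) (j + 1) y := by
      have aux : ∀ a, a = j → ∀ z : K.X a, ∃ y' : K.X j, K.d j (j + 1) y' = K.d a (j + 1) z := by
        rintro a rfl z
        exact ⟨z, rfl⟩
      exact aux _ (by omega) y
    refine ⟨c, y', ?_, ?_⟩
    · rw [hE]; exact hc
    · rw [hy']; exact hy
  · have hw' : w ∈ LinearMap.ker (d (j + 1)) := by rw [hE] at hw; exact hw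
    rw [(hd (j + 1)).ker] at hw'
    obtain ⟨c, _, hc, -⟩ := (hd j).span w hw' y hy.symm
    exact ⟨c, by rw [hE]; exact hc⟩

end Groth.Agent.CBC10
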