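import Groth.Agent.Lib.CBC10.TensorSec
import Groth.Agent.Lib.CBC10.FlatExact
import Groth.Agent.Lib.CBC10.Resolve
import Groth.Agent.Lib.CohFound.ProperFinite
import Groth.Agent.Lib.CohFound.Qcqs
import Groth.Agent.Lib.TensorNat17.Basic
import Groth.Agent.Lib.FibDepth5.Data
import Mathlib.LinearAlgebra.TensorProduct.Pi

/-!
# The finite free complex computing `M ↦ H^p(X, F ⊗_A M)`

`K(F) ⊗_A M` is the Čech complex of `F ⊗_A M`; for `F` flat and coherent, `X` proper over a noetherian `A`, a
bounded above complex of finite free modules does the same.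
-/

set_option autoImplicit false
set_option linter.style.haveILetI false
set_option linter.unusedSectionVars false
set_option maxHeartbeats 1000000

universe u

open CategoryTheory CategoryTheory.Limits AlgebraicGeometry TopologicalSpace Opposite TensorProduct

noncomputable section

namespace Groth.Agent.CBC10

open Groth.Agent.CohFound

variable (A : Type u) [CommRing A] {X : Scheme.{u}} [X.Over (Spec (CommRingCat.of A))]

attribute [local instance] secA

variable {ι : Type u} (U : ι → X.Opens) (F : X.Modules)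

/-- The comparison in degree `n`. -/
def thetaL (M : ModuleCat.{u} A) (n : ℕ) :
    (∀ a : Fin (n + 1) → ι, Γ(F, tupOpen (X := sp X) U a)) ⊗[A] M →ₗ[A]
      ∀ a : Fin (n + 1) → ι, Γ(CohIII.tensorA A F M, tupOpen (X := sp X) U a) :=
  LinearMap.pi fun a => (beta A F M (tupOpen (X := sp X) U a)) ∘ₗ
    (LinearMap.proj (R := A) (φ := fun a : Fin (n + 1) → ι => Γ(F, tupOpen (X := sp X) U a)) a).rTensor M

lemma thetaL_tmul (M : ModuleCat.{u} A) (n : ℕ) (x : ∀ a : Fin (n + 1) → ι, Γ(F, tupOpen (X := sp X) U a))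
    (m : M) (a : Fin (n + 1) → ι) :
    thetaL A U F M n (x ⊗ₜ m) a = beta A F M (tupOpen (X := sp X) U a) (x a ⊗ₜ m) := rfl

lemma thetaL_dL (M : ModuleCat.{u} A) (n : ℕ)
    (z : (∀ a : Fin (n + 1) → ι, Γ(F, tupOpen (X := sp X) U a)) ⊗[A] M) :
    thetaL A U F M (n + 1) ((dL A U F n).rTensor M z) =
      dL A U (CohIII.tensorA A F M) n (thetaL A U F M n z) := by
  induction z using TensorProduct.induction_on with
  | zero => simp only [map_zero]
  | add a b ha hb => simp only [map_add, ha, hb]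
  | tmul x m =>
    funext a
    rw [LinearMap.rTensor_tmul, thetaL_tmul, dL_apply, dL_apply, TensorProduct.sum_tmul, map_sum]
    refine Finset.sum_congr rfl fun i _ => ?_
    rw [← TensorProduct.smul_tmul', map_zsmul, thetaL_tmul, ← beta_res]
    rfl

/-- The comparison `K(F) ⊗_A M ⟶ K(F ⊗_A M)`, componentwise. -/
def thetaF (M : ModuleCat.{u} A) :
    ∀ i : ℤ, (CohIII.tensorObj (K A U F) M).X i ⟶ KX A U (CohIII.tensorA A F M) i
  | .ofNat n => ModuleCat.ofHom (thetaL A U F M n)
  | .negSucc _ => 0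

/-- The comparison `K(F) ⊗_A M ⟶ K(F ⊗_A M)`. -/
def theta (M : ModuleCat.{u} A) : CohIII.tensorObj (K A U F) M ⟶ K A U (CohIII.tensorA A F M) where
  f := thetaF A U F M
  comm' i j h := by
    obtain rfl : i + 1 = j := h
    have h1 : (K A U F).d i (i + 1) = Kd A U F i := CochainComplex.of_d (KX A U F) (Kd A U F) i
    have h2 : (K A U (CohIII.tensorA A F M)).d i (i + 1) = Kd A U (CohIII.tensorA A F M) i :=
      CochainComplex.of_d (KX A U _) (Kd A U _) i
    cases i with
    | negSucc m =>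
      haveI : Subsingleton ((K A U F).X (Int.negSucc m)) := inferInstanceAs (Subsingleton PUnit.{u + 1})
      haveI : Subsingleton ((CohIII.tensorObj (K A U F) M).X (Int.negSucc m)) :=
        inferInstanceAs (Subsingleton ((K A U F).X (Int.negSucc m) ⊗[A] M))
      exact (ModuleCat.isZero_of_subsingleton _).eq_of_src _ _
    | ofNat n =>
      change thetaF A U F M (Int.ofNat n) ≫ (K A U (CohIII.tensorA A F M)).d (Int.ofNat n) (Int.ofNat n + 1) =
        (MonoidalCategory.tensorRight M).map ((K A U F).d (Int.ofNat n) (Int.ofNat n + 1)) ≫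
          thetaF A U F M (Int.ofNat n + 1)
      rw [h1, h2]
      exact ModuleCat.hom_ext (LinearMap.ext fun z => (thetaL_dL A U F M n z).symm)

lemma theta_apply (M : ModuleCat.{u} A) (n : ℕ)
    (z : (∀ a : Fin (n + 1) → ι, Γ(F, tupOpen (X := sp X) U a)) ⊗[A] M) :
    (theta A U F M).f (n : ℤ) z = thetaL A U F M n z := rfl

variable {A U F}

theorem thetaL_bijective [Finite ι] (hF : Coh.IsQCoh F)
    (hU : ∀ (n : ℕ) (a : Fin (n + 1) → ι), IsAffineOpen (tupOpen (X := sp X) U a)) (M : ModuleCat.{u} A)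
    (n : ℕ) : Function.Bijective (thetaL A U F M n) := by
  classical
  haveI := Fintype.ofFinite (Fin (n + 1) → ι)
  let e := (TensorProduct.piLeft A M (fun a : Fin (n + 1) → ι => Γ(F, tupOpen (X := sp X) U a))).trans
    (LinearEquiv.piCongrRight fun a => LinearEquiv.ofBijective (beta A F M (tupOpen (X := sp X) U a))
      (bijective_beta A hF M (hU n a)))
  have : ∀ z, thetaL A U F M n z = e z := fun z => by
    induction z using TensorProduct.induction_on with
    | zero => rw [map_zero, map_zero]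
    | add a b ha hb => rw [map_add, map_add, ha, hb]
    | tmul x m =>
      funext a
      rw [thetaL_tmul]
      simp [e]
  rw [show ⇑(thetaL A U F M n) = ⇑e from funext this]
  exact e.bijective

theorem isIso_theta [Finite ι] (hF : Coh.IsQCoh F)
    (hU : ∀ (n : ℕ) (a : Fin (n + 1) → ι), IsAffineOpen (tupOpen (X := sp X) U a)) (M : ModuleCat.{u} A) :
    IsIso (theta A U F M) := by
  haveI : ∀ i, IsIso ((theta A U F M).f i) := fun i => by
    cases i with
    | negSucc m =>
      haveI : Subsingleton ((K A U F).X (Int.negSucc m)) := inferInstanceAs (Subsingleton PUnit.{u + 1})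
      exact isIso_of_source_target_iso_zero _
        (@ModuleCat.isZero_of_subsingleton _ _ ((CohIII.tensorObj (K A U F) M).X (Int.negSucc m))
          (inferInstanceAs (Subsingleton ((K A U F).X (Int.negSucc m) ⊗[A] M)))).isoZero
        (isZero_K_of_neg A U _ _ (Int.negSucc_lt_zero m)).isoZero
    | ofNat n =>
      rw [ConcreteCategory.isIso_iff_bijective]
      exact thetaL_bijective hF hU M n
  exact HomologicalComplex.Hom.isIso_of_components _

variable (A F) in
/-- The map on `F ⊗_A -` induced by a module map. -/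
abbrev psi {M M' : ModuleCat.{u} A} (g : M ⟶ M') : CohIII.tensorA A F M ⟶ CohIII.tensorA A F M' :=
  M2.tensorMap (𝟙 F) ((Scheme.Modules.pullback (X ↘ Spec (CommRingCat.of A))).map
    ((tilde.functor (CommRingCat.of A)).map g))

lemma thetaL_natural {M M' : ModuleCat.{u} A} (g : M ⟶ M') (n : ℕ)
    (z : (∀ a : Fin (n + 1) → ι, Γ(F, tupOpen (X := sp X) U a)) ⊗[A] M) (a : Fin (n + 1) → ι) :
    thetaL A U F M' n (g.hom.lTensor _ z) a =
      (psi A F g).app (tupOpen (X := sp X) U a) (thetaL A U F M n z a) := by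
  induction z using TensorProduct.induction_on with
  | zero =>
    rw [map_zero, map_zero, Pi.zero_apply, map_zero]
    exact (map_zero _).symm
  | add x y hx hy =>
    rw [map_add, map_add, Pi.add_apply, hx, hy, map_add, Pi.add_apply]
    exact (map_add _ _ _).symm
  | tmul x m =>
    rw [LinearMap.lTensor_tmul, thetaL_tmul, thetaL_tmul]
    exact (beta_map A F g _ (x a ⊗ₜ[A] m)).symm

theorem theta_natural {M M' : ModuleCat.{u} A} (g : M ⟶ M') :
    CohIII.tensorMap (K A U F) g ≫ theta A U F M' = theta A U F M ≫ Kmap A U (psi A F g) := by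
  apply HomologicalComplex.hom_ext
  intro i
  cases i with
  | negSucc m => exact (isZero_K_of_neg A U _ _ (Int.negSucc_lt_zero m)).eq_of_tgt _ _
  | ofNat n => exact ModuleCat.hom_ext (LinearMap.ext fun z => funext fun a => thetaL_natural g n z a)

section Proper

/-- The intersections in a family of affines of a separated scheme are affine. -/
theorem isAffineOpen_tupOpen [X.IsSeparated] (h : ∀ i, IsAffineOpen (U i)) (n : ℕ) (a : Fin (n + 1) → ι) :
    IsAffineOpen (tupOpen (X := sp X) U a) :=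
  IsAffineOpen.iInf fun k => h (a k)

variable (X) in
/-- A finite affine cover. -/
theorem exists_finite_affine_cover [CompactSpace X] :
    ∃ (ι : Type u) (_ : Finite ι) (U : ι → X.Opens), (⊤ : X.Opens) ≤ iSup U ∧ ∀ i, IsAffineOpen (U i) := by
  let 𝒰 := X.affineCover.finiteSubcover
  refine ⟨𝒰.I₀, inferInstance, fun i => (𝒰.f i).opensRange, fun x _ => ?_, fun i => ?_⟩
  · obtain ⟨y, hy⟩ := 𝒰.covers x
    exact Opens.mem_iSup.2 ⟨_, y, hy⟩
  · exact isAffineOpen_opensRange _

variable [Finite ι] (hcov : (⊤ : X.Opens) ≤ iSup U)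
  (hU : ∀ (n : ℕ) (a : Fin (n + 1) → ι), IsAffineOpen (tupOpen (X := sp X) U a))

include hU in
theorem acyc_tensorA (hF : Coh.IsQCoh F) (M : ModuleCat.{u} A) :
    Acyc (Z := sp X) U ((abF X).obj (CohIII.tensorA A F M)) :=
  acyc_of_isQCoh (M2.isQCoh_tensor hF (M1.isQCoh_pullback _ (inferInstance : Coh.IsQCoh (tilde (R := CommRingCat.of A) M)))) hU

/-- `H^p(K(F) ⊗_A M) = H^p(X, F ⊗_A M)`. -/
def tEquiv (hF : Coh.IsQCoh F) (M : ModuleCat.{u} A) (p : ℕ) :
    CohIII.T (K A U F) (p : ℤ) M ≃ₗ[A] Coh.HH X (CohIII.tensorA A F M) p :=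
  (@asIso _ _ _ _ (theta A U F M) (isIso_theta hF hU M) |> (HomologicalComplex.homologyFunctor _ _ (p : ℤ)).mapIso).toLinearEquiv.trans
    (hhEquiv hcov (acyc_tensorA hU hF M) p)

lemma tEquiv_natural (hF : Coh.IsQCoh F) {M M' : ModuleCat.{u} A} (g : M ⟶ M') (p : ℕ)
    (x : CohIII.T (K A U F) (p : ℤ) M) :
    tEquiv hcov hU hF M' p ((CohIII.TFun (K A U F) (p : ℤ)).map g x) =
      Sheaf.H.map ((SheafOfModules.toSheaf X.ringCatSheaf).map (psi A F g)) p (tEquiv hcov hU hF M p x) := by
  refine Eq.trans ?_ (hhEquiv_natural hcov (acyc_tensorA hU hF M) (acyc_tensorA hU hF M') (psi A F g) p _)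
  refine congrArg (hhEquiv hcov (acyc_tensorA hU hF M') p) ?_
  have h := congrArg (fun f => HomologicalComplex.homologyMap f (p : ℤ)) (theta_natural (U := U) (F := F) g)
  simp only [HomologicalComplex.homologyMap_comp] at h
  exact ConcreteCategory.congr_hom h x

include hcov hU in
theorem univExactAt_K (hF : Coh.IsQCoh F) {d : ℕ}
    (hd : ∀ (N : X.Modules), N.IsQuasicoherent → ∀ p, d ≤ p → Subsingleton (Hc ((abF X).obj N) p ⊤))
    (i : ℤ) (hi : (d : ℤ) ≤ i) : UnivExactAt (K A U F) i := by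
  obtain ⟨p, rfl⟩ := Int.eq_ofNat_of_zero_le (le_trans (Int.natCast_nonneg d) hi)
  refine (univExactAt_iff (p : ℤ)).2 fun M => (DMod.exactAt_iff_subsingleton _ _).2 ?_
  have h : Subsingleton (Coh.HH X (CohIII.tensorA A F M) p) :=
    (subsingleton_HH_iff _ p).2 (hd _
      (M2.isQCoh_tensor hF (M1.isQCoh_pullback _ (inferInstance : Coh.IsQCoh (tilde (R := CommRingCat.of A) M))))
      p (by omega))
  exact (tEquiv hcov hU hF M p).toEquiv.subsingleton

theorem flat_of_bijective_algebraMap {R M : Type u} [CommRing R] [Algebra A R] [AddCommGroup M] [Module A M]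
    [Module R M] [IsScalarTower A R M] (h : Function.Bijective (algebraMap A R)) [Module.Flat R M] :
    Module.Flat A M := by
  haveI : Module.Flat A R :=
    Module.Flat.of_linearEquiv (LinearEquiv.ofBijective (Algebra.linearMap A R) h).symm
  exact Module.Flat.trans A R M

theorem flat_secA (hF : Coh.IsQCoh F) (hfl : FlatMod.IsFlatOver (X ↘ Spec (CommRingCat.of A)) F)
    {W : X.Opens} (hW : IsAffineOpen W) : Module.Flat A Γ(F, W) := by
  haveI := hF
  let f := X ↘ Spec (CommRingCat.of A)
  have h := FibDepth5.flat_sections f F hfl (isAffineOpen_top _) hW (le_pre_top A W)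
  letI : Algebra A Γ(Spec (CommRingCat.of A), ⊤) := (Scheme.ΓSpecIso (CommRingCat.of A)).inv.hom.toAlgebra
  letI := FlatH4.secModuleOver f F ⊤ W (le_pre_top A W)
  haveI : IsScalarTower A Γ(Spec (CommRingCat.of A), ⊤) Γ(F, W) :=
    IsScalarTower.of_algebraMap_smul fun _ _ => rfl
  haveI := h
  exact flat_of_bijective_algebraMap (R := Γ(Spec (CommRingCat.of A), ⊤))
    (Scheme.ΓSpecIso (CommRingCat.of A)).commRingCatIsoToRingEquiv.symm.bijective

include hU in
theorem flat_K (hF : Coh.IsQCoh F) (hfl : FlatMod.IsFlatOver (X ↘ Spec (CommRingCat.of A)) F) (i : ℤ) :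
    Module.Flat A ((K A U F).X i) := by
  classical
  cases i with
  | negSucc m =>
    change Module.Flat A PUnit.{u + 1}
    infer_instance
  | ofNat n =>
    haveI := Fintype.ofFinite (Fin (n + 1) → ι)
    haveI := fun a : Fin (n + 1) → ι => flat_secA hF hfl (hU n a)
    exact Module.Flat.of_linearEquiv
      (DirectSum.linearEquivFunOnFintype A (Fin (n + 1) → ι) fun a => Γ(F, tupOpen (X := sp X) U a)).symm

variable [IsNoetherianRing A] [IsProper (X ↘ Spec (CommRingCat.of A))]

include hcov hU in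
theorem finite_homology_K (hF : Coh.IsCoh F) (i : ℤ) : Module.Finite A ((K A U F).homology i) := by
  cases i with
  | negSucc m =>
    have := ModuleCat.subsingleton_of_isZero ((HomologicalComplex.ExactAt.of_isZero
      (isZero_K_of_neg A U F _ (Int.negSucc_lt_zero m))).isZero_homology)
    infer_instance
  | ofNat n =>
    haveI := finite_HH_of_isProper (A := A) F hF n
    exact Module.Finite.equiv (hhEquiv (A := A) hcov (acyc_of_isQCoh hF.1 hU) n).symm

end Proper

section Generic

/-- A natural family of additive equivalences, as a natural isomorphism. -/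
theorem nonempty_natIso {C : Type*} [Category C] {B : Type u} [CommRing B] (T : C ⥤ ModuleCat.{u} B)
    (G : C ⥤ AddCommGrpCat.{u}) (c : ∀ M, T.obj M ≃+ G.obj M)
    (h : ∀ {M M'} (g : M ⟶ M') (x : T.obj M), c M' (T.map g x) = G.map g (c M x)) :
    Nonempty (T ⋙ forget₂ (ModuleCat.{u} B) AddCommGrpCat.{u} ≅ G) :=
  ⟨NatIso.ofComponents (fun M => AddEquiv.toAddCommGrpIso (X := (T ⋙ forget₂ _ _).obj M) (Y := G.obj M) (c M))
    fun g => AddCommGrpCat.hom_ext (AddMonoidHom.ext fun x => h g x)⟩

/-- An isomorphism on cohomology. -/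
def hmapEquiv {Y : Scheme.{u}} {P Q : Y.Modules} (i : P ≅ Q) (p : ℕ) : Coh.HH Y P p ≃+ Coh.HH Y Q p where
  toFun := Sheaf.H.map ((SheafOfModules.toSheaf Y.ringCatSheaf).map i.hom) p
  invFun := Sheaf.H.map ((SheafOfModules.toSheaf Y.ringCatSheaf).map i.inv) p
  left_inv x := (Sheaf.H.map_comp_apply _ _ x).symm.trans ((congrArg (fun t => Sheaf.H.map t p x)
    ((SheafOfModules.toSheaf Y.ringCatSheaf).mapIso i).hom_inv_id).trans (Sheaf.H.map_id_apply x))
  right_inv x := (Sheaf.H.map_comp_apply _ _ x).symm.trans ((congrArg (fun t => Sheaf.H.map t p x)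
    ((SheafOfModules.toSheaf Y.ringCatSheaf).mapIso i).inv_hom_id).trans (Sheaf.H.map_id_apply x))
  map_add' := map_add _

lemma hAb_map_apply {Y : Scheme.{u}} {P Q : Y.Modules} (φ : P ⟶ Q) (p : ℕ) (y : Coh.HH Y P p) :
    (CohIII.HAb Y p).map φ y = Sheaf.H.map ((SheafOfModules.toSheaf Y.ringCatSheaf).map φ) p y := rfl

lemma hmap_square {Y : Scheme.{u}} {P Q P' Q' : Y.Modules} (i : P ≅ P') (j : Q ≅ Q') (φ : P ⟶ Q) (φ' : P' ⟶ Q')
    (h : φ ≫ j.hom = i.hom ≫ φ') (p : ℕ) (y : Coh.HH Y P p) :
    hmapEquiv j p (Sheaf.H.map ((SheafOfModules.toSheaf Y.ringCatSheaf).map φ) p y) =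
      (CohIII.HAb Y p).map φ' (hmapEquiv i p y) := by
  rw [hAb_map_apply]
  exact (Sheaf.H.map_comp_apply _ _ y).symm.trans ((congrArg (fun t => Sheaf.H.map t p y)
    (((SheafOfModules.toSheaf Y.ringCatSheaf).map_comp _ _).symm.trans
      ((congrArg (SheafOfModules.toSheaf Y.ringCatSheaf).map h).trans
        ((SheafOfModules.toSheaf Y.ringCatSheaf).map_comp _ _)))).trans (Sheaf.H.map_comp_apply _ _ y))

end Generic

section Main

variable (A F)
variable [IsNoetherianRing A] [IsProper (X ↘ Spec (CommRingCat.of A))]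

/-- There is a bounded above complex of finite free modules computing `M ↦ H^p(X, F ⊗_A M)`,
linearly and naturally. -/
theorem exists_complex (hF : Coh.IsCoh F) (hfl : FlatMod.IsFlatOver (X ↘ Spec (CommRingCat.of A)) F) :
    ∃ L : CochainComplex (ModuleCat.{u} A) ℤ,
      (∀ i, Module.Finite A (L.X i) ∧ Module.Free A (L.X i)) ∧ (∃ b : ℤ, ∀ i, b < i → IsZero (L.X i)) ∧
      (∀ (i : ℤ), i < 0 → ∀ M : ModuleCat.{u} A, Subsingleton (CohIII.T L i M)) ∧
      ∃ e : ∀ (p : ℕ) (M : ModuleCat.{u} A), CohIII.T L (p : ℤ) M ≃ₗ[A] Coh.HH X (CohIII.tensorA A F M) p,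
        ∀ (p : ℕ) {M M' : ModuleCat.{u} A} (g : M ⟶ M') (x : CohIII.T L (p : ℤ) M),
          e p M' ((CohIII.TFun L (p : ℤ)).map g x) =
            Sheaf.H.map ((SheafOfModules.toSheaf X.ringCatSheaf).map (psi A F g)) p (e p M x) := by
  haveI := isNoetherian_of_isProper (X ↘ Spec (CommRingCat.of A))
  haveI : X.IsSeparated := ⟨by
    rw [← terminal.comp_from (X ↘ Spec (CommRingCat.of A))]
    infer_instance⟩
  obtain ⟨ι, _, U, hcov, hU₀⟩ := exists_finite_affine_cover X
  have hU := isAffineOpen_tupOpen (U := U) hU₀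
  obtain ⟨d, hd⟩ := exists_vanishing_bound_compact (U := (⊤ : X.Opens)) isCompact_univ
  have hu : ∀ i, (d : ℤ) < i → UnivExactAt (K A U F) i := fun i hi => univExactAt_K hcov hU hF.1 hd i hi.le
  have hfin := finite_homology_K (A := A) hcov hU hF
  have hex : ∀ i, (d : ℤ) < i → (K A U F).ExactAt i := fun i hi => by
    have h := (univExactAt_iff i).1 (hu i hi) (ModuleCat.of A A)
    exact h.of_iso (((NatIso.mapHomologicalComplex (MonoidalCategory.rightUnitorNatIso (ModuleCat.{u} A))
      (ComplexShape.up ℤ)).app (K A U F)) ≪≫ (Functor.mapHomologicalComplexIdIso _ _).app (K A U F))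
  obtain ⟨L, φ, hL, hLb, hφ⟩ := exists_finiteFree_quasiIso (K A U F) (d : ℤ) hfin hex
  haveI := hφ
  have hLflat : ∀ i, Module.Flat A (L.X i) := fun i => by
    haveI := (hL i).2
    infer_instance
  have hq : ∀ M : ModuleCat.{u} A, QuasiIso (((MonoidalCategory.tensorRight M).mapHomologicalComplex
      (ComplexShape.up ℤ)).map φ) :=
    quasiIso_tensor_of_univExact hLflat (flat_K hU hF.1 hfl) hLb hu φ
  let q : ∀ (i : ℤ) (M : ModuleCat.{u} A), CohIII.T L i M ≅ CohIII.T (K A U F) i M := fun i M =>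
    haveI : QuasiIsoAt (((MonoidalCategory.tensorRight M).mapHomologicalComplex (ComplexShape.up ℤ)).map φ) i :=
      (hq M).quasiIsoAt i
    asIso (HomologicalComplex.homologyMap
      (((MonoidalCategory.tensorRight M).mapHomologicalComplex (ComplexShape.up ℤ)).map φ) i)
  refine ⟨L, hL, ⟨(d : ℤ), hLb⟩, fun i hi M => ?_,
    fun p M => (q (p : ℤ) M).toLinearEquiv.trans (tEquiv hcov hU hF.1 M p), fun p M M' g x => ?_⟩
  · have h0 : IsZero (CohIII.T (K A U F) i M) :=
      (HomologicalComplex.exactAt_iff_isZero_homology _ _).1 (HomologicalComplex.ExactAt.of_isZero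
        ((MonoidalCategory.tensorRight M).map_isZero (isZero_K_of_neg A U F i hi)))
    exact ModuleCat.subsingleton_of_isZero (h0.of_iso (q i M))
  · refine Eq.trans ?_ (tEquiv_natural hcov hU hF.1 g p _)
    refine congrArg (tEquiv hcov hU hF.1 M' p) ?_
    have hn : CohIII.tensorMap L g ≫
          ((MonoidalCategory.tensorRight M').mapHomologicalComplex (ComplexShape.up ℤ)).map φ =
        ((MonoidalCategory.tensorRight M).mapHomologicalComplex (ComplexShape.up ℤ)).map φ ≫
          CohIII.tensorMap (K A U F) g :=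
      ((NatTrans.mapHomologicalComplex ((MonoidalCategory.tensoringRight (ModuleCat.{u} A)).map g)
        (ComplexShape.up ℤ)).naturality φ).symm
    have h := congrArg (fun f => HomologicalComplex.homologyMap f (p : ℤ)) hn
    simp only [HomologicalComplex.homologyMap_comp] at h
    exact ConcreteCategory.congr_hom h x

/-- `tensorAFunctor` is `M ↦ F ⊗_A M` up to the symmetry. -/
def tensorAIso (M : ModuleCat.{u} A) : (CohIII.tensorAFunctor A F).obj M ≅ CohIII.tensorA A F M :=
  M2.tensorComm (pullM A M) F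

omit [IsNoetherianRing A] [IsProper (X ↘ Spec (CommRingCat.of A))] in
lemma tensorAIso_natural {M M' : ModuleCat.{u} A} (g : M ⟶ M') :
    (CohIII.tensorAFunctor A F).map g ≫ (tensorAIso A F M').hom = (tensorAIso A F M).hom ≫ psi A F g := by
  have h := M2.tensorComm_natural ((Scheme.Modules.pullback (X ↘ Spec (CommRingCat.of A))).map
    ((tilde.functor (CommRingCat.of A)).map g)) (𝟙 F)
  have hmap : (CohIII.tensorAFunctor A F).map g = M2.tensorMap ((Scheme.Modules.pullback (X ↘ Spec (CommRingCat.of A))).map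
      ((tilde.functor (CommRingCat.of A)).map g)) (𝟙 F) := by
    refine congrArg (M2.shf X).map ?_
    rw [CategoryTheory.Functor.map_id]
    exact (MonoidalCategory.tensorHom_id _ _).symm
  rw [hmap]
  exact h

omit [IsNoetherianRing A] [IsProper (X ↘ Spec (CommRingCat.of A))] in
lemma psi_tensorAIso {M M' : ModuleCat.{u} A} (g : M ⟶ M') :
    psi A F g ≫ (tensorAIso A F M').inv = (tensorAIso A F M).inv ≫ (CohIII.tensorAFunctor A F).map g := by
  rw [Iso.eq_inv_comp, ← Category.assoc, ← tensorAIso_natural, Category.assoc, Iso.hom_inv_id, Category.comp_id]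

/-- The functor `M ↦ H^p(X, F ⊗_A M)` is `M ↦ H^p(L ⊗_A M)` for the complex `L`. -/
theorem exists_complex_functor (hF : Coh.IsCoh F) (hfl : FlatMod.IsFlatOver (X ↘ Spec (CommRingCat.of A)) F) :
    ∃ L : CochainComplex (ModuleCat.{u} A) ℤ,
      (∀ i, Module.Finite A (L.X i) ∧ Module.Free A (L.X i)) ∧ (∃ b : ℤ, ∀ i, b < i → IsZero (L.X i)) ∧
      (∀ (i : ℤ), i < 0 → ∀ M : ModuleCat.{u} A, Subsingleton (CohIII.T L i M)) ∧
      ∀ p : ℕ, Nonempty (CohIII.TFun L (p : ℤ) ⋙ forget₂ (ModuleCat.{u} A) AddCommGrpCat.{u} ≅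
        CohIII.tensorAFunctor A F ⋙ CohIII.HAb X p) := by
  obtain ⟨L, hL, hb, hneg, e, he⟩ := exists_complex A F hF hfl
  refine ⟨L, hL, hb, hneg, fun p => nonempty_natIso _ _ (fun M => (e p M).toAddEquiv.trans
    (hmapEquiv (tensorAIso A F M).symm p)) fun {M M'} g x => ?_⟩
  refine Eq.trans (congrArg (hmapEquiv (tensorAIso A F M').symm p) (he p g x)) ?_
  exact hmap_square _ _ _ _ (psi_tensorAIso A F g) p (e p M x)

end Main

end Groth.Agent.CBC10
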