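import Groth.Agent.Lib.CBC10.Cls
import Groth.Agent.Lib.CohFound.CechElt
import Groth.Agent.Lib.CohFound.HHBridge
import Groth.Agent.Lib.CohFound.Loc
import Groth.Agent.Lib.CechEdge8.SheafEdge
import Groth.Prelude.Def_KLin
import Mathlib.Algebra.Category.ModuleCat.Abelian

/-!
# The Čech complex of modules on a scheme over an affine base, and its cohomology

`K A U N` is the Čech complex of the `O_X`-module `N` for the family `U`, as a complex of `A`-modules on `ℤ`.
For an acyclic cover its cohomology is `Coh.HH X N`, linearly and naturally in `N`.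
-/

set_option autoImplicit false
set_option maxHeartbeats 1000000

universe u

open CategoryTheory CategoryTheory.Limits TopologicalSpace Opposite AlgebraicGeometry CategoryTheory.Abelian

noncomputable section

namespace Groth.Agent.CBC10

open Groth.Agent.CohFound

/-- A bijection followed by an equivalence. -/
def combine {C H : AddCommGrpCat.{u}} {E : Type u} [AddCommGroup E] (f : C →+ H) (hf : Function.Bijective f)
    (s : H ≃+ E) : C ≃+ E := (AddEquiv.ofBijective f hf).trans s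

section Generic
variable {C : Type u} [SmallCategory C] [HasPullbacks C] {J : GrothendieckTopology C} {U : C} {ι : Type u}
  {Y : ι → Over U} {e : ∀ (P : Cᵒᵖ ⥤ AddCommGrpCat.{u}) (p : ℕ), CohCx.cechH P Y p →+ CohSite.HU (CechEdge.shf J P) p U}

/-- The edge map as an equivalence, for acyclic families. -/
def edgeExt (he : CechEdge.IsEdge J Y e) {G : Sheaf J AddCommGrpCat.{u}}
    (hG : ∀ (p : ℕ) (a : Fin (p + 1) → ι) (q : ℕ),
      Subsingleton (CohSite.HU G (q + 1) (∏ᶜ fun k => Y (a k)).left))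
    (p : ℕ) : CohCx.cechH G.obj Y p ≃+ Ext.{u} ((siteFree J).obj U) G p :=
  combine (H := Sheaf.H' G p U) (CechEdge.edgeSh e G p) (CechEdge8.edgeSh_bijective he p G hG) (siteExt G p U)

lemma edgeExt_natural (he : CechEdge.IsEdge J Y e) {G G' : Sheaf J AddCommGrpCat.{u}}
    (hG : ∀ (p : ℕ) (a : Fin (p + 1) → ι) (q : ℕ),
      Subsingleton (CohSite.HU G (q + 1) (∏ᶜ fun k => Y (a k)).left))
    (hG' : ∀ (p : ℕ) (a : Fin (p + 1) → ι) (q : ℕ),
      Subsingleton (CohSite.HU G' (q + 1) (∏ᶜ fun k => Y (a k)).left))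
    (φ : G ⟶ G') (p : ℕ) (x : CohCx.cechH G.obj Y p) :
    edgeExt he hG' p (CechEdge.cechHMap Y φ.hom p x) = (edgeExt he hG p x).comp (Ext.mk₀ φ) (add_zero p) :=
  (congrArg (siteExt G' p U) (CechEdge8.edgeSh_natural he φ p x)).trans (siteExt_natural φ p U _)
end Generic

section Edge

variable {Z : TopCat.{u}} {ι : Type u} (U : ι → Opens Z) {W : Opens Z} (hU : ∀ i, U i ≤ W)

lemma pi_map_square {I : Type u} {A B A' B' : I → AddCommGrpCat.{u}} (α : ∀ i, A i ⟶ B i)
    (e : ∀ i, A i ≅ A' i) (e' : ∀ i, B i ≅ B' i) (β : ∀ i, A' i ⟶ B' i)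
    (h : ∀ i, α i ≫ (e' i).hom = (e i).hom ≫ β i) :
    Limits.Pi.map α ≫ (Pi.mapIso e').hom = (Pi.mapIso e).hom ≫ Limits.Pi.map β := by
  refine Pi.hom_ext _ _ fun i => ?_
  simp [h]

/-- The Čech complex on the site and on the space. -/
def cxIso (P : (Opens Z)ᵒᵖ ⥤ AddCommGrpCat.{u}) :
    (CechEdge.cxFunctor (famOver U hU)).obj P ≅ cechCx U P :=
  (AlgebraicTopology.alternatingCofaceMapComplex _).mapIso (cechObjIso U hU P)

lemma cxIso_natural {P Q : (Opens Z)ᵒᵖ ⥤ AddCommGrpCat.{u}} (φ : P ⟶ Q) :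
    (CechEdge.cxFunctor (famOver U hU)).map φ ≫ (cxIso U hU Q).hom =
      (cxIso U hU P).hom ≫ (cechComplexFunctor U).map φ := by
  apply HomologicalComplex.hom_ext
  intro n
  simp only [HomologicalComplex.comp_f]
  exact pi_map_square (fun a : Fin (n + 1) → ι => φ.app (op (∏ᶜ (famOver U hU ∘ a)).left))
    (fun a => P.mapIso (eqToIso (congrArg op (pi_famOver_eq U hU a))))
    (fun a => Q.mapIso (eqToIso (congrArg op (pi_famOver_eq U hU a))))
    (fun a => φ.app (op (∏ᶜ (U ∘ a)))) fun a => (φ.naturality _).symm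

lemma cvalHom_natural {P Q : (Opens Z)ᵒᵖ ⥤ AddCommGrpCat.{u}} (φ : P ⟶ Q) {n : ℕ} (a : Fin (n + 1) → ι) :
    ((cechComplexFunctor U).map φ).f n ≫ cvalHom U Q a = cvalHom U P a ≫ φ.app (op (tupOpen U a)) := by
  have e : ((cechComplexFunctor U).map φ).f n ≫
      Pi.π (fun a : Fin (n + 1) → ι => Q.obj (op (∏ᶜ (U ∘ a)))) a =
      Pi.π (fun a : Fin (n + 1) → ι => P.obj (op (∏ᶜ (U ∘ a)))) a ≫ φ.app (op (∏ᶜ (U ∘ a))) := by
    simp [cechComplexFunctor, FormalCoproduct.cochainComplexFunctor]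
    exact Limits.Pi.map_π _ a
  refine (Category.assoc _ _ _).symm.trans ((congrArg (· ≫ _) e).trans ?_)
  refine (Category.assoc _ _ _).trans (Eq.trans ?_ (Category.assoc _ _ _).symm)
  exact congrArg (_ ≫ ·) (φ.naturality _).symm

/-- Čech cochains, elementwise. -/
def evC (P : (Opens Z)ᵒᵖ ⥤ AddCommGrpCat.{u}) (n : ℕ) :
    (cechCx U P).X n ≃+ ∀ a : Fin (n + 1) → ι, P.obj (op (tupOpen U a)) :=
  AddEquiv.ofBijective (AddMonoidHom.mk' (fun x a => cval U P a x) fun x y => funext fun a =>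
      map_add (cvalHom U P a).hom x y)
    ⟨fun _ _ h => cval_ext U P (congrFun h), fun f => (exists_cval U P f).imp fun _ hx => funext hx⟩

lemma evC_apply (P : (Opens Z)ᵒᵖ ⥤ AddCommGrpCat.{u}) {n : ℕ} (x : (cechCx U P).X n) (a : Fin (n + 1) → ι) :
    evC U P n x a = cval U P a x := rfl

end Edge

section Global

variable {Z : TopCat.{u}} {ι : Type u} (U : ι → Opens Z)

lemma exists_edge (hcov : (⊤ : Opens Z) ≤ iSup U) :
    ∃ e, CechEdge.IsEdge (Opens.grothendieckTopology Z) (famOver U fun _ => le_top (α := Opens Z)) e :=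
  CechEdge8.exists_isEdge _ _ (ofArrows_famOver_mem U _ hcov)

/-- Sheaves without higher cohomology on the intersections. -/
def Acyc (G : CohTop.Ab Z) : Prop :=
  ∀ (p : ℕ) (a : Fin (p + 1) → ι) (q : ℕ), Subsingleton (Hc G (q + 1) (tupOpen U a))

variable {U}

variable (hcov : (⊤ : Opens Z) ≤ iSup U)

/-- The edge map as an equivalence. -/
def edgeHc {G : CohTop.Ab Z} (hG : Acyc U G) (p : ℕ) :
    CohCx.cechH G.obj (famOver U fun _ => le_top (α := Opens Z)) p ≃+ Hc G p ⊤ :=
  edgeExt (exists_edge U hcov).choose_spec (fun n a q => by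
    rw [pi_famOver_left]; exact (subsingleton_HU_iff G (q + 1) _).2 (hG n a q)) p

lemma edgeHc_natural {G G' : CohTop.Ab Z} (hG : Acyc U G) (hG' : Acyc U G') (φ : G ⟶ G') (p : ℕ)
    (x : CohCx.cechH G.obj (famOver U fun _ => le_top (α := Opens Z)) p) :
    edgeHc hcov hG' p (CechEdge.cechHMap (famOver U fun _ => le_top (α := Opens Z)) φ.hom p x) =
      mp φ p ⊤ (edgeHc hcov hG p x) :=
  edgeExt_natural (exists_edge U hcov).choose_spec _ _ φ p x

/-- Čech cochains on the space, to the site. -/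
def cechToSite (P : (Opens Z)ᵒᵖ ⥤ AddCommGrpCat.{u}) (p : ℕ) :
    (cechCx U P).homology p ≃+ CohCx.cechH P (famOver U fun _ => le_top (α := Opens Z)) p :=
  ((HomologicalComplex.homologyFunctor _ _ p).mapIso (cxIso U _ P)).symm.addCommGroupIsoToAddEquiv

lemma cechToSite_natural {P Q : (Opens Z)ᵒᵖ ⥤ AddCommGrpCat.{u}} (φ : P ⟶ Q) (p : ℕ)
    (x : (cechCx U P).homology p) :
    cechToSite Q p (HomologicalComplex.homologyMap ((cechComplexFunctor U).map φ) p x) =
      CechEdge.cechHMap (famOver U fun _ => le_top (α := Opens Z)) φ p (cechToSite P p x) := by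
  have hsq : (cechComplexFunctor U).map φ ≫ (cxIso U (fun _ => le_top) Q).inv =
      (cxIso U (fun _ => le_top) P).inv ≫ (CechEdge.cxFunctor (famOver U fun _ => le_top)).map φ := by
    rw [Iso.eq_inv_comp, ← Category.assoc, ← cxIso_natural, Category.assoc, Iso.hom_inv_id, Category.comp_id]
  have h := congrArg (fun f => HomologicalComplex.homologyMap f p) hsq
  simp only [HomologicalComplex.homologyMap_comp] at h
  exact ConcreteCategory.congr_hom h x

/-- The comparison of Čech and sheaf cohomology for an acyclic cover. -/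
def cechHEquiv {G : CohTop.Ab Z} (hG : Acyc U G) (p : ℕ) :
    (cechCx U G.obj).homology p ≃+ CohTop.H G p :=
  ((cechToSite G.obj p).trans (edgeHc hcov hG p)).trans (hExt G p).symm

lemma cechHEquiv_natural {G G' : CohTop.Ab Z} (hG : Acyc U G) (hG' : Acyc U G') (φ : G ⟶ G') (p : ℕ)
    (x : (cechCx U G.obj).homology p) :
    cechHEquiv hcov hG' p (HomologicalComplex.homologyMap ((cechComplexFunctor U).map φ.hom) p x) =
      Sheaf.H.map φ p (cechHEquiv hcov hG p x) := by
  apply (hExt G' p).injective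
  refine ((hExt G' p).apply_symm_apply _).trans ?_
  refine Eq.trans ?_ (hExt_map φ p _).symm
  refine Eq.trans ?_ (congrArg (mp φ p ⊤) ((hExt G p).apply_symm_apply _)).symm
  exact (congrArg (edgeHc hcov hG' p) (cechToSite_natural φ.hom p x)).trans (edgeHc_natural hcov hG hG' φ p _)

end Global

section Module

variable (A : Type u) [CommRing A] {X : Scheme.{u}} [X.Over (Spec (CommRingCat.of A))]

/-- The base ring in the functions on an open. -/
def ρ (W : X.Opens) : A →+* Γ(X, W) :=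
  (X.presheaf.map (homOfLE (le_top : W ≤ ⊤)).op).hom.comp (Coh.toGlobal (X ↘ Spec (CommRingCat.of A)))

lemma ρ_res {W W' : X.Opens} (h : W' ≤ W) (a : A) : M1.ores h (ρ A W a) = ρ A W' a :=
  M1.rs_rs h _

/-- Sections over an open form a module over the base ring. -/
abbrev secA (N : X.Modules) (W : X.Opens) : Module A Γ(N, W) := Module.compHom _ (ρ A W)

attribute [local instance] secA

lemma secA_smul (N : X.Modules) (W : X.Opens) (a : A) (s : Γ(N, W)) : a • s = ρ A W a • s := rfl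

/-- Restriction, linearly. -/
def resL (N : X.Modules) {W W' : X.Opens} (h : W' ≤ W) : Γ(N, W) →ₗ[A] Γ(N, W') where
  toFun := M1.mres N h
  map_add' := map_add _
  map_smul' a s := by
    rw [secA_smul, secA_smul, RingHom.id_apply, M1.mres_smul, ρ_res]

/-- A morphism on sections, linearly. -/
def appL {N N' : X.Modules} (φ : N ⟶ N') (W : X.Opens) : Γ(N, W) →ₗ[A] Γ(N', W) where
  toFun := φ.app W
  map_add' := map_add _
  map_smul' a s := Scheme.Modules.Hom.app_smul φ _ _

lemma appL_resL {N N' : X.Modules} (φ : N ⟶ N') {W W' : X.Opens} (h : W' ≤ W) (s : Γ(N, W)) :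
    appL A φ W' (resL A N h s) = resL A N' h (appL A φ W s) :=
  M1.app_mres φ h s

lemma smulMod_app (N : X.Modules) (a : A) (W : X.Opens) (s : Γ(N, W)) :
    (Formal.smulMod A N a).app W s = a • s :=
  KLin.smulModΓ_app_apply N _ W s

variable {ι : Type u} (U : ι → X.Opens)

/-- The terms of the Čech complex. -/
def KX (N : X.Modules) : ℤ → ModuleCat.{u} A
  | .ofNat n => ModuleCat.of A (∀ a : Fin (n + 1) → ι, Γ(N, tupOpen (X := sp X) U a))
  | .negSucc _ => ModuleCat.of A PUnit.{u + 1}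

/-- The differential. -/
def dL (N : X.Modules) (n : ℕ) :
    (∀ a : Fin (n + 1) → ι, Γ(N, tupOpen (X := sp X) U a)) →ₗ[A]
      (∀ a : Fin (n + 2) → ι, Γ(N, tupOpen (X := sp X) U a)) :=
  LinearMap.pi fun a => ∑ i : Fin (n + 2), (-1 : ℤ) ^ (i : ℕ) •
    (resL A N (tupOpen_le (X := sp X) U a i)).comp
      (LinearMap.proj (φ := fun a : Fin (n + 1) → ι => Γ(N, tupOpen (X := sp X) U a)) (a ∘ i.succAbove))

lemma dL_apply (N : X.Modules) (n : ℕ) (x : ∀ a : Fin (n + 1) → ι, Γ(N, tupOpen (X := sp X) U a))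
    (a : Fin (n + 2) → ι) :
    dL A U N n x a = ∑ i : Fin (n + 2), (-1 : ℤ) ^ (i : ℕ) •
      resL A N (tupOpen_le (X := sp X) U a i) (x (a ∘ i.succAbove)) := by
  simp [dL, LinearMap.sum_apply]

lemma evC_d (N : X.Modules) (n : ℕ) (x : (cechCx (X := sp X) U ((abF X).obj N).obj).X n) :
    evC (Z := sp X) U ((abF X).obj N).obj (n + 1) ((cechCx (X := sp X) U ((abF X).obj N).obj).d n (n + 1) x) =
      dL A U N n (evC (Z := sp X) U ((abF X).obj N).obj n x) := by
  funext a
  rw [evC_apply, cval_d, dL_apply]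
  rfl

lemma dL_dL (N : X.Modules) (n : ℕ) (x : ∀ a : Fin (n + 1) → ι, Γ(N, tupOpen (X := sp X) U a)) :
    dL A U N (n + 1) (dL A U N n x) = 0 := by
  obtain ⟨y, rfl⟩ := (evC (Z := sp X) U ((abF X).obj N).obj n).surjective x
  rw [← evC_d, ← evC_d]
  exact (congrArg _ (ConcreteCategory.congr_hom ((cechCx (X := sp X) U ((abF X).obj N).obj).d_comp_d n (n + 1) (n + 2)) y)).trans
    (map_zero _)

/-- The differential on all degrees. -/
def Kd (N : X.Modules) : ∀ i : ℤ, KX A U N i ⟶ KX A U N (i + 1)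
  | .ofNat n => ModuleCat.ofHom (dL A U N n)
  | .negSucc _ => 0

/-- The Čech complex of a module. -/
def K (N : X.Modules) : CochainComplex (ModuleCat.{u} A) ℤ :=
  CochainComplex.of (KX A U N) (Kd A U N) fun
    | .ofNat n => ModuleCat.hom_ext (LinearMap.ext (dL_dL A U N n))
    | .negSucc _ => zero_comp

lemma K_d_nat (N : X.Modules) (n : ℕ) (x : (K A U N).X (n : ℤ)) :
    (K A U N).d (n : ℤ) ((n + 1 : ℕ) : ℤ) x = dL A U N n x :=
  ConcreteCategory.congr_hom (CochainComplex.of_d (KX A U N) (Kd A U N) (n : ℤ)) x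

lemma K_d_neg (N : X.Modules) : (K A U N).d (-1) 0 = 0 :=
  CochainComplex.of_d (KX A U N) (Kd A U N) (-1)

lemma isZero_K_of_neg (N : X.Modules) (i : ℤ) (hi : i < 0) : IsZero ((K A U N).X i) := by
  cases i with
  | ofNat n => exact absurd hi (by simp)
  | negSucc m =>
    exact @ModuleCat.isZero_of_subsingleton _ _ (KX A U N (Int.negSucc m))
      (inferInstanceAs (Subsingleton PUnit.{u + 1}))

/-- The component of a morphism. -/
def mapF {N N' : X.Modules} (φ : N ⟶ N') : ∀ i : ℤ, KX A U N i ⟶ KX A U N' i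
  | .ofNat n => ModuleCat.ofHom (LinearMap.piMap fun a : Fin (n + 1) → ι => appL A φ (tupOpen (X := sp X) U a))
  | .negSucc _ => 0

/-- Functoriality of the Čech complex. -/
def Kmap {N N' : X.Modules} (φ : N ⟶ N') : K A U N ⟶ K A U N' where
  f := mapF A U φ
  comm' i j h := by
    obtain rfl : i + 1 = j := h
    have h1 : (K A U N).d i (i + 1) = Kd A U N i := CochainComplex.of_d (KX A U N) (Kd A U N) i
    have h2 : (K A U N').d i (i + 1) = Kd A U N' i := CochainComplex.of_d (KX A U N') (Kd A U N') i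
    rw [h1, h2]
    cases i with
    | negSucc m => exact comp_zero.trans (zero_comp).symm
    | ofNat n =>
      refine ModuleCat.hom_ext (LinearMap.ext fun x => funext fun a => ?_)
      refine (dL_apply A U N' n _ a).trans ?_
      refine Eq.trans ?_ (congrArg (appL A φ _) (dL_apply A U N n x a)).symm
      rw [map_sum]
      refine Finset.sum_congr rfl fun i _ => ?_
      rw [map_zsmul, appL_resL]
      rfl

lemma Kmap_apply {N N' : X.Modules} (φ : N ⟶ N') (n : ℕ) (x : (K A U N).X (n : ℤ)) (a : Fin (n + 1) → ι) :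
    (Kmap A U φ).f (n : ℤ) x a = φ.app (tupOpen (X := sp X) U a) (x a) := rfl

lemma next_cast (p : ℕ) : (ComplexShape.up ℤ).next (p : ℤ) = ((p + 1 : ℕ) : ℤ) := by simp

theorem exists_hEquiv (N : X.Modules) (p : ℕ) :
    ∃ ε : (cechCx (X := sp X) U ((abF X).obj N).obj).homology p ≃+ (K A U N).homology (p : ℤ),
      ∀ (x : Zg (cechCx (X := sp X) U ((abF X).obj N).obj) p (p + 1))
        (x' : Zm (K A U N) (p : ℤ) ((p + 1 : ℕ) : ℤ)),
        x'.1 = evC (Z := sp X) U ((abF X).obj N).obj p x.1 →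
          ε (clsG _ (CochainComplex.next ℕ p) x) = clsM _ (next_cast p) x' := by
  set C := cechCx (X := sp X) U ((abF X).obj N).obj
  let B : Set (C.X p) := {x | ∃ y, C.d ((ComplexShape.up ℕ).prev p) p y = x}
  let B' : Set ((K A U N).X (p : ℤ)) :=
    {x | ∃ y, (K A U N).d ((ComplexShape.up ℤ).prev (p : ℤ)) (p : ℤ) y = x}
  have hS : ∀ x, x ∈ Zg C p (p + 1) ↔
      (evC (Z := sp X) U _ p x : (K A U N).X (p : ℤ)) ∈ (Zm (K A U N) (p : ℤ) ((p + 1 : ℕ) : ℤ)).toAddSubgroup := by
    intro x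
    change C.d p (p + 1) x = 0 ↔ (K A U N).d (p : ℤ) ((p + 1 : ℕ) : ℤ) _ = 0
    exact ⟨fun h => (K_d_nat A U N p _).trans ((evC_d A U N p x).symm.trans
        ((congrArg (evC (Z := sp X) U _ (p + 1)) h).trans (map_zero _))),
      fun h => (evC (Z := sp X) U ((abF X).obj N).obj (p + 1)).injective
        (((evC_d A U N p x).trans ((K_d_nat A U N p _).symm.trans h)).trans (map_zero _).symm)⟩
  have hB : ∀ x, x ∈ B ↔ (evC (Z := sp X) U _ p x : (K A U N).X (p : ℤ)) ∈ B' := by
    intro x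
    cases p with
    | zero =>
      have e1 : C.d ((ComplexShape.up ℕ).prev 0) 0 = 0 := C.shape _ _ (by simp)
      have e2 : (K A U N).d ((ComplexShape.up ℤ).prev ((0 : ℕ) : ℤ)) ((0 : ℕ) : ℤ) = 0 := by
        rw [show (ComplexShape.up ℤ).prev ((0 : ℕ) : ℤ) = -1 by simp]
        exact K_d_neg A U N
      constructor
      · rintro ⟨y, rfl⟩
        refine ⟨0, ?_⟩
        rw [e1, e2]
        exact (map_zero (evC (Z := sp X) U _ 0)).symm
      · rintro ⟨y, hy⟩
        rw [e2] at hy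
        exact ⟨0, by rw [e1]; exact ((evC (Z := sp X) U _ 0).injective (hy.symm.trans (map_zero _).symm)).symm⟩
    | succ n =>
      have key : ∀ a a' : ℤ, a = a' →
          ((∃ y, (K A U N).d a ((n + 1 : ℕ) : ℤ) y = (evC (Z := sp X) U _ (n + 1) x : (K A U N).X ((n + 1 : ℕ) : ℤ))) ↔
           ∃ y, (K A U N).d a' ((n + 1 : ℕ) : ℤ) y = (evC (Z := sp X) U _ (n + 1) x : (K A U N).X ((n + 1 : ℕ) : ℤ))) := by
        rintro a _ rfl; rfl
      change (∃ y, C.d _ (n + 1) y = x) ↔ ∃ y, (K A U N).d _ _ y = _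
      rw [key _ (n : ℤ) (by simp), CochainComplex.prev_nat_succ]
      constructor
      · rintro ⟨y, rfl⟩
        exact ⟨evC _ _ n y, (K_d_nat A U N n _).trans (evC_d A U N n y).symm⟩
      · rintro ⟨y, hy⟩
        obtain ⟨z, rfl⟩ := (evC (Z := sp X) U ((abF X).obj N).obj n).surjective y
        exact ⟨z, (evC _ _ _).injective ((evC_d A U N n z).trans ((K_d_nat A U N n _).symm.trans hy))⟩
  obtain ⟨ε, hε⟩ := exists_clsEquiv (clsG C (CochainComplex.next ℕ p))
    ((clsM (K A U N) (next_cast p)).toAddMonoidHom :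
      (Zm (K A U N) (p : ℤ) ((p + 1 : ℕ) : ℤ)).toAddSubgroup →+ _) B B'
    (clsG_surjective C _) (clsM_surjective (K A U N) _)
    (fun x => clsG_eq_zero_iff C rfl _ x) (fun x => clsM_eq_zero_iff (K A U N) rfl _ x)
    (evC (Z := sp X) U _ p) hS hB
  exact ⟨ε, fun x x' h => hε x x' h⟩

/-- The comparison of the two homologies. -/
def hEquiv (N : X.Modules) (p : ℕ) :
    (cechCx (X := sp X) U ((abF X).obj N).obj).homology p ≃+ (K A U N).homology (p : ℤ) :=
  (exists_hEquiv A U N p).choose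

lemma hEquiv_natural {N N' : X.Modules} (φ : N ⟶ N') (p : ℕ)
    (x : (cechCx (X := sp X) U ((abF X).obj N).obj).homology p) :
    hEquiv A U N' p (HomologicalComplex.homologyMap
        ((cechComplexFunctor (C := Opens (sp X)) U).map ((abF X).map φ).hom) p x) =
      HomologicalComplex.homologyMap (Kmap A U φ) (p : ℤ) (hEquiv A U N p x) := by
  obtain ⟨z, rfl⟩ := clsG_surjective _ (CochainComplex.next ℕ p) x
  set Φ := (cechComplexFunctor (C := Opens (sp X)) U).map ((abF X).map φ).hom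
  have hz : evC (Z := sp X) U _ p z.1 ∈ LinearMap.ker ((K A U N).d (p : ℤ) ((p + 1 : ℕ) : ℤ)).hom := by
    change (K A U N).d _ _ _ = 0
    exact (K_d_nat A U N p _).trans ((evC_d A U N p z.1).symm.trans
      ((congrArg (evC (Z := sp X) U _ (p + 1)) z.2).trans (map_zero _)))
  let z₁ : Zg (cechCx (X := sp X) U ((abF X).obj N').obj) p (p + 1) := ⟨Φ.f p z.1, by
    change _ = 0
    exact (ConcreteCategory.congr_hom (Φ.comm p (p + 1)) z.1).trans
      ((congrArg (Φ.f (p + 1)).hom z.2).trans (map_zero (Φ.f (p + 1)).hom))⟩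
  let w : Zm (K A U N) (p : ℤ) ((p + 1 : ℕ) : ℤ) := ⟨_, hz⟩
  let w₁ : Zm (K A U N') (p : ℤ) ((p + 1 : ℕ) : ℤ) := ⟨(Kmap A U φ).f (p : ℤ) w.1, by
    change (K A U N').d _ _ _ = 0
    exact (ConcreteCategory.congr_hom ((Kmap A U φ).comm (p : ℤ) ((p + 1 : ℕ) : ℤ)) w.1).trans
      ((congrArg ((Kmap A U φ).f ((p + 1 : ℕ) : ℤ)).hom w.2).trans
        (map_zero ((Kmap A U φ).f ((p + 1 : ℕ) : ℤ)).hom))⟩
  have hw : w₁.1 = evC (Z := sp X) U ((abF X).obj N').obj p z₁.1 := funext fun a =>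
    (Kmap_apply A U φ p _ a).trans
      (ConcreteCategory.congr_hom (cvalHom_natural (Z := sp X) U ((abF X).map φ).hom a) z.1).symm
  rw [clsG_natural _ _ Φ z z₁ rfl]
  refine ((exists_hEquiv A U N' p).choose_spec z₁ w₁ hw).trans ?_
  refine Eq.trans ?_ (congrArg (HomologicalComplex.homologyMap (Kmap A U φ) (p : ℤ))
    ((exists_hEquiv A U N p).choose_spec z w rfl)).symm
  exact (clsM_natural (K A U N) _ (Kmap A U φ) w w₁ rfl).symm

lemma homologyMap_smulMod (N : X.Modules) (a : A) (p : ℕ) (x : (K A U N).homology (p : ℤ)) :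
    HomologicalComplex.homologyMap (Kmap A U (Formal.smulMod A N a)) (p : ℤ) x = a • x := by
  obtain ⟨w, rfl⟩ := clsM_surjective _ (next_cast p) x
  rw [← map_smul]
  refine clsM_natural (K A U N) _ _ w _ (funext fun b => ?_)
  refine Eq.trans ?_ (Kmap_apply A U _ p _ b).symm
  exact (smulMod_app A N a _ _).symm

variable {A U}
variable (hcov : (⊤ : Opens (sp X)) ≤ iSup U)

/-- The cohomology of the Čech complex is the cohomology, additively. -/
def hhAdd {N : X.Modules} (hN : Acyc (Z := sp X) U ((abF X).obj N)) (p : ℕ) :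
    (K A U N).homology (p : ℤ) ≃+ Coh.HH X N p :=
  (hEquiv A U N p).symm.trans (cechHEquiv hcov hN p)

lemma hhAdd_natural {N N' : X.Modules} (hN : Acyc (Z := sp X) U ((abF X).obj N))
    (hN' : Acyc (Z := sp X) U ((abF X).obj N')) (φ : N ⟶ N') (p : ℕ) (x : (K A U N).homology (p : ℤ)) :
    hhAdd hcov hN' p (HomologicalComplex.homologyMap (Kmap A U φ) (p : ℤ) x) =
      Sheaf.H.map ((SheafOfModules.toSheaf X.ringCatSheaf).map φ) p (hhAdd hcov hN p x) := by
  obtain ⟨y, rfl⟩ := (hEquiv A U N p).surjective x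
  rw [← hEquiv_natural]
  simp only [hhAdd, AddEquiv.trans_apply, AddEquiv.symm_apply_apply]
  exact cechHEquiv_natural hcov hN hN' ((abF X).map φ) p y

/-- The cohomology of the Čech complex is the cohomology. -/
def hhEquiv {N : X.Modules} (hN : Acyc (Z := sp X) U ((abF X).obj N)) (p : ℕ) :
    (K A U N).homology (p : ℤ) ≃ₗ[A] Coh.HH X N p :=
  (hhAdd hcov hN p).toLinearEquiv fun a x => by
    rw [← homologyMap_smulMod A U N a p x, hhAdd_natural]
    rfl

lemma hhEquiv_natural {N N' : X.Modules} (hN : Acyc (Z := sp X) U ((abF X).obj N))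
    (hN' : Acyc (Z := sp X) U ((abF X).obj N')) (φ : N ⟶ N') (p : ℕ) (x : (K A U N).homology (p : ℤ)) :
    hhEquiv hcov hN' p (HomologicalComplex.homologyMap (Kmap A U φ) (p : ℤ) x) =
      Sheaf.H.map ((SheafOfModules.toSheaf X.ringCatSheaf).map φ) p (hhEquiv hcov hN p x) :=
  hhAdd_natural hcov hN hN' φ p x

/-- Quasi-coherent modules are acyclic for affine intersections. -/
lemma acyc_of_isQCoh {N : X.Modules} (hN : Coh.IsQCoh N)
    (hU : ∀ (n : ℕ) (a : Fin (n + 1) → ι), IsAffineOpen (tupOpen (X := sp X) U a)) :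
    Acyc (Z := sp X) U ((abF X).obj N) := fun n a q => by
  haveI := hN
  exact subsingleton_hc_isAffineOpen N (hU n a) q

end Module

end Groth.Agent.CBC10
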