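import Groth.Agent.Lib.CBC10.DegEquiv
import Groth.Agent.Lib.FlatCx.Local
import Groth.Agent.Lib.FlatCx.Locus
import Groth.Agent.Lib.FlatCx.RankExact
import Groth.Agent.Lib.FlatCx.FlatCoeff
import Groth.Agent.Lib.FlatCx.FiberTrans
import Groth.Agent.Lib.FlatCx.Bounded
import Groth.Agent.Lib.FlatCx.Corep

/-!
# Complexes of finite projective modules near a point, over any ring
-/

set_option autoImplicit false
set_option linter.style.haveILetI false
set_option linter.unusedSectionVars false

universe u

open CategoryTheory CategoryTheory.Limits TensorProduct Groth.Agent.FlatCxLib Groth.Agent.DMod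

noncomputable section

namespace Groth.Agent.CBC10

variable {A : Type u} [CommRing A] (P : ChainComplex (ModuleCat.{u} A) ℤ) [∀ i, Module.Finite A (P.X i)]
  [∀ i, Module.Projective A (P.X i)] {p q : ℤ}

/-- The cokernels are finitely presented. -/
theorem fp_cok (p : ℤ) : Module.FinitePresentation A (Cok P p) := by
  haveI := Module.finitePresentation_of_projective A (P.X p)
  exact Module.finitePresentation_of_surjective _ (Submodule.mkQ_surjective _)
    (by rw [Submodule.ker_mkQ]; exact Submodule.fg_range _)

theorem projective_cok (p : ℤ) [Module.Flat A (Cok P p)] : Module.Projective A (Cok P p) :=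
  haveI := fp_cok P p
  Module.Flat.projective_of_finitePresentation

theorem flat_cok_of_flat_H_step (hpq : q + 1 = p) (hH : Module.Flat A (H P p)) (hq : Module.Flat A (Cok P q)) :
    Module.Flat A (Cok P p) :=
  (preservesMono_iff P p).1 ((exact_iff_epi_and_flat P p).2 ⟨(preservesEpi_iff P hpq).2 hq, hH⟩).1

theorem flat_H_of_flat_cok (hpq : q + 1 = p) (hp : Module.Flat A (Cok P p)) (hq : Module.Flat A (Cok P q)) :
    Module.Flat A (H P p) :=
  ((exact_iff_epi_and_flat P p).1 ⟨(preservesMono_iff P p).2 hp, (preservesEpi_iff P hpq).2 hq⟩).2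

/-- With a flat cokernel below, the homology is finite. -/
theorem finite_H_of_flat_cok (hpq : q + 1 = p) [Module.Flat A (Cok P q)] : Module.Finite A (H P p) := by
  obtain rfl : q = p - 1 := by omega
  haveI := projective_cok P (p - 1)
  let π : P.X (p - 1) →ₗ[A] Cok P (p - 1) := Submodule.mkQ _
  obtain ⟨σ, hσ⟩ := Module.projective_lifting_property π LinearMap.id (Submodule.mkQ_surjective _)
  -- the image of the differential is a projective direct summand
  let d : P.X p →ₗ[A] P.X (p - 1) := dl P p (p - 1)
  let I : Submodule A (P.X (p - 1)) := LinearMap.ker π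
  have hI : ∀ x, d x ∈ I := fun x => by
    have h : dl P (p - 1 + 1) (p - 1) (P.XIsoOfEq (sub_add_cancel p 1).symm |>.hom x) = d x :=
      ConcreteCategory.congr_hom (P.XIsoOfEq_hom_comp_d (sub_add_cancel p 1).symm (p - 1)) x
    exact (LinearMap.mem_ker).2 ((congrArg π h.symm).trans (mk_dl P _))
  haveI : Module.Projective A I := Module.Projective.of_split I.subtype
    ((LinearMap.id - σ.comp π).codRestrict I fun y => LinearMap.mem_ker.2 (by
      rw [LinearMap.sub_apply, map_sub, LinearMap.comp_apply, LinearMap.id_apply]
      exact sub_eq_zero.2 (LinearMap.congr_fun hσ (π y)).symm))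
    (LinearMap.ext fun y => Subtype.ext (by
      show y.1 - σ (π y.1) = y.1
      rw [show π y.1 = 0 from y.2, map_zero, sub_zero]))
  let d' : P.X p →ₗ[A] I := d.codRestrict I hI
  have hd' : Function.Surjective d' := fun y => by
    obtain ⟨x, hx⟩ := (Submodule.Quotient.mk_eq_zero _).1 y.2
    refine ⟨(P.XIsoOfEq (sub_add_cancel p 1)).hom x, Subtype.ext ?_⟩
    exact (ConcreteCategory.congr_hom (P.XIsoOfEq_hom_comp_d (sub_add_cancel p 1) (p - 1)) x).trans hx
  obtain ⟨τ, hτ⟩ := Module.projective_lifting_property d' LinearMap.id hd'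
  have hk : ∀ x : P.X p, x - τ (d' x) ∈ LinearMap.ker d := fun x => by
    rw [LinearMap.mem_ker, map_sub, sub_eq_zero]
    exact (congrArg Subtype.val (LinearMap.congr_fun hτ (d' x))).symm
  let K := LinearMap.ker (dl (CohIII.tensorObj P (ModuleCat.of A A)) p (p - 1))
  have key : Function.Surjective
      ((cls₁ P (sub_add_cancel p 1)).comp ((LinearMap.id - τ.comp d').codRestrict (LinearMap.ker d) hk)) := by
    refine (cls₁_surjective P (sub_add_cancel p 1)).comp fun x => ⟨x.1, Subtype.ext ?_⟩
    show x.1 - τ (d' x.1) = x.1
    rw [show d' x.1 = 0 from Subtype.ext x.2, map_zero, sub_zero]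
  exact Module.Finite.of_surjective _ key

theorem finite_projective_H (hpq : q + 1 = p) [hp : Module.Flat A (Cok P p)] [hq : Module.Flat A (Cok P q)] :
    Module.Finite A (H P p) ∧ Module.Projective A (H P p) := by
  haveI := finite_H_of_flat_cok P hpq
  refine ⟨inferInstance, ?_⟩
  haveI := flat_H_of_flat_cok P hpq hp hq
  haveI : Module.FinitePresentation A (H P p) := by
    haveI := projective_cok P p
    haveI := fp_cok P q
    haveI := Module.finitePresentation_of_projective A (P.X q)
    -- `H` is the kernel of a surjection between finitely presented modules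
    let φ : Cok P p →ₗ[A] LinearMap.ker (Submodule.mkQ (LinearMap.range (dl P (q + 1) q))) :=
      (dbar P p q).codRestrict _ fun y => by
        obtain ⟨x, rfl⟩ := Submodule.mkQ_surjective _ y
        subst hpq
        exact (Submodule.Quotient.mk_eq_zero _).2 ⟨x, rfl⟩
    have hφ : Function.Surjective φ := fun y => by
      obtain ⟨x, hx⟩ := (Submodule.Quotient.mk_eq_zero _).1 y.2
      subst hpq
      exact ⟨Submodule.Quotient.mk x, Subtype.ext hx⟩
    haveI : Module.Finite A (LinearMap.ker (Submodule.mkQ (LinearMap.range (dl P (q + 1) q)))) :=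
      Module.Finite.iff_fg.2 (by rw [Submodule.ker_mkQ]; exact Submodule.fg_range _)
    haveI := projective_cok P q
    haveI : Module.Projective A (LinearMap.ker (Submodule.mkQ (LinearMap.range (dl P (q + 1) q)))) := by
      obtain ⟨σ, hσ⟩ := Module.projective_lifting_property (Submodule.mkQ (LinearMap.range (dl P (q + 1) q)))
        LinearMap.id (Submodule.mkQ_surjective _)
      refine Module.Projective.of_split (Submodule.subtype _)
        ((LinearMap.id - σ.comp (Submodule.mkQ _)).codRestrict _ fun y => LinearMap.mem_ker.2 (by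
          rw [LinearMap.sub_apply, map_sub, LinearMap.comp_apply, LinearMap.id_apply]
          exact sub_eq_zero.2 (LinearMap.congr_fun hσ _).symm)) (LinearMap.ext fun y => Subtype.ext ?_)
      show y.1 - σ (Submodule.mkQ _ y.1) = y.1
      rw [show Submodule.mkQ _ y.1 = 0 from y.2, map_zero, sub_zero]
    obtain ⟨τ, hτ⟩ := Module.projective_lifting_property φ LinearMap.id hφ
    let ρ : Cok P p →ₗ[A] LinearMap.ker φ := (LinearMap.id - τ.comp φ).codRestrict _ fun y =>
      LinearMap.mem_ker.2 (by
        rw [LinearMap.sub_apply, map_sub, LinearMap.comp_apply, LinearMap.id_apply]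
        exact sub_eq_zero.2 (LinearMap.congr_fun hτ _).symm)
    have hρ : ρ.comp (LinearMap.ker φ).subtype = LinearMap.id := LinearMap.ext fun y => Subtype.ext (by
      show y.1 - τ (φ y.1) = y.1
      rw [show φ y.1 = 0 from y.2, map_zero, sub_zero])
    haveI : Module.Projective A (LinearMap.ker φ) := Module.Projective.of_split _ ρ hρ
    haveI : Module.Finite A (LinearMap.ker φ) :=
      Module.Finite.of_surjective ρ fun y => ⟨y.1, LinearMap.congr_fun hρ y⟩
    let m : LinearMap.ker (dl P p q) →ₗ[A] LinearMap.ker φ :=
      ((Submodule.mkQ (LinearMap.range (dl P (p + 1) p))).comp (LinearMap.ker (dl P p q)).subtype).codRestrict _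
        fun x => LinearMap.mem_ker.2 (Subtype.ext x.2)
    have hm : Function.Surjective m := fun y => by
      obtain ⟨x, hx⟩ := Submodule.mkQ_surjective _ y.1
      refine ⟨⟨x, LinearMap.mem_ker.2 ?_⟩, Subtype.ext hx⟩
      have h0 : dbar P p q y.1 = 0 := congrArg Subtype.val y.2
      rw [← hx] at h0
      exact h0
    have hk : LinearMap.ker (cls₁ P hpq) = LinearMap.ker m := by
      ext x
      refine ⟨fun hx => ?_, fun hx => ?_⟩
      · obtain ⟨y, hy⟩ := exists_of_cls₁_eq_zero P hpq hx
        exact LinearMap.mem_ker.2 (Subtype.ext ((Submodule.Quotient.mk_eq_zero _).2 ⟨y, hy⟩))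
      · obtain ⟨y, hy⟩ := (Submodule.Quotient.mk_eq_zero _).1 (congrArg Subtype.val hx)
        exact LinearMap.mem_ker.2 (cls₁_eq_zero P hpq y hy)
    haveI := Module.finitePresentation_of_projective A (LinearMap.ker φ)
    exact Module.FinitePresentation.of_equiv ((m.quotKerEquivOfSurjective hm).symm.trans
      ((Submodule.quotEquivOfEq _ _ hk.symm).trans
        ((cls₁ P hpq).quotKerEquivOfSurjective (cls₁_surjective P hpq))))
  exact Module.Flat.projective_of_finitePresentation

section LocalRing

variable [IsLocalRing A]

theorem free_cok_of_surjective_residue' (hpq : q + 1 = p) (h : Function.Surjective (toResidue P p)) :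
    Module.Free A (Cok P q) := by
  haveI := fp_cok P q
  exact Module.free_of_maximalIdeal_rTensor_injective
    ((LinearMap.lTensor_inj_iff_rTensor_inj _ _).1 ((surjective_residue_iff P hpq).1 h))

theorem flat_cok_of_subsingleton_residue (hpq : q + 1 = p)
    [hs : Subsingleton (CohIII.T P p (ModuleCat.of A (IsLocalRing.ResidueField A)))] :
    Module.Flat A (Cok P p) ∧ Module.Flat A (Cok P q) := by
  haveI := free_cok_of_surjective_residue' P hpq fun y => ⟨0, hs.elim _ _⟩
  have he := (preservesEpi_iff P hpq).2 (inferInstance : Module.Flat A (Cok P q))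
  haveI := finite_H_of_flat_cok P hpq
  have : Subsingleton (IsLocalRing.ResidueField A ⊗[A] H P p) :=
    ((TensorProduct.comm A _ _).toEquiv.trans
      (LinearEquiv.ofBijective _ (theta_bijective P p he (IsLocalRing.ResidueField A))).toEquiv).subsingleton
  have : Subsingleton (H P p) := IsLocalRing.subsingleton_tensorProduct.1 this
  exact ⟨flat_cok_of_flat_H_step P hpq (Module.Flat.of_free) inferInstance, inferInstance⟩

end LocalRing

section BaseChange

variable (B : Type u) [CommRing B] [Algebra A B]

instance finite_bcCx (i : ℤ) : Module.Finite B ((CohIII.bcCx (algebraMap A B) P).X i) :=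
  Module.Finite.equiv (extEquiv (B := B) (P.X i)).symm

instance projective_bcCx (i : ℤ) : Module.Projective B ((CohIII.bcCx (algebraMap A B) P).X i) :=
  Module.Projective.of_equiv (extEquiv (B := B) (P.X i)).symm

/-- Base change to a ring whose spectrum lies in the free locus. -/
theorem flat_cok_bcCx_of_subset (p : ℤ)
    (h : ∀ y : PrimeSpectrum B, PrimeSpectrum.comap (algebraMap A B) y ∈ Module.freeLocus A (Cok P p)) :
    Module.Flat B (Cok (CohIII.bcCx (algebraMap A B) P) p) := by
  haveI := fp_cok P p
  haveI : Module.Projective B (B ⊗[A] Cok P p) := Module.freeLocus_eq_univ_iff.1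
    (Set.eq_univ_of_forall fun y => Module.comap_freeLocus_le (h y))
  exact Module.Flat.of_linearEquiv (cokBaseChange B P p)

end BaseChange

section Point

variable (x : PrimeSpectrum A) (R : Type u) [CommRing R] [Algebra A R] [IsLocalization.AtPrime R x.asIdeal]
  [IsLocalRing R]

theorem mem_freeLocus_iff_flat (p : ℤ) :
    x ∈ Module.freeLocus A (Cok P p) ↔ Module.Flat R (Cok (CohIII.bcCx (algebraMap A R) P) p) := by
  haveI := fp_cok P p
  rw [Module.mem_freeLocus_iff_tensor x R, Module.Flat.equiv_iff (cokBaseChange R P p)]
  exact ⟨fun _ => inferInstance, fun _ => Module.free_of_flat_of_isLocalRing⟩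

/-- The fibre criterion. -/
theorem theta_residue_surjective_iff (hpq : q + 1 = p) :
    Function.Surjective (theta P p (IsLocalRing.ResidueField R)) ↔ x ∈ Module.freeLocus A (Cok P q) := by
  haveI : Module.Flat A R := IsLocalization.flat R x.asIdeal.primeCompl
  let Q := CohIII.bcCx (algebraMap A R) P
  let D : BCData P Q := BCData.self P
  let res : R →ₗ[R] IsLocalRing.ResidueField R := Algebra.linearMap R _
  have hres : Function.Surjective res := IsLocalRing.residue_surjective
  have h1 : Function.Surjective (theta P p (IsLocalRing.ResidueField R)) ↔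
      Function.Surjective (Tmap P p (res.restrictScalars A)) := by
    constructor
    · intro h y
      obtain ⟨z, rfl⟩ := h y
      obtain ⟨z', rfl⟩ := LinearMap.lTensor_surjective (H P p) (g := res.restrictScalars A) hres z
      exact ⟨theta P p R z', (theta_natural P p _ z').symm⟩
    · intro h y
      obtain ⟨t, rfl⟩ := h y
      obtain ⟨z, rfl⟩ := (theta_bijective_of_flat P (p := p) R).2 t
      exact ⟨_, theta_natural P p _ z⟩
  have h2 : Function.Surjective (Tmap P p (res.restrictScalars A)) ↔ Function.Surjective (toResidue Q p) := by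
    constructor
    · intro h y
      obtain ⟨z, hz⟩ := h ((D.tEquivD (IsLocalRing.ResidueField R) hpq).symm y)
      refine ⟨D.tEquivD R hpq z, ?_⟩
      exact (D.tEquivD_natural hpq res z).symm.trans ((congrArg _ hz).trans (AddEquiv.apply_symm_apply _ y))
    · intro h y
      obtain ⟨z, hz⟩ := h (D.tEquivD (IsLocalRing.ResidueField R) hpq y)
      refine ⟨(D.tEquivD R hpq).symm z, (D.tEquivD (IsLocalRing.ResidueField R) hpq).injective ?_⟩
      refine (D.tEquivD_natural hpq res _).trans ?_
      rw [AddEquiv.apply_symm_apply]
      exact hz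
  rw [h1, h2, mem_freeLocus_iff_flat P x R q]
  refine ⟨fun h => ?_, fun h => surjective_residue_of_preservesEpi Q p ((preservesEpi_iff Q hpq).2 h)⟩
  haveI := free_cok_of_surjective_residue' Q hpq h
  infer_instance

/-- Where the fibre homology vanishes, both cokernels are free. -/
theorem mem_freeLocus_of_subsingleton (hpq : q + 1 = p)
    [hs : Subsingleton (CohIII.T P p (ModuleCat.of A (IsLocalRing.ResidueField R)))] :
    x ∈ Module.freeLocus A (Cok P p) ∧ x ∈ Module.freeLocus A (Cok P q) := by
  haveI : Subsingleton (CohIII.T (CohIII.bcCx (algebraMap A R) P) p (ModuleCat.of R (IsLocalRing.ResidueField R))) :=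
    ((BCData.self P).tEquivD (IsLocalRing.ResidueField R) hpq).symm.toEquiv.subsingleton
  obtain ⟨h1, h2⟩ := flat_cok_of_subsingleton_residue (CohIII.bcCx (algebraMap A R) P) hpq
  exact ⟨(mem_freeLocus_iff_flat P x R p).2 h1, (mem_freeLocus_iff_flat P x R q).2 h2⟩

end Point

/-- Flat cokernels on both sides: the rank of the fibre homology is locally constant. -/
theorem isLocallyConstant_dRank (hpq : q + 1 = p) [hp : Module.Flat A (Cok P p)] [hq : Module.Flat A (Cok P q)] :
    IsLocallyConstant (CohIII.dRank P p) := by
  obtain ⟨h1, h2⟩ := finite_projective_H P hpq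
  haveI := Module.finitePresentation_of_projective A (H P p)
  have e : CohIII.dRank P p = Module.rankAtStalk (R := A) (H P p) := funext fun x =>
    (dRank_eq_finrank P p ((preservesEpi_iff P hpq).2 hq) x).trans (fibRank_eq_rankAtStalk x)
  rw [e]
  exact Module.isLocallyConstant_rankAtStalk

/-- Over a reduced ring constant fibre rank makes both cokernels flat. -/
theorem flat_cok_of_isLocallyConstant [IsReduced A] (hpq : q + 1 = p) (h : IsLocallyConstant (CohIII.dRank P p)) :
    Module.Flat A (Cok P p) ∧ Module.Flat A (Cok P q) := by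
  have hX : IsLocallyConstant fun x : PrimeSpectrum A => Module.rankAtStalk (P.X q) x :=
    haveI := Module.finitePresentation_of_projective A (P.X q)
    Module.isLocallyConstant_rankAtStalk
  have key : ∀ x, (∀ᶠ y in nhds x, cokRank P p y = cokRank P p x) ∧ ∀ᶠ y in nhds x, cokRank P q y = cokRank P q x := by
    intro x
    have hx := dRank_add P x hpq
    constructor <;>
    · filter_upwards [h.eventually_eq x, upperSemicontinuous_cokRank P p x (cokRank P p x + 1) (Nat.lt_succ_self _),
        upperSemicontinuous_cokRank P q x (cokRank P q x + 1) (Nat.lt_succ_self _), hX.eventually_eq x]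
        with y h0 h1 h2 h3
      have hy := dRank_add P y hpq
      omega
  haveI := projective_of_fibRank_eventually (M := Cok P p) fun m _ => (key ⟨m, inferInstance⟩).1
  haveI := projective_of_fibRank_eventually (M := Cok P q) fun m _ => (key ⟨m, inferInstance⟩).2
  exact ⟨inferInstance, inferInstance⟩

end Groth.Agent.CBC10
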