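import Groth.Agent.Lib.CBC10.BcApp
import Groth.Agent.Lib.CBC10.NearG
import Groth.Agent.Lib.CohFound.RpushComp
import Groth.Agent.Lib.DPerf.Tilde
import Groth.Agent.Lib.DPerf.Top
import Groth.Agent.Lib.FlatCx.Generic

/-!
# Complexes over small affine opens and the base change criteria
-/

set_option autoImplicit false
set_option linter.style.haveILetI false
set_option linter.unusedSectionVars false
set_option maxHeartbeats 1000000

universe u

open CategoryTheory CategoryTheory.Limits AlgebraicGeometry TopologicalSpace Opposite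

noncomputable section

namespace Groth.Agent.CBC10

variable {X S : Scheme.{u}}

/-- A finite projective complex computing the cohomology over an affine open. -/
structure Model (f : X ⟶ S) (F : X.Modules) (V : S.Opens) where
  isAffine : IsAffineOpen V
  P : ChainComplex (ModuleCat.{u} Γ(S, V)) ℤ
  finite : ∀ i, Module.Finite Γ(S, V) (P.X i)
  projective : ∀ i, Module.Projective Γ(S, V) (P.X i)
  bounded : ∃ i₀ : ℤ, ∀ i < i₀, IsZero (P.X i)
  pos : ∀ i : ℤ, 0 < i → ∀ M : ModuleCat.{u} Γ(S, V), Subsingleton (CohIII.T P i M)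
  computes : ComputesOn f F isAffine P

attribute [instance] Model.finite Model.projective

variable {f : X ⟶ S} {F : X.Modules} {V : S.Opens}

/-- The degree `n` cokernel is free at `s`. -/
def Model.FreeAt (M : Model f F V) (n : ℤ) (s : S) : Prop :=
  ∃ hs : s ∈ V, M.isAffine.primeIdealOf ⟨s, hs⟩ ∈ Module.freeLocus Γ(S, V) (FlatCxLib.Cok M.P n)

/-- The degree `n` cokernel is flat. -/
abbrev Model.FlatCok (M : Model f F V) (n : ℤ) : Prop := Module.Flat Γ(S, V) (FlatCxLib.Cok M.P n)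

theorem Model.freeAt_of_flatCok (M : Model f F V) {n : ℤ} (h : M.FlatCok n) {s : S} (hs : s ∈ V) :
    M.FreeAt n s := by
  haveI : Module.Flat Γ(S, V) (FlatCxLib.Cok M.P n) := h
  exact ⟨hs, (Module.freeLocus_eq_univ (R := Γ(S, V)) (M := FlatCxLib.Cok M.P n)).symm ▸ trivial⟩

theorem Model.flatCok_zero (M : Model f F V) : M.FlatCok 0 :=
  (FlatCxLib.preservesEpi_iff M.P (zero_add 1)).1
    ⟨fun {_ N} _ _ => (ModuleCat.epi_iff_surjective _).2 fun _ => ⟨0, (M.pos 1 one_pos N).elim _ _⟩⟩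

theorem computesOn_restrict [IsSeparated f] [QuasiCompact f] (hF : Coh.IsQCoh F) {hV : IsAffineOpen V}
    {P : ChainComplex (ModuleCat.{u} Γ(S, V)) ℤ} (hP : ComputesOn f F hV P) {V' : S.Opens} (hV' : IsAffineOpen V')
    (h : V' ≤ V) :
    letI := (S.presheaf.map (homOfLE h).op).hom.toAlgebra
    ComputesOn f F hV' (CohIII.bcCx (algebraMap Γ(S, V) Γ(S, V')) P) := by
  letI := (S.presheaf.map (homOfLE h).op).hom.toAlgebra
  letI := overU f hV
  letI := overU f hV'
  let X₁ : Scheme.{u} := (f ⁻¹ᵁ V : X.Opens)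
  haveI : IsSeparated (X₁ ↘ Spec (CommRingCat.of Γ(S, V))) :=
    inferInstanceAs (IsSeparated (f ∣_ V ≫ hV.isoSpec.hom))
  haveI : QuasiCompact (X₁ ↘ Spec (CommRingCat.of Γ(S, V))) :=
    inferInstanceAs (QuasiCompact (f ∣_ V ≫ hV.isoSpec.hom))
  haveI : CompactSpace X₁ := QuasiCompact.compactSpace_of_compactSpace (X₁ ↘ Spec (CommRingCat.of Γ(S, V)))
  haveI : X₁.IsSeparated := ⟨by
    rw [← terminal.comp_from (X₁ ↘ Spec (CommRingCat.of Γ(S, V)))]
    infer_instance⟩
  have e : f ⁻¹ᵁ V' ≤ f ⁻¹ᵁ V := f.preimage_mono h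
  have e' : f ⁻¹ᵁ V' ≤ (𝟙 X) ⁻¹ᵁ (f ⁻¹ᵁ V) := le_id e
  have H := isPullback_affine (IsPullback.of_horiz_isIso ⟨by simp⟩ : IsPullback (𝟙 X) f f (𝟙 S)) hV hV'
    (le_id h) e'
  refine Computes.baseChange hP (M1.isQCoh_restrict hF _) (g := (𝟙 X : X ⟶ X).resLE (f ⁻¹ᵁ V) (f ⁻¹ᵁ V') e') ?_
    (CohPull.pullOnIso (𝟙 X) _ _ e' F ≪≫
      (Scheme.Modules.restrictFunctor (f ⁻¹ᵁ V').ι).mapIso ((Scheme.Modules.pullbackId X).app F))
  have hE : (𝟙 S : S ⟶ S).appLE V V' (le_id h) = S.presheaf.map (homOfLE h).op := by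
    simp [Scheme.Hom.appLE]
    exact Category.id_comp _
  rw [hE] at H
  exact H

/-- Restriction of a model. -/
def Model.restrict [IsSeparated f] [QuasiCompact f] (hF : Coh.IsQCoh F) (M : Model f F V) {V' : S.Opens}
    (hV' : IsAffineOpen V') (h : V' ≤ V) : Model f F V' where
  isAffine := hV'
  P := letI := (S.presheaf.map (homOfLE h).op).hom.toAlgebra
    CohIII.bcCx (algebraMap Γ(S, V) Γ(S, V')) M.P
  finite i := letI := (S.presheaf.map (homOfLE h).op).hom.toAlgebra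
    finite_bcCx M.P Γ(S, V') i
  projective i := letI := (S.presheaf.map (homOfLE h).op).hom.toAlgebra
    projective_bcCx M.P Γ(S, V') i
  bounded := letI := (S.presheaf.map (homOfLE h).op).hom.toAlgebra
    M.bounded.imp fun i₀ hb i hi => FlatCxLib.isZero_bc M.P (hb i hi)
  pos i hi N := by
    letI := (S.presheaf.map (homOfLE h).op).hom.toAlgebra
    letI : Module Γ(S, V) N := Module.compHom N (algebraMap Γ(S, V) Γ(S, V'))
    haveI : IsScalarTower Γ(S, V) Γ(S, V') N := IsScalarTower.of_algebraMap_smul fun _ _ => rfl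
    haveI := M.pos i hi (ModuleCat.of Γ(S, V) N)
    exact ((BCData.self M.P).tEquivD N (sub_add_cancel i 1)).symm.toEquiv.subsingleton
  computes := computesOn_restrict hF M.computes hV' h

/-- A neighbourhood on which the cokernels free at `s` are flat. -/
theorem Model.exists_shrink [IsSeparated f] [QuasiCompact f] (hF : Coh.IsQCoh F) (M : Model f F V) {s : S}
    (hs : s ∈ V) (L : Finset ℤ) (hL : ∀ n ∈ L, M.FreeAt n s) :
    ∃ (V' : S.Opens) (_ : V' ≤ V) (M' : Model f F V'), s ∈ V' ∧ ∀ n ∈ L, M'.FlatCok n := by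
  let O : Set (PrimeSpectrum Γ(S, V)) := ⋂ n ∈ L, Module.freeLocus Γ(S, V) (FlatCxLib.Cok M.P n)
  have hO : IsOpen O := isOpen_biInter_finset fun n _ => by
    haveI := fp_cok M.P n
    exact Module.isOpen_freeLocus
  have hxO : M.isAffine.primeIdealOf ⟨s, hs⟩ ∈ O := Set.mem_iInter₂.2 fun n hn => (hL n hn).2
  let O' : S.Opens := ⟨M.isAffine.fromSpec '' O, M.isAffine.fromSpec.isOpenEmbedding.isOpenMap O hO⟩
  obtain ⟨V', hV', hsV', hle⟩ := Opens.isBasis_iff_nbhd.1 S.isBasis_affineOpens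
    (show s ∈ O' from ⟨_, hxO, M.isAffine.fromSpec_primeIdealOf ⟨s, hs⟩⟩)
  have h : V' ≤ V := fun y hy => by
    obtain ⟨z, -, rfl⟩ := hle hy
    rw [← SetLike.mem_coe, ← M.isAffine.range_fromSpec]
    exact ⟨z, rfl⟩
  refine ⟨V', h, M.restrict hF hV' h, hsV', fun n hn => ?_⟩
  letI := (S.presheaf.map (homOfLE h).op).hom.toAlgebra
  refine flat_cok_bcCx_of_subset M.P Γ(S, V') n fun y => ?_
  have hy : (show IsAffineOpen (V' : S.Opens) from hV').fromSpec y ∈ O' := hle (by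
    show (show IsAffineOpen (V' : S.Opens) from hV').fromSpec y ∈ (V' : Set S)
    rw [← (show IsAffineOpen (V' : S.Opens) from hV').range_fromSpec]; exact ⟨y, rfl⟩)
  obtain ⟨z, hzO, hz⟩ := hy
  rw [← M.isAffine.map_fromSpec hV' (homOfLE h).op] at hz
  obtain rfl := M.isAffine.fromSpec.isOpenEmbedding.injective hz
  exact Set.mem_iInter₂.1 hzO n hn

section BC

variable [IsSeparated f] [QuasiCompact f] {X' S' : Scheme.{u}} {g : S' ⟶ S} {f' : X' ⟶ S'} {g' : X' ⟶ X}
  [HasInjectiveResolutions X.Modules] [HasInjectiveResolutions X'.Modules]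
  {Δ : RDer.DerivedLES (Scheme.Modules.pushforward f)} {Δ' : RDer.DerivedLES (Scheme.Modules.pushforward f')}
  {E : CohCmp.SectCmp f Δ} {E' : CohCmp.SectCmp f' Δ'}

/-- The base change map is an isomorphism when the complexes have flat cokernels. -/
theorem isIso_bc (h : IsPullback g' f' f g) (Bc : CohCmp.GenBC f g f' g' h.w E E') (F : X.Modules)
    [Coh.IsQCoh F] (p : ℕ)
    (hM : ∀ z : S', ∃ (V : S.Opens) (M : Model f F V), g z ∈ V ∧ M.FlatCok (-(p : ℤ) - 1)) :
    IsIso (Bc.bc p F) := by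
  haveI : IsIso ((SheafOfModules.toSheaf S'.ringCatSheaf).map (Bc.bc p F)) := by
    refine CohFound.isIso_of_bijective_basis _
      (fun W : S'.Opens => IsAffineOpen W ∧ ∃ (V : S.Opens) (M : Model f F V), W ≤ g ⁻¹ᵁ V ∧ M.FlatCok (-(p : ℤ) - 1))
      (fun O z hz => ?_) ?_
    · obtain ⟨V, M, hzV, hM⟩ := hM z
      obtain ⟨W, hW, hzW, hWle⟩ := Opens.isBasis_iff_nbhd.1 S'.isBasis_affineOpens
        (show z ∈ (O : S'.Opens) ⊓ g ⁻¹ᵁ V from ⟨hz, hzV⟩)
      exact ⟨W, ⟨hW, V, M, hWle.trans inf_le_right, hM⟩, hzW, hWle.trans inf_le_left⟩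
    · rintro W ⟨hW, V, M, eW, hM⟩
      letI := (g.appLE V W eW).hom.toAlgebra
      exact (bc_app_iff h Bc F M.isAffine hW eW M.computes p).1.2
        (FlatCxLib.theta_bijective M.P _ ((FlatCxLib.preservesEpi_iff M.P (sub_add_cancel (-(p : ℤ)) 1)).2 hM) _)
  haveI : IsIso ((SheafOfModules.toSheaf S'.ringCatSheaf).map (Bc.bc p F)).hom :=
    inferInstanceAs (IsIso ((sheafToPresheaf _ _).map ((SheafOfModules.toSheaf S'.ringCatSheaf).map (Bc.bc p F))))
  refine Scheme.Modules.Hom.isIso_iff_isIso_app.2 fun W => (ConcreteCategory.isIso_iff_bijective _).2 ?_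
  exact ConcreteCategory.bijective_of_isIso
    (((SheafOfModules.toSheaf S'.ringCatSheaf).map (Bc.bc p F)).hom.app (op W))

end BC

variable [HasInjectiveResolutions X.Modules]

/-- Flat cokernels on both sides: the higher direct image is finite locally free. -/
theorem Model.isFinLocFree_restrict [IsProper f] (hF : Coh.IsQCoh F) (M : Model f F V) (p : ℕ)
    (h1 : M.FlatCok (-(p : ℤ))) (h2 : M.FlatCok (-(p : ℤ) - 1)) :
    FlatMod.IsFinLocFree (((Coh.Rpush f p).obj F).restrict M.isAffine.fromSpec) := by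
  obtain ⟨i⟩ := M.computes.nonempty_rpush_iso hF p
  haveI : Module.Flat Γ(S, V) (FlatCxLib.Cok M.P (-(p : ℤ))) := h1
  haveI : Module.Flat Γ(S, V) (FlatCxLib.Cok M.P (-(p : ℤ) - 1)) := h2
  obtain ⟨hf, hp⟩ := finite_projective_H M.P (sub_add_cancel (-(p : ℤ)) 1)
  haveI := hf
  haveI := hp
  exact M2.isFinLocFree_of_iso i.symm (DPerf.isFinLocFree_tilde (R := CommRingCat.of Γ(S, V))
    (M := CohIII.T M.P (-(p : ℤ)) (ModuleCat.of Γ(S, V) Γ(S, V))))

/-- `R^p f_* F` is finite locally free over an open covered by good models. -/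
theorem isFinLocFree_restrict_of_models [IsProper f] (hF : Coh.IsQCoh F) (p : ℕ) (U : S.Opens)
    (h : ∀ s ∈ U, ∃ (V : S.Opens) (M : Model f F V), s ∈ V ∧ V ≤ U ∧ M.FlatCok (-(p : ℤ)) ∧
      M.FlatCok (-(p : ℤ) - 1)) :
    FlatMod.IsFinLocFree (((Coh.Rpush f p).obj F).restrict U.ι) := by
  refine DPerf.isFinLocFree_of_locally fun x => ?_
  obtain ⟨V, M, hxV, hVU, h1, h2⟩ := h x.1 x.2
  have hr : Set.range M.isAffine.fromSpec ⊆ Set.range U.ι := by
    rw [M.isAffine.range_fromSpec, Scheme.Opens.range_ι]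
    exact hVU
  refine ⟨_, IsOpenImmersion.lift U.ι M.isAffine.fromSpec hr, inferInstance, ?_,
    M2.isFinLocFree_of_iso (M1.restrictRestrictIso _ U.ι _ M.isAffine.fromSpec
      (IsOpenImmersion.lift_fac _ _ hr)).symm (M.isFinLocFree_restrict hF p h1 h2)⟩
  refine ⟨M.isAffine.primeIdealOf ⟨x.1, hxV⟩, U.ι.isOpenEmbedding.injective ?_⟩
  rw [← Scheme.Hom.comp_apply, IsOpenImmersion.lift_fac]
  exact M.isAffine.fromSpec_primeIdealOf ⟨x.1, hxV⟩

end Groth.Agent.CBC10
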