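import Groth.Agent.Lib.ConsH13.ModEngine
import Groth.Agent.Lib.ConsH13.ApproxOver
import Groth.Agent.Lib.LimH13.Descend
import Groth.Agent.Lib.LimH13.ProperDescend
import Groth.Agent.S4849
import Groth.Agent.Lib.CBC10.Shrink
import Groth.Agent.Lib.CBC10.Local

/-!
# Models over any base

A proper finitely presented family with a flat finitely presented module comes from one over a noetherian ring.
-/

set_option autoImplicit false
set_option linter.style.haveILetI false
set_option linter.unusedSectionVars false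
set_option maxHeartbeats 1000000

universe u

open CategoryTheory CategoryTheory.Limits AlgebraicGeometry TopologicalSpace Opposite

noncomputable section

namespace Groth.Agent.CBC10

variable {A : CommRingCat.{u}} {X : Scheme.{u}} (u : X ⟶ Spec A) (F : X.Modules)

/-- A noetherian model of a family with a module. -/
structure NModel where
  R : CommRingCat.{u}
  noeth : IsNoetherianRing R
  π : Spec A ⟶ Spec R
  X' : Scheme.{u}
  u' : X' ⟶ Spec R
  q : X ⟶ X'
  F' : X'.Modules
  lft : LocallyOfFiniteType u'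
  qc : QuasiCompact u'
  qs : QuasiSeparated u'
  sq : IsPullback q u u' π
  coh : Coh.IsCoh F'
  iso : F ≅ (Scheme.Modules.pullback q).obj F'

attribute [instance] NModel.noeth NModel.lft NModel.qc NModel.qs

variable {u F}

/-- The model over a further noetherian stage. -/
def NModel.stage (N : NModel u F) {R' : CommRingCat.{u}} [IsNoetherianRing R'] (t : Spec R' ⟶ Spec N.R)
    (π' : Spec A ⟶ Spec R') (e : π' ≫ t = N.π) : NModel u F where
  R := R'
  noeth := inferInstance
  π := π'
  X' := pullback N.u' t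
  u' := pullback.snd N.u' t
  q := pullback.lift N.q (u ≫ π') (by rw [Category.assoc, e]; exact N.sq.w)
  F' := (Scheme.Modules.pullback (pullback.fst N.u' t)).obj N.F'
  lft := MorphismProperty.pullback_snd _ _ N.lft
  qc := MorphismProperty.pullback_snd _ _ N.qc
  qs := MorphismProperty.pullback_snd _ _ N.qs
  sq := IsPullback.of_right (by rw [pullback.lift_fst, e]; exact N.sq) (pullback.lift_snd _ _ _)
    (IsPullback.of_hasPullback N.u' t)
  coh := M1.isCoh_pullback _ N.coh
  iso := N.iso ≪≫ (Scheme.Modules.pullbackCongr (pullback.lift_fst _ _ _).symm).app N.F' ≪≫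
    ((Scheme.Modules.pullbackComp _ (pullback.fst N.u' t)).app N.F').symm

section System

variable (R A' : Type u) [CommRing R] [IsNoetherianRing R] [CommRing A'] [Algebra R A']

/-- The system of finitely generated subrings over the base. -/
def approxTo : ConsH13.Over.approxDiagram R A' ⟶
    (Functor.const (ConsH13.Over.FGSub R A')ᵒᵖ).obj (Spec (CommRingCat.of R)) where
  app S := Spec.map (CommRingCat.ofHom (algebraMap R S.unop.1))
  naturality S T a := by
    refine Eq.trans ?_ (Category.comp_id _).symm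
    exact (Spec.map_comp _ _).symm

instance (S : (ConsH13.Over.FGSub R A')ᵒᵖ) : IsAffineHom ((approxTo R A').app S) :=
  inferInstanceAs (IsAffineHom (Spec.map (CommRingCat.ofHom (algebraMap R S.unop.1))))

lemma approxCone_to (S : (ConsH13.Over.FGSub R A')ᵒᵖ) :
    (ConsH13.Over.approxCone R A').π.app S ≫ (approxTo R A').app S =
      Spec.map (CommRingCat.ofHom (algebraMap R A')) :=
  (Spec.map_comp _ _).symm

end System

/-- Separatedness at a stage. -/
theorem exists_nmodel_separated [IsSeparated u] (N : NModel u F) : ∃ N' : NModel u F, IsSeparated N'.u' := by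
  letI := (Spec.preimage N.π).hom.toAlgebra
  have hq : ∀ j, (ConsH13.Over.approxCone N.R A).π.app j ≫ (approxTo N.R A).app j = N.π := fun j =>
    (approxCone_to N.R A j).trans (Spec.map_preimage N.π)
  haveI : @IsSeparated X (ConsH13.Over.approxCone N.R A).pt u := ‹IsSeparated u›
  obtain ⟨j, hj⟩ := LimH13.exists_isSeparated (t := approxTo N.R A) (f := N.u')
    (ConsH13.Over.isLimitApproxCone N.R A) hq (g := u) N.sq
  exact ⟨N.stage (R' := (ConsH13.Over.subFunctor N.R A).obj j.unop) ((approxTo N.R A).app j)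
    ((ConsH13.Over.approxCone N.R A).π.app j) (hq j), hj⟩

/-- Properness at a stage. -/
theorem exists_nmodel_proper [IsProper u] (N : NModel u F) : ∃ N' : NModel u F, IsProper N'.u' := by
  obtain ⟨N, hN⟩ := exists_nmodel_separated N
  letI := (Spec.preimage N.π).hom.toAlgebra
  have hq : ∀ j, (ConsH13.Over.approxCone N.R A).π.app j ≫ (approxTo N.R A).app j = N.π := fun j =>
    (approxCone_to N.R A j).trans (Spec.map_preimage N.π)
  haveI : CompactSpace N.X' := QuasiCompact.compactSpace_of_compactSpace N.u'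
  haveI : QuasiSeparatedSpace N.X' := quasiSeparatedSpace_of_quasiSeparated N.u'
  haveI : @IsProper X (ConsH13.Over.approxCone N.R A).pt u := ‹IsProper u›
  obtain ⟨j, hj⟩ := LimH13.exists_isProper N.u' (approxTo N.R A)
    (ConsH13.Over.isLimitApproxCone N.R A) hq N.sq
  exact ⟨N.stage (R' := (ConsH13.Over.subFunctor N.R A).obj j.unop) ((approxTo N.R A).app j)
    ((ConsH13.Over.approxCone N.R A).π.app j) (hq j), hj⟩

/-- Properness and flatness at a stage. -/
theorem exists_nmodel_proper_flat [IsProper u] (hfl : FlatMod.IsFlatOver u F) (N : NModel u F) :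
    ∃ N' : NModel u F, IsProper N'.u' ∧ FlatMod.IsFlatOver N'.u' N'.F' := by
  obtain ⟨N, hN⟩ := exists_nmodel_proper N
  haveI := hN
  letI := (Spec.preimage N.π).hom.toAlgebra
  let D := ConsH13.Over.approxDiagram N.R A
  let c := ConsH13.Over.approxCone N.R A
  have hq : ∀ j, c.π.app j ≫ (approxTo N.R A).app j = N.π := fun j =>
    (approxCone_to N.R A j).trans (Spec.map_preimage N.π)
  obtain ⟨j₀⟩ : Nonempty (ConsH13.Over.FGSub N.R A)ᵒᵖ := ⟨op (Classical.arbitrary _)⟩
  let N₀ := N.stage (R' := (ConsH13.Over.subFunctor N.R A).obj j₀.unop) ((approxTo N.R A).app j₀) (c.π.app j₀) (hq j₀)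
  haveI : IsProper N₀.u' := MorphismProperty.pullback_snd N.u' ((approxTo N.R A).app j₀) hN
  haveI : LocallyOfFinitePresentation N₀.u' := inferInstance
  haveI : IsLocallyNoetherian N₀.X' := LocallyOfFiniteType.isLocallyNoetherian N₀.u'
  haveI := N₀.coh.1
  let u₀ : N₀.X' ⟶ D.obj j₀ := N₀.u'
  haveI : IsProper u₀ := ‹IsProper N₀.u'›
  haveI : LocallyOfFinitePresentation u₀ := ‹LocallyOfFinitePresentation N₀.u'›
  haveI : LocallyOfFinitePresentation (u₀ ≫ 𝟙 (D.obj j₀)) := by rw [Category.comp_id]; infer_instance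
  haveI : @IsProper X c.pt u := ‹IsProper u›
  have hfl₀ : FlatMod.IsFlatOver u ((Scheme.Modules.pullback N₀.q).obj N₀.F') := fun x =>
    SchDom.isFlatOverAt_of_iso _ N₀.iso x (hfl x)
  haveI : CompactSpace (D.obj j₀) := inferInstanceAs (CompactSpace (Spec N₀.R))
  haveI : IsIso (𝟙 c.pt) := IsIso.id _
  haveI : IsIso (𝟙 (D.obj j₀)) := IsIso.id _
  have hid : IsPullback (c.π.app j₀) (𝟙 c.pt) (𝟙 (D.obj j₀)) (c.π.app j₀) :=
    IsPullback.of_vert_isIso ⟨(Category.comp_id _).trans (Category.id_comp _).symm⟩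
  obtain ⟨i, φ, Xi, Yi, fi, gi, pY, pX, hY, hX, hflat⟩ := (Groth.Agent.S4849.result (Y₀ := D.obj j₀)
    D c (ConsH13.Over.isLimitApproxCone N.R A) j₀
    u₀ (𝟙 (D.obj j₀)) N₀.F' (M1.isFP_of_isCoh N₀.coh) u (𝟙 c.pt) (c.π.app j₀) N₀.q
    hid N₀.sq).1 hfl₀
  haveI : IsIso gi := MorphismProperty.of_isPullback (P := MorphismProperty.isomorphisms Scheme.{u}) hY
    (inferInstanceAs (IsIso (𝟙 (D.obj j₀))))
  haveI : IsNoetherianRing ((ConsH13.Over.subFunctor N.R A).obj i.unop) := inferInstance
  let N₁ := N₀.stage (R' := (ConsH13.Over.subFunctor N.R A).obj i.unop) (D.map φ) (c.π.app i) (c.w φ)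
  refine ⟨N₁, MorphismProperty.pullback_snd N₀.u' (D.map φ) ‹IsProper N₀.u'›, fun x => ?_⟩
  have hYw : pY = gi ≫ D.map φ := (Category.comp_id pY).symm.trans hY.w
  have hXi : IsPullback pX (fi ≫ gi) N₀.u' (D.map φ) :=
    hX.of_iso (Iso.refl _) (Iso.refl _) (asIso gi) (Iso.refl _)
      ((Category.comp_id _).trans (Category.id_comp _).symm) (Category.id_comp _).symm
      ((Category.comp_id _).trans (Category.id_comp _).symm) ((Category.comp_id _).trans hYw)
  let gj : Spec N₁.R ⟶ Yi := (inv gi :)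
  haveI : IsIso gj := inferInstanceAs (IsIso (inv gi))
  have H : IsPullback hXi.isoPullback.inv N₁.u' fi gj := IsPullback.of_horiz_isIso ⟨by
    show hXi.isoPullback.inv ≫ fi = pullback.snd N₀.u' (D.map φ) ≫ inv gi
    rw [← cancel_mono gi, Category.assoc, Category.assoc, IsIso.inv_hom_id, Category.comp_id]
    exact hXi.isoPullback_inv_snd⟩
  haveI : Coh.IsQCoh ((Scheme.Modules.pullback pX).obj N₀.F') := M1.isQCoh_pullback pX N₀.coh.1
  refine SchDom.isFlatOverAt_of_iso _ ?_ x (FlatH4.isFlatOverAt_baseChange H _ x (hflat _))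
  exact (Scheme.Modules.pullbackComp _ pX).app N₀.F' ≪≫
    (Scheme.Modules.pullbackCongr hXi.isoPullback_inv_fst).app N₀.F'

/-- A noetherian model, proper and flat. -/
theorem exists_nmodel [IsProper u] [LocallyOfFinitePresentation u] [hF : Coh.IsQCoh F] (hfp : CohB1.IsFP F)
    (hfl : FlatMod.IsFlatOver u F) :
    ∃ N : NModel u F, IsProper N.u' ∧ FlatMod.IsFlatOver N.u' N.F' := by
  obtain ⟨R, hR, π, X', u', q, F', i1, i2, sq, hF', ⟨e⟩⟩ := ConsH13.exists_noetherian_model_mod A u F hfp
  haveI : IsLocallyNoetherian X' := LocallyOfFiniteType.isLocallyNoetherian u'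
  exact exists_nmodel_proper_flat hfl ⟨R, hR, π, X', u', q, F', i1, i2, inferInstance, sq, hF', e⟩

variable {S : Scheme.{u}} {X₀ : Scheme.{u}}

/-- Over every affine open there is a finite projective complex computing the cohomology. -/
theorem exists_model (f : X₀ ⟶ S) [IsProper f] [LocallyOfFinitePresentation f] (G : X₀.Modules)
    [hG : Coh.IsQCoh G] (hfp : CohB1.IsFP G) (hfl : FlatMod.IsFlatOver f G) {V : S.Opens} (hV : IsAffineOpen V) :
    Nonempty (Model f G V) := by
  haveI : IsProper (f ∣_ V ≫ hV.isoSpec.hom) := inferInstance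
  haveI : LocallyOfFinitePresentation (f ∣_ V ≫ hV.isoSpec.hom) := inferInstance
  haveI : Coh.IsQCoh (resU f G V) := M1.isQCoh_restrict hG _
  have hfp' : CohB1.IsFP (resU f G V) :=
    M1.isFP_restrict hfp _
  obtain ⟨N, hN, hNfl⟩ := exists_nmodel (u := f ∣_ V ≫ hV.isoSpec.hom) (F := resU f G V) hfp'
    (isFlatOver_resU hG hfl hV)
  letI : N.X'.Over (Spec (CommRingCat.of N.R)) := ⟨N.u'⟩
  haveI : IsProper (N.X' ↘ Spec (CommRingCat.of N.R)) := hN
  obtain ⟨P, hfin, hfree, ⟨i₀, hb⟩, hpos, hP⟩ := exists_computes N.R N.F' N.coh hNfl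
  letI : Algebra N.R Γ(S, V) := (Spec.preimage N.π).hom.toAlgebra
  haveI := hfree
  haveI : N.X'.IsSeparated := ⟨by
    rw [← terminal.comp_from (N.X' ↘ Spec (CommRingCat.of N.R))]
    infer_instance⟩
  haveI : CompactSpace N.X' := QuasiCompact.compactSpace_of_compactSpace N.u'
  letI := overU f hV
  have hsq : IsPullback N.q ((f ⁻¹ᵁ V : X₀.Opens).toScheme ↘ Spec (CommRingCat.of Γ(S, V)))
      (N.X' ↘ Spec (CommRingCat.of N.R)) (Spec.map (CommRingCat.ofHom (algebraMap N.R Γ(S, V)))) := by
    have e : Spec.map (CommRingCat.ofHom (algebraMap N.R Γ(S, V))) = N.π := Spec.map_preimage N.π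
    rw [e]
    exact N.sq
  exact ⟨{
    isAffine := hV
    P := CohIII.bcCx (algebraMap N.R Γ(S, V)) P
    finite := fun i => finite_bcCx P Γ(S, V) i
    projective := fun i => projective_bcCx P Γ(S, V) i
    bounded := ⟨i₀, fun i hi => FlatCxLib.isZero_bc P (hb i hi)⟩
    pos := fun i hi M => by
      letI : Module N.R M := Module.compHom M (algebraMap N.R Γ(S, V))
      haveI : IsScalarTower N.R Γ(S, V) M := IsScalarTower.of_algebraMap_smul fun _ _ => rfl
      haveI := hpos i hi (ModuleCat.of N.R M)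
      exact ((BCData.self P).tEquivD M (sub_add_cancel i 1)).symm.toEquiv.subsingleton
    computes := Computes.baseChange hP N.coh.1 hsq N.iso.symm }⟩

end Groth.Agent.CBC10
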