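import Groth.Agent.Lib.FlatCx.Local
import Groth.Agent.Lib.FlatCx.Corep
import Mathlib.Algebra.Homology.CochainComplexOpposite
import Mathlib.Algebra.Homology.Embedding.RestrictionHomology

/-!
# Cochain complexes as chain complexes

`M ↦ H^p(L ⊗_A M)` is `M ↦ H_{-p}` of the reindexed complex, so that the criteria for flat chain complexes apply.
-/

set_option autoImplicit false
set_option linter.unusedSectionVars false
set_option linter.style.haveILetI false

universe u

open CategoryTheory CategoryTheory.Limits ComplexShape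

noncomputable section

namespace Groth.Agent.CBC10

section Restriction

variable {C : Type*} [Category C] [Abelian C] {ι ι' : Type*} {c : ComplexShape ι} {c' : ComplexShape ι'}
  {K L : HomologicalComplex C c'} (φ : K ⟶ L) (e : c.Embedding c') [e.IsRelIff] (i j k : ι) (hi : c.prev j = i)
  (hk : c.next j = k) {i' j' k' : ι'} (hi' : e.f i = i') (hj' : e.f j = j') (hk' : e.f k = k')
  (hi'' : c'.prev j' = i') (hk'' : c'.next j' = k')

lemma restrictionCyclesIso_natural :
    HomologicalComplex.cyclesMap (HomologicalComplex.restrictionMap φ e) j ≫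
        (L.restrictionCyclesIso e j k hk hj' hk' hk'').hom =
      (K.restrictionCyclesIso e j k hk hj' hk' hk'').hom ≫ HomologicalComplex.cyclesMap φ j' := by
  rw [← cancel_mono (L.iCycles j'), Category.assoc, Category.assoc,
    HomologicalComplex.restrictionCyclesIso_hom_iCycles, HomologicalComplex.cyclesMap_i,
    HomologicalComplex.cyclesMap_i_assoc, HomologicalComplex.restrictionCyclesIso_hom_iCycles_assoc,
    HomologicalComplex.restrictionMap_f' φ e hj']
  simp

lemma restrictionHomologyIso_natural :
    HomologicalComplex.homologyMap (HomologicalComplex.restrictionMap φ e) j ≫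
        (L.restrictionHomologyIso e i j k hi hk hi' hj' hk' hi'' hk'').hom =
      (K.restrictionHomologyIso e i j k hi hk hi' hj' hk' hi'' hk'').hom ≫
        HomologicalComplex.homologyMap φ j' := by
  rw [← cancel_epi ((K.restriction e).homologyπ j), HomologicalComplex.homologyπ_naturality_assoc,
    HomologicalComplex.homologyπ_restrictionHomologyIso_hom,
    HomologicalComplex.homologyπ_restrictionHomologyIso_hom_assoc, HomologicalComplex.homologyπ_naturality,
    ← Category.assoc, ← Category.assoc, restrictionCyclesIso_natural φ e j k hk hj' hk' hk'']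

end Restriction

variable {A : Type u} [CommRing A] (L : CochainComplex (ModuleCat.{u} A) ℤ)

/-- The cochain complex `L` as a chain complex, `i ↦ L^{-i}`. -/
def down : ChainComplex (ModuleCat.{u} A) ℤ := L.restriction embeddingDownIntUpInt

instance flat_down [h : ∀ i, Module.Flat A (L.X i)] (i : ℤ) : Module.Flat A ((down L).X i) := h _

instance finite_down [h : ∀ i, Module.Finite A (L.X i)] (i : ℤ) : Module.Finite A ((down L).X i) := h _

instance projective_down [h : ∀ i, Module.Projective A (L.X i)] (i : ℤ) :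
    Module.Projective A ((down L).X i) := h _

lemma down_prev (p : ℤ) : (ComplexShape.down ℤ).prev (-p) = -p + 1 := FlatCxLib.prev_eq _

lemma down_next (p : ℤ) : (ComplexShape.down ℤ).next (-p) = -p - 1 := FlatCxLib.next_eq (by omega)

/-- `H_{-p}(L ⊗_A M) = H^p(L ⊗_A M)` as functors of `M`. -/
def downIso (p : ℤ) : CohIII.TFun (down L) (-p) ≅ CohIII.TFun L p :=
  NatIso.ofComponents
    (fun M => (CohIII.tensorObj L M).restrictionHomologyIso embeddingDownIntUpInt (-p + 1) (-p) (-p - 1)
      (down_prev p) (down_next p) (i' := p - 1) (j' := p) (k' := p + 1)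
      (show -(-p + 1) = p - 1 by omega) (neg_neg p) (show -(-p - 1) = p + 1 by omega)
      (CochainComplex.prev ℤ p) (CochainComplex.next ℤ p))
    fun g => restrictionHomologyIso_natural (CohIII.tensorMap L g) embeddingDownIntUpInt _ _ _ _ _ _ _ _ _ _

theorem preservesEpi_congr {C D : Type*} [Category C] [Category D] {F G : C ⥤ D} (e : F ≅ G) :
    F.PreservesEpimorphisms ↔ G.PreservesEpimorphisms :=
  ⟨fun _ => Functor.PreservesEpimorphisms.of_iso e, fun _ => Functor.PreservesEpimorphisms.of_iso e.symm⟩

theorem preservesMono_congr {C D : Type*} [Category C] [Category D] {F G : C ⥤ D} (e : F ≅ G) :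
    F.PreservesMonomorphisms ↔ G.PreservesMonomorphisms :=
  ⟨fun _ => Functor.PreservesMonomorphisms.of_iso e, fun _ => Functor.PreservesMonomorphisms.of_iso e.symm⟩

theorem preservesEpi_forget₂ {C : Type*} [Category C] (F : C ⥤ ModuleCat.{u} A) :
    (F ⋙ forget₂ (ModuleCat.{u} A) AddCommGrpCat.{u}).PreservesEpimorphisms ↔ F.PreservesEpimorphisms :=
  ⟨fun _ => ⟨fun f _ => (forget₂ (ModuleCat.{u} A) AddCommGrpCat.{u}).epi_of_epi_map
      ((F ⋙ forget₂ (ModuleCat.{u} A) AddCommGrpCat.{u}).map_epi f)⟩,
    fun _ => ⟨fun f _ => (forget₂ (ModuleCat.{u} A) AddCommGrpCat.{u}).map_epi (F.map f)⟩⟩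

theorem preservesMono_forget₂ {C : Type*} [Category C] (F : C ⥤ ModuleCat.{u} A) :
    (F ⋙ forget₂ (ModuleCat.{u} A) AddCommGrpCat.{u}).PreservesMonomorphisms ↔ F.PreservesMonomorphisms :=
  ⟨fun _ => ⟨fun f _ => (forget₂ (ModuleCat.{u} A) AddCommGrpCat.{u}).mono_of_mono_map
      ((F ⋙ forget₂ (ModuleCat.{u} A) AddCommGrpCat.{u}).map_mono f)⟩,
    fun _ => ⟨fun f _ => (forget₂ (ModuleCat.{u} A) AddCommGrpCat.{u}).map_mono (F.map f)⟩⟩

theorem surjective_map_congr {C : Type*} [Category C] {F G : C ⥤ AddCommGrpCat.{u}} (e : F ≅ G) {M N : C}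
    (g : M ⟶ N) : Function.Surjective (F.map g).hom ↔ Function.Surjective (G.map g).hom :=
  (AddCommGrpCat.epi_iff_surjective _).symm.trans ((show Epi (F.map g) ↔ Epi (G.map g) from
    ⟨fun _ => by
      rw [show G.map g = e.inv.app M ≫ F.map g ≫ e.hom.app N by simp]
      infer_instance,
    fun _ => by
      rw [show F.map g = e.hom.app M ≫ G.map g ≫ e.inv.app N by simp]
      infer_instance⟩).trans
    (AddCommGrpCat.epi_iff_surjective _))

section Transfer

variable {G : ℕ → (ModuleCat.{u} A ⥤ AddCommGrpCat.{u})}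
  (c : ∀ p : ℕ, CohIII.TFun L (p : ℤ) ⋙ forget₂ (ModuleCat.{u} A) AddCommGrpCat.{u} ≅ G p)

/-- The comparison with the chain complex. -/
def downIso' (p : ℕ) : CohIII.TFun (down L) (-(p : ℤ)) ⋙ forget₂ (ModuleCat.{u} A) AddCommGrpCat.{u} ≅ G p :=
  Functor.isoWhiskerRight (downIso L p) _ ≪≫ c p

include c in
theorem preservesEpi_iff_down (p : ℕ) :
    (G p).PreservesEpimorphisms ↔ (CohIII.TFun (down L) (-(p : ℤ))).PreservesEpimorphisms :=
  (preservesEpi_congr (downIso' L c p)).symm.trans (preservesEpi_forget₂ _)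

include c in
theorem preservesMono_iff_down (p : ℕ) :
    (G p).PreservesMonomorphisms ↔ (CohIII.TFun (down L) (-(p : ℤ))).PreservesMonomorphisms :=
  (preservesMono_congr (downIso' L c p)).symm.trans (preservesMono_forget₂ _)

include c in
theorem surjective_map_iff_down (p : ℕ) {M N : ModuleCat.{u} A} (g : M ⟶ N) :
    Function.Surjective ((G p).map g).hom ↔
      Function.Surjective ((CohIII.TFun (down L) (-(p : ℤ))).map g).hom :=
  (surjective_map_congr (downIso' L c p) g).symm

variable [∀ i, Module.Flat A (L.X i)]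

include c in
theorem preservesEpi_iff_flat (p : ℕ) :
    (G p).PreservesEpimorphisms ↔ Module.Flat A (FlatCxLib.Cok (down L) (-((p + 1 : ℕ) : ℤ))) :=
  (preservesEpi_iff_down L c p).trans (FlatCxLib.preservesEpi_iff (down L) (by push_cast; omega))

include c in
theorem preservesEpi_iff_preservesMono_succ (p : ℕ) :
    (G p).PreservesEpimorphisms ↔ (G (p + 1)).PreservesMonomorphisms :=
  (preservesEpi_iff_flat L c p).trans
    ((FlatCxLib.preservesMono_iff (down L) _).symm.trans (preservesMono_iff_down L c (p + 1)).symm)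

include c in
/-- The exchange property at `p` is the corepresentability of the next functor. -/
theorem preservesEpi_iff_corep [IsNoetherianRing A] [∀ i, Module.Finite A (L.X i)]
    [∀ i, Module.Projective A (L.X i)] (p : ℕ) :
    (G p).PreservesEpimorphisms ↔ ∃ Q : ModuleCat.{u} A, Nonempty (G (p + 1) ≅
      (linearCoyoneda A (ModuleCat.{u} A)).obj (Opposite.op Q) ⋙ forget₂ (ModuleCat.{u} A) AddCommGrpCat.{u}) := by
  constructor
  · intro h
    haveI := (preservesEpi_iff_flat L c p).1 h
    haveI := Module.finitePresentation_of_finite A (FlatCxLib.Cok (down L) (-((p + 1 : ℕ) : ℤ)))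
    haveI := Module.Flat.projective_of_finitePresentation (R := A) (M := FlatCxLib.Cok (down L) (-((p + 1 : ℕ) : ℤ)))
    exact ⟨_, ⟨(downIso' L c (p + 1)).symm ≪≫ Functor.isoWhiskerRight
      (FlatCxLib.corepIso (down L) (p := -((p + 1 : ℕ) : ℤ)) (sub_add_cancel _ 1)) _⟩⟩
  · rintro ⟨Q, ⟨e⟩⟩
    rw [preservesEpi_iff_preservesMono_succ L c p, preservesMono_congr e, preservesMono_forget₂]
    refine ⟨fun f _ => (ModuleCat.mono_iff_injective _).2 fun a b hab => ?_⟩
    exact (cancel_mono f).1 hab

end Transfer

end Groth.Agent.CBC10
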