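import Groth.Agent.Lib.CBC10.Complex
import Groth.Agent.Lib.CBC10.Down

/-!
# Exchange criteria for `M ↦ H^p(X, f^*M~ ⊗ F)`
-/

set_option autoImplicit false
set_option linter.style.haveILetI false
set_option linter.unusedSectionVars false

universe u

open CategoryTheory CategoryTheory.Limits AlgebraicGeometry

noncomputable section

namespace Groth.Agent.CBC10

variable (A : Type u) [CommRing A] {X : Scheme.{u}} [X.Over (Spec (CommRingCat.of A))] (F : X.Modules)

/-- The functor `M ↦ H^p(X, f^*M~ ⊗ F)`. -/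
abbrev TX (p : ℕ) : ModuleCat.{u} A ⥤ AddCommGrpCat.{u} := CohIII.tensorAFunctor A F ⋙ CohIII.HAb X p

variable [IsNoetherianRing A] [IsProper (X ↘ Spec (CommRingCat.of A))] (hF : Coh.IsCoh F)
  (hfl : FlatMod.IsFlatOver (X ↘ Spec (CommRingCat.of A)) F)

include hF hfl in
theorem exists_finite_projective_complex :
    ∃ L : CochainComplex (ModuleCat.{u} A) ℤ, (∀ i, Module.Finite A (L.X i)) ∧ (∀ i, Module.Projective A (L.X i)) ∧
      (∀ i, Module.Flat A (L.X i)) ∧
      Nonempty (∀ p : ℕ, CohIII.TFun L (p : ℤ) ⋙ forget₂ (ModuleCat.{u} A) AddCommGrpCat.{u} ≅ TX A F p) := by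
  obtain ⟨L, hL, _, _, hc⟩ := exists_complex_functor A F hF hfl
  haveI := fun i => (hL i).2
  exact ⟨L, fun i => (hL i).1, fun i => inferInstance, fun i => inferInstance, ⟨fun p => (hc p).some⟩⟩

include hF hfl in
theorem preservesEpi_iff_exists_corep (p : ℕ) :
    (TX A F p).PreservesEpimorphisms ↔ ∃ Q : ModuleCat.{u} A, Nonempty (TX A F (p + 1) ≅
      (linearCoyoneda A (ModuleCat.{u} A)).obj (Opposite.op Q) ⋙ forget₂ (ModuleCat.{u} A) AddCommGrpCat.{u}) := by
  obtain ⟨L, h1, h2, h3, ⟨c⟩⟩ := exists_finite_projective_complex A F hF hfl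
  exact preservesEpi_iff_corep L c p

include hF hfl in
theorem preservesEpi_iff_surjective_residue [IsLocalRing A] (p : ℕ) :
    (TX A F p).PreservesEpimorphisms ↔ Function.Surjective ((TX A F p).map
      (ModuleCat.ofHom (Algebra.linearMap A (IsLocalRing.ResidueField A)))).hom := by
  obtain ⟨L, h1, h2, h3, ⟨c⟩⟩ := exists_finite_projective_complex A F hF hfl
  rw [preservesEpi_iff_down L c p, surjective_map_iff_down L c p]
  exact FlatCxLib.preservesEpi_iff_surjective (down L) _

include hF hfl in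
theorem preservesEpi_iff_preservesMono_succ' (p : ℕ) :
    (TX A F p).PreservesEpimorphisms ↔ (TX A F (p + 1)).PreservesMonomorphisms := by
  obtain ⟨L, h1, h2, h3, ⟨c⟩⟩ := exists_finite_projective_complex A F hF hfl
  exact preservesEpi_iff_preservesMono_succ L c p

end Groth.Agent.CBC10
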