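import Groth.Agent.Lib.CBC10.Pullback
import Groth.Agent.Lib.CBC10.Crit
import Groth.Agent.Lib.FlatCx.Fiber

/-!
# Fibres and base changes, computed by the complex
-/

set_option autoImplicit false
set_option linter.style.haveILetI false
set_option linter.unusedSectionVars false
set_option maxHeartbeats 1000000

universe u

open CategoryTheory CategoryTheory.Limits AlgebraicGeometry Opposite

noncomputable section

namespace Groth.Agent.CBC10

variable (A : Type u) [CommRing A] {X : Scheme.{u}} [X.Over (Spec (CommRingCat.of A))] (F : X.Modules)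

/-- The chain complex `P` computes `M ↦ H^p(X, F ⊗_A M)`, in degree `-p`. -/
def Computes (P : ChainComplex (ModuleCat.{u} A) ℤ) : Prop :=
  ∃ e : ∀ (p : ℕ) (M : ModuleCat.{u} A),
      CohIII.T P (-(p : ℤ)) M ≃ₗ[A] Coh.HH X (CohIII.tensorA A F M) p,
    ∀ (p : ℕ) {M M' : ModuleCat.{u} A} (g : M ⟶ M') (x : CohIII.T P (-(p : ℤ)) M),
      e p M' ((CohIII.TFun P (-(p : ℤ))).map g x) =
        Sheaf.H.map ((SheafOfModules.toSheaf X.ringCatSheaf).map (psi A F g)) p (e p M x)

/-- A bounded complex of finite free modules computing the cohomology, as a chain complex. -/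
theorem exists_computes [IsNoetherianRing A] [IsProper (X ↘ Spec (CommRingCat.of A))] (hF : Coh.IsCoh F)
    (hfl : FlatMod.IsFlatOver (X ↘ Spec (CommRingCat.of A)) F) :
    ∃ P : ChainComplex (ModuleCat.{u} A) ℤ, (∀ i, Module.Finite A (P.X i)) ∧ (∀ i, Module.Free A (P.X i)) ∧
      (∃ i₀ : ℤ, ∀ i < i₀, IsZero (P.X i)) ∧
      (∀ (i : ℤ), 0 < i → ∀ M : ModuleCat.{u} A, Subsingleton (CohIII.T P i M)) ∧ Computes A F P := by
  obtain ⟨L, hL, ⟨b, hb⟩, hneg, e, he⟩ := exists_complex A F hF hfl
  refine ⟨down L, fun i => (hL _).1, fun i => (hL _).2, ⟨-b, fun i hi => hb (-i) (by omega)⟩, fun i hi M => ?_,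
    fun p M => ((downIso L p).app M).toLinearEquiv.trans (e p M), fun p M M' g x => ?_⟩
  · haveI : Subsingleton ((CohIII.TFun L (-i)).obj M) := hneg (-i) (by omega) M
    have h : Subsingleton (CohIII.T (down L) (- -i) M) :=
      ((downIso L (-i)).app M).toLinearEquiv.toEquiv.subsingleton
    rw [neg_neg] at h
    exact h
  · refine Eq.trans (congrArg (e p M') ?_) (he p g (((downIso L p).app M).toLinearEquiv x))
    exact ConcreteCategory.congr_hom ((downIso L p).hom.naturality g) x

variable {A F} {P : ChainComplex (ModuleCat.{u} A) ℤ}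

theorem Computes.natIso (h : Computes A F P) (p : ℕ) :
    Nonempty (CohIII.TFun P (-(p : ℤ)) ⋙ forget₂ (ModuleCat.{u} A) AddCommGrpCat.{u} ≅ TX A F p) := by
  obtain ⟨e, he⟩ := h
  refine nonempty_natIso _ _ (fun M => (e p M).toAddEquiv.trans (hmapEquiv (tensorAIso A F M).symm p))
    fun {M M'} g x => ?_
  refine Eq.trans (congrArg (hmapEquiv (tensorAIso A F M').symm p) (he p g x)) ?_
  exact hmap_square _ _ _ _ (psi_tensorAIso A F g) p (e p M x)

theorem Computes.preservesEpi_iff (h : Computes A F P) (p : ℕ) :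
    (TX A F p).PreservesEpimorphisms ↔ (CohIII.TFun P (-(p : ℤ))).PreservesEpimorphisms :=
  (preservesEpi_congr (h.natIso p).some).symm.trans (preservesEpi_forget₂ _)

theorem Computes.preservesMono_iff (h : Computes A F P) (p : ℕ) :
    (TX A F p).PreservesMonomorphisms ↔ (CohIII.TFun P (-(p : ℤ))).PreservesMonomorphisms :=
  (preservesMono_congr (h.natIso p).some).symm.trans (preservesMono_forget₂ _)

theorem affine_of_sq {B : Type u} [CommRing B] [Algebra A B] {X' : Scheme.{u}}
    [X'.Over (Spec (CommRingCat.of B))] [X'.Over (Spec (CommRingCat.of A))] {g : X' ⟶ X}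
    (h : Sq (A := A) (B := B) g) : IsAffineHom g :=
  MorphismProperty.of_isPullback h.isPullback.flip inferInstance

/-- `H^p(X', g^* F) = T^p(B)` for a base change along `A → B`, compatibly with the action of `B`. -/
theorem Computes.exists_bc [X.IsSeparated] [CompactSpace X] (hP : Computes A F P) (hF : Coh.IsQCoh F)
    {B : Type u} [CommRing B] [Algebra A B] {X' : Scheme.{u}} [X'.Over (Spec (CommRingCat.of B))]
    {g : X' ⟶ X} (h : IsPullback g (X' ↘ Spec (CommRingCat.of B)) (X ↘ Spec (CommRingCat.of A))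
      (Spec.map (CommRingCat.ofHom (algebraMap A B)))) :
    ∃ ε : ∀ p : ℕ, CohIII.T P (-(p : ℤ)) (ModuleCat.of A B) ≃+ Coh.HH X' ((Scheme.Modules.pullback g).obj F) p,
      ∀ (p : ℕ) (c : B) (x : CohIII.T P (-(p : ℤ)) (ModuleCat.of A B)),
        ε p ((CohIII.TFun P (-(p : ℤ))).map (ModuleCat.ofHom (LinearMap.mulLeft A c)) x) = c • ε p x := by
  letI : X'.Over (Spec (CommRingCat.of A)) :=
    ⟨(X' ↘ Spec (CommRingCat.of B)) ≫ Spec.map (CommRingCat.ofHom (algebraMap A B))⟩
  have hsq : Sq (A := A) (B := B) g := ⟨h, rfl⟩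
  obtain ⟨ι, _, U, hcov, hU₀⟩ := exists_finite_affine_cover X
  obtain ⟨ε, hε⟩ := exists_bcEquiv (affine_of_sq hsq) hsq hF
  obtain ⟨e, he⟩ := hP
  refine ⟨fun p => (e p (ModuleCat.of A B)).toAddEquiv.trans (ε p), fun p c x => ?_⟩
  exact (congrArg (ε p) (he p (ModuleCat.ofHom (LinearMap.mulLeft A c)) x)).trans
    (hε p c (e p (ModuleCat.of A B) x))

section Fibre

variable (y : ↥(Spec (CommRingCat.of A)))

/-- The residue field of a prime. -/
abbrev kap : Type u := (PrimeSpectrum.asIdeal (R := A) y).ResidueField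

theorem fiber_isPullback :
    IsPullback ((X ↘ Spec (CommRingCat.of A)).fiberι y)
      ((X ↘ Spec (CommRingCat.of A)).fiberToSpecResidueField y ≫
        Spec.map (Scheme.Spec.residueFieldIso (CommRingCat.of A) y).inv)
      (X ↘ Spec (CommRingCat.of A)) (Spec.map (CommRingCat.ofHom (algebraMap A (kap y)))) := by
  refine IsPullback.of_iso (IsPullback.of_hasPullback (X ↘ Spec (CommRingCat.of A))
      ((Spec (CommRingCat.of A)).fromSpecResidueField y)) (Iso.refl _) (Iso.refl _)
    (asIso (Spec.map (Scheme.Spec.residueFieldIso (CommRingCat.of A) y).inv)) (Iso.refl _) ?_ ?_ ?_ ?_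
  · simp; rfl
  · simp; rfl
  · simp
  · simp only [Iso.refl_hom, Category.comp_id, asIso_hom]
    exact (Scheme.Spec.map_residueFieldIso_inv_eq_fromSpecResidueField (CommRingCat.of A) y).symm

/-- `H^p(X_y, F_y) = T^p(k(y))`, compatibly with the residue field. -/
theorem Computes.exists_fiber [X.IsSeparated] [CompactSpace X] (hP : Computes A F P) (hF : Coh.IsQCoh F) :
    ∃ ε : ∀ p : ℕ, CohIII.T P (-(p : ℤ)) (ModuleCat.of A (kap y)) ≃+
        CohIII.fiberH (X ↘ Spec (CommRingCat.of A)) F y p,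
      ∀ (p : ℕ) (c : kap y) (x : CohIII.T P (-(p : ℤ)) (ModuleCat.of A (kap y))),
        ε p ((CohIII.TFun P (-(p : ℤ))).map (ModuleCat.ofHom (LinearMap.mulLeft A c)) x) =
          (Scheme.Spec.residueFieldIso (CommRingCat.of A) y).inv c • ε p x := by
  let f := X ↘ Spec (CommRingCat.of A)
  letI : (f.fiber y).Over (Spec (CommRingCat.of (kap y))) :=
    ⟨f.fiberToSpecResidueField y ≫ Spec.map (Scheme.Spec.residueFieldIso (CommRingCat.of A) y).inv⟩
  obtain ⟨ε, hε⟩ := hP.exists_bc hF (fiber_isPullback (X := X) y)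
  refine ⟨ε, fun p c x => (hε p c x).trans ?_⟩
  refine congrArg (fun t : Coh.Γtop (f.fiber y) => (t • ε p x : Coh.HH (f.fiber y) (CohIII.fiberMod f F y) p)) ?_
  exact congrArg (fun t => (f.fiberToSpecResidueField y).appTop t)
    (ConcreteCategory.congr_hom
      (Scheme.ΓSpecIso_inv_naturality (Scheme.Spec.residueFieldIso (CommRingCat.of A) y).inv) c).symm

theorem Computes.subsingleton_fiberH_iff [X.IsSeparated] [CompactSpace X] (hP : Computes A F P)
    (hF : Coh.IsQCoh F) (p : ℕ) :
    Subsingleton (CohIII.fiberH (X ↘ Spec (CommRingCat.of A)) F y p) ↔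
      Subsingleton (CohIII.T P (-(p : ℤ)) (ModuleCat.of A (kap y))) := by
  obtain ⟨ε, -⟩ := hP.exists_fiber y hF
  exact (ε p).toEquiv.subsingleton_congr.symm

theorem Computes.fiberRank_eq [X.IsSeparated] [CompactSpace X] (hP : Computes A F P)
    (hF : Coh.IsQCoh F) (p : ℕ) :
    CohIII.fiberRank (X ↘ Spec (CommRingCat.of A)) F p y = CohIII.dRank P (-(p : ℤ)) y := by
  obtain ⟨ε, hε⟩ := hP.exists_fiber y hF
  let σ := (Scheme.Spec.residueFieldIso (CommRingCat.of A) y).symm.commRingCatIsoToRingEquiv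
  let j := ((FlatCxLib.tensorBcEquiv P (kap y) (sub_add_cancel (-(p : ℤ)) 1)).symm.trans (ε p))
  have hj : ∀ (c : kap y) m, j (c • m) = σ c • j m := fun c m => by
    obtain ⟨x, rfl⟩ := (FlatCxLib.tensorBcEquiv P (kap y) (sub_add_cancel (-(p : ℤ)) 1)).surjective m
    rw [← FlatCxLib.tensorBcEquiv_mul]
    simp only [j, AddEquiv.trans_apply, AddEquiv.symm_apply_apply]
    exact hε p c x
  exact (congrArg Cardinal.toNat (rank_eq_of_equiv_equiv σ j σ.bijective hj)).symm

end Fibre

end Groth.Agent.CBC10
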