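import Groth.Agent.Lib.CBC10.Shrink
import Groth.Agent.Lib.CBC10.Fib
import Groth.Agent.Lib.ModM1.Fpqc

/-!
# Models at a point
-/

set_option autoImplicit false
set_option linter.style.haveILetI false
set_option linter.unusedSectionVars false
set_option maxHeartbeats 2000000

universe u

open CategoryTheory CategoryTheory.Limits AlgebraicGeometry TopologicalSpace Opposite TensorProduct

noncomputable section

namespace Groth.Agent.CBC10

section Alg

variable {A : Type u} [CommRing A] (P : ChainComplex (ModuleCat.{u} A) ℤ) (p : ℤ)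

/-- The comparison only depends on the module. -/
theorem theta_surjective_congr {M N : Type u} [AddCommGroup M] [Module A M] [AddCommGroup N] [Module A N]
    (e : M ≃ₗ[A] N) :
    Function.Surjective (FlatCxLib.theta P p M) ↔ Function.Surjective (FlatCxLib.theta P p N) := by
  have key : ∀ {M N : Type u} [AddCommGroup M] [Module A M] [AddCommGroup N] [Module A N] (e : M ≃ₗ[A] N),
      Function.Surjective (FlatCxLib.theta P p M) → Function.Surjective (FlatCxLib.theta P p N) := by
    intro M N _ _ _ _ e h y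
    obtain ⟨x, hx⟩ := h (FlatCxLib.Tmap P p e.symm.toLinearMap y)
    refine ⟨e.toLinearMap.lTensor _ x, ?_⟩
    rw [FlatCxLib.theta_natural, hx, ← LinearMap.comp_apply, ← FlatCxLib.Tmap_comp,
      LinearEquiv.comp_symm, FlatCxLib.Tmap_id]
    rfl
  exact ⟨key e, key e.symm⟩

end Alg

variable {X S : Scheme.{u}} {f : X ⟶ S} {F : X.Modules} {V : S.Opens}

theorem Model.fiberRank_eq [IsProper f] (hF : Coh.IsQCoh F) (M : Model f F V) (p : ℕ) (v : V) :
    CohIII.fiberRank f F p v.1 = CohIII.dRank M.P (-(p : ℤ)) (M.isAffine.primeIdealOf v) :=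
  M.computes.fiberRank_eq v.2 hF p

/-- The rank of the fibre cohomology is locally constant where the two cokernels are flat. -/
theorem Model.isLocallyConstant_fiberRank [IsProper f] (hF : Coh.IsQCoh F) (M : Model f F V) (p : ℕ)
    (h1 : M.FlatCok (-(p : ℤ))) (h2 : M.FlatCok (-(p : ℤ) - 1)) :
    IsLocallyConstant (fun v : V => CohIII.fiberRank f F p v.1) := by
  haveI : Module.Flat Γ(S, V) (FlatCxLib.Cok M.P (-(p : ℤ))) := h1
  haveI : Module.Flat Γ(S, V) (FlatCxLib.Cok M.P (-(p : ℤ) - 1)) := h2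
  have hc : Continuous (M.isAffine.primeIdealOf : V → PrimeSpectrum Γ(S, V)) :=
    M.isAffine.isoSpec.hom.continuous
  have := (isLocallyConstant_dRank M.P (sub_add_cancel (-(p : ℤ)) 1)).comp_continuous hc
  exact (funext fun v : V => M.fiberRank_eq hF p v) ▸ this

/-- Where the fibre cohomology vanishes the neighbouring cokernels are free. -/
theorem Model.freeAt_of_subsingleton [IsProper f] (hF : Coh.IsQCoh F) (M : Model f F V) {s : S} (hs : s ∈ V)
    (p : ℕ) (h : Subsingleton (CohIII.fiberH f F s p)) :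
    M.FreeAt (-(p : ℤ)) s ∧ M.FreeAt (-(p : ℤ) - 1) s := by
  letI : Algebra Γ(S, V) (S.presheaf.stalk s) := (S.presheaf.germ V s hs).hom.toAlgebra
  haveI := M.isAffine.isLocalization_stalk ⟨s, hs⟩
  have h' := (M.computes.subsingleton_fiberH_iff hs hF p).1 h
  haveI : Subsingleton (CohIII.T M.P (-(p : ℤ))
      (ModuleCat.of Γ(S, V) (IsLocalRing.ResidueField (S.presheaf.stalk s)))) := by
    letI a₁ := algEval (U := V) hs
    let e : (ModuleCat.of Γ(S, V) (S.residueField s)) ≅
        @ModuleCat.of Γ(S, V) _ (IsLocalRing.ResidueField (S.presheaf.stalk s)) _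
          (IsLocalRing.ResidueField.algebra (S.presheaf.stalk s)).toModule :=
      LinearEquiv.toModuleIso
        { toFun := fun x => x
          invFun := fun x => x
          map_add' := fun _ _ => rfl
          map_smul' := fun a x => by
            rw [RingHom.id_apply, Algebra.smul_def, Algebra.smul_def]
            rfl
          left_inv := fun _ => rfl
          right_inv := fun _ => rfl }
    exact @Equiv.subsingleton _ _ ((CohIII.TFun M.P (-(p : ℤ))).mapIso e).toLinearEquiv.symm.toEquiv h'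
  obtain ⟨h1, h2⟩ := mem_freeLocus_of_subsingleton M.P (M.isAffine.primeIdealOf ⟨s, hs⟩) (S.presheaf.stalk s)
    (sub_add_cancel (-(p : ℤ)) 1)
  exact ⟨⟨hs, h1⟩, ⟨hs, h2⟩⟩

/-- A neighbourhood of a point with vanishing fibre cohomology. -/
theorem Model.exists_zero_nhd [IsProper f] [HasInjectiveResolutions X.Modules] (hF : Coh.IsQCoh F)
    (M : Model f F V) {s : S} (hs : s ∈ V) (p : ℕ) (h : Subsingleton (CohIII.fiberH f F s p)) :
    ∃ (V' : S.Opens) (_ : V' ≤ V) (M' : Model f F V'), s ∈ V' ∧ M'.FlatCok (-(p : ℤ)) ∧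
      M'.FlatCok (-(p : ℤ) - 1) ∧ IsZero (((Coh.Rpush f p).obj F).restrict M'.isAffine.fromSpec) ∧
      ∀ y ∈ V', Subsingleton (CohIII.fiberH f F y p) := by
  classical
  obtain ⟨hf1, hf2⟩ := M.freeAt_of_subsingleton hF hs p h
  obtain ⟨V₁, hV₁, M₁, hs₁, hflat⟩ := M.exists_shrink hF hs {-(p : ℤ), -(p : ℤ) - 1} (by simp [hf1, hf2])
  haveI i1 : M₁.FlatCok (-(p : ℤ)) := hflat _ (by simp)
  haveI i2 : M₁.FlatCok (-(p : ℤ) - 1) := hflat _ (by simp)
  obtain ⟨hfin, hproj⟩ := finite_projective_H M₁.P (sub_add_cancel (-(p : ℤ)) 1)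
  haveI := Module.finitePresentation_of_projective Γ(S, V₁) (FlatCxLib.H M₁.P (-(p : ℤ)))
  have he := (FlatCxLib.preservesEpi_iff M₁.P (sub_add_cancel (-(p : ℤ)) 1)).2 i2
  let O : Set (PrimeSpectrum Γ(S, V₁)) :=
    {x | Module.rankAtStalk (R := Γ(S, V₁)) (FlatCxLib.H M₁.P (-(p : ℤ))) x = 0}
  have hO : IsOpen O := Module.isLocallyConstant_rankAtStalk.isOpen_fiber 0
  have hxO : M₁.isAffine.primeIdealOf ⟨s, hs₁⟩ ∈ O :=
    ((FlatCxLib.fibRank_eq_rankAtStalk _).symm.trans (FlatCxLib.dRank_eq_finrank M₁.P _ he _).symm).trans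
      ((M₁.fiberRank_eq hF p ⟨s, hs₁⟩).symm.trans Module.finrank_zero_of_subsingleton)
  let O' : S.Opens := ⟨M₁.isAffine.fromSpec '' O, M₁.isAffine.fromSpec.isOpenEmbedding.isOpenMap O hO⟩
  obtain ⟨V', hV', hsV', hle⟩ := Opens.isBasis_iff_nbhd.1 S.isBasis_affineOpens
    (show s ∈ O' from ⟨_, hxO, M₁.isAffine.fromSpec_primeIdealOf ⟨s, hs₁⟩⟩)
  have hle₁ : V' ≤ V₁ := fun y hy => by
    obtain ⟨z, -, rfl⟩ := hle hy
    rw [← SetLike.mem_coe, ← M₁.isAffine.range_fromSpec]
    exact ⟨z, rfl⟩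
  letI := (S.presheaf.map (homOfLE hle₁).op).hom.toAlgebra
  let M' := M₁.restrict hF hV' hle₁
  have g1 : M'.FlatCok (-(p : ℤ)) := FlatCxLib.flat_cok_baseChange Γ(S, V') M₁.P _ i1
  have g2 : M'.FlatCok (-(p : ℤ) - 1) := FlatCxLib.flat_cok_baseChange Γ(S, V') M₁.P _ i2
  haveI hz : Subsingleton (FlatCxLib.H M'.P (-(p : ℤ))) := by
    have hB : Subsingleton (Γ(S, V') ⊗[Γ(S, V₁)] FlatCxLib.H M₁.P (-(p : ℤ))) :=
      (Module.rankAtStalk_eq_zero_iff_subsingleton (R := Γ(S, V'))).1 (funext fun y => by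
        rw [Module.rankAtStalk_baseChange]
        have hy : (show IsAffineOpen (V' : S.Opens) from hV').fromSpec y ∈ O' := hle (by
          show (show IsAffineOpen (V' : S.Opens) from hV').fromSpec y ∈ (V' : Set S)
          rw [← (show IsAffineOpen (V' : S.Opens) from hV').range_fromSpec]; exact ⟨y, rfl⟩)
        obtain ⟨z, hzO, hz⟩ := hy
        rw [← M₁.isAffine.map_fromSpec hV' (homOfLE hle₁).op] at hz
        obtain rfl := M₁.isAffine.fromSpec.isOpenEmbedding.injective hz
        exact hzO)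
    exact (((FlatCxLib.homologyBaseChange M₁.P Γ(S, V') (sub_add_cancel (-(p : ℤ)) 1) he)).trans
      (FlatCxLib.unitEquiv M'.P (-(p : ℤ))).symm).symm.toEquiv.subsingleton
  refine ⟨V', hle₁.trans hV₁, M', hsV', g1, g2, ?_, fun y hy => ?_⟩
  · obtain ⟨i⟩ := M'.computes.nonempty_rpush_iso hF p
    exact ((tilde.functor (CommRingCat.of Γ(S, V'))).map_isZero
      (@ModuleCat.isZero_of_subsingleton _ _ (CohIII.T M'.P (-(p : ℤ)) (ModuleCat.of Γ(S, V') Γ(S, V'))) hz)).of_iso i
  · letI := algEval (U := V') hy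
    refine (M'.computes.subsingleton_fiberH_iff hy hF p).2 ?_
    exact (FlatCxLib.theta_surjective M'.P _
      ((FlatCxLib.preservesEpi_iff M'.P (sub_add_cancel (-(p : ℤ)) 1)).2 g2) (S.residueField y)).subsingleton

/-- A finite locally free higher direct image has flat homology. -/
theorem Model.flat_H_of_isFinLocFree [IsProper f] [HasInjectiveResolutions X.Modules] (hF : Coh.IsQCoh F)
    (M : Model f F V) (p : ℕ) {U : S.Opens} (hVU : V ≤ U)
    (h : FlatMod.IsFinLocFree (((Coh.Rpush f p).obj F).restrict U.ι)) :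
    Module.Flat Γ(S, V) (FlatCxLib.H M.P (-(p : ℤ))) := by
  obtain ⟨i⟩ := M.computes.nonempty_rpush_iso hF p
  have hr : Set.range M.isAffine.fromSpec ⊆ Set.range U.ι := by
    rw [M.isAffine.range_fromSpec, Scheme.Opens.range_ι]
    exact hVU
  refine M1.flat_of_isFinLocFree_tilde (R := CommRingCat.of Γ(S, V))
    (CohIII.T M.P (-(p : ℤ)) (ModuleCat.of Γ(S, V) Γ(S, V))) (M2.isFinLocFree_of_iso i ?_)
  exact M2.isFinLocFree_of_iso (M1.restrictRestrictIso _ U.ι _ M.isAffine.fromSpec (IsOpenImmersion.lift_fac _ _ hr))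
    (M2.isFinLocFree_restrict (IsOpenImmersion.lift U.ι M.isAffine.fromSpec hr) h)

/-- Over a reduced base constant fibre rank makes both cokernels flat. -/
theorem Model.flatCok_of_isLocallyConstant [IsProper f] [IsReduced S] (hF : Coh.IsQCoh F) (M : Model f F V) (p : ℕ)
    (h : IsLocallyConstant (CohIII.fiberRank f F p)) :
    M.FlatCok (-(p : ℤ)) ∧ M.FlatCok (-(p : ℤ) - 1) := by
  have e : CohIII.dRank M.P (-(p : ℤ)) = CohIII.fiberRank f F p ∘ M.isAffine.fromSpec := funext fun z => by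
    have hz : M.isAffine.fromSpec z ∈ V := by
      rw [← SetLike.mem_coe, ← M.isAffine.range_fromSpec]
      exact ⟨z, rfl⟩
    have hz' : M.isAffine.primeIdealOf ⟨_, hz⟩ = z :=
      M.isAffine.fromSpec.isOpenEmbedding.injective (M.isAffine.fromSpec_primeIdealOf _)
    exact ((M.fiberRank_eq hF p ⟨_, hz⟩).trans (congrArg _ hz')).symm
  exact flat_cok_of_isLocallyConstant M.P (sub_add_cancel (-(p : ℤ)) 1)
    (e ▸ h.comp_continuous M.isAffine.fromSpec.continuous)

section Fibre

variable [IsProper f] [HasInjectiveResolutions X.Modules] {s : S} [HasInjectiveResolutions (f.fiber s).Modules]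
  {Δ : RDer.DerivedLES (Scheme.Modules.pushforward f)}
  {Δs : RDer.DerivedLES (Scheme.Modules.pushforward (f.fiberToSpecResidueField s))}
  {E : CohCmp.SectCmp f Δ} {Es : CohCmp.SectCmp (f.fiberToSpecResidueField s) Δs}

theorem epi_iff_surjective_top {Z : Scheme.{u}} [Subsingleton Z] {M N : Z.Modules} (φ : M ⟶ N) :
    Epi φ ↔ Function.Surjective (φ.app ⊤) := by
  constructor
  · intro hφ t
    rcases isEmpty_or_nonempty Z with hZ | ⟨⟨z⟩⟩
    · exact ⟨0, TopCat.Sheaf.eq_of_locally_eq' (F := (CohFound.abF Z).obj N) (U := fun e : PEmpty.{u + 1} => e.elim)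
        (V := ⊤) (iUV := fun e => e.elim) (hcover := fun z _ => (hZ.false z).elim) _ _ fun e => e.elim⟩
    · obtain ⟨W, h, hzW, t', ht'⟩ := exists_lift_of_exact (S := ShortComplex.mk φ (0 : N ⟶ N) comp_zero)
        ((ShortComplex.exact_iff_epi _ rfl).2 hφ) (U := ⊤) t (by simp) (x := z) trivial
      obtain rfl : W = ⊤ := top_le_iff.1 fun y _ => Subsingleton.elim z y ▸ hzW
      exact ⟨t', ht'.trans (M1.mres_id N h t)⟩
  · intro h
    haveI : Epi ((SheafOfModules.toSheaf Z.ringCatSheaf).map φ) :=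
      CohFound.epi_of_locally_lift _ fun W t y hy => by
        obtain rfl : W = ⊤ := top_le_iff.1 fun z _ => Subsingleton.elim y z ▸ hy
        obtain ⟨t', ht'⟩ := h t
        exact ⟨⊤, le_rfl, hy, t', ht'.trans (M1.mres_id N le_rfl t).symm⟩
    exact (SheafOfModules.toSheaf Z.ringCatSheaf).epi_of_epi_map inferInstance

/-- The comparison with the residue field at `s`. -/
theorem Model.theta_top_surjective_iff (M : Model f F V) (hs : s ∈ V) {p q : ℤ} (hpq : q + 1 = p)
    (eW : (⊤ : (Spec (S.residueField s)).Opens) ≤ S.fromSpecResidueField s ⁻¹ᵁ V) :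
    letI := ((S.fromSpecResidueField s).appLE V ⊤ eW).hom.toAlgebra
    Function.Surjective (FlatCxLib.theta M.P p Γ(Spec (S.residueField s), ⊤)) ↔ M.FreeAt q s := by
  let g := S.fromSpecResidueField s
  haveI : Subsingleton (Spec (S.residueField s)) := inferInstanceAs (Subsingleton (PrimeSpectrum (S.residueField s)))
  letI a₀ := (g.appLE V ⊤ eW).hom.toAlgebra
  letI : Algebra Γ(S, V) (S.presheaf.stalk s) := (S.presheaf.germ V s hs).hom.toAlgebra
  haveI := M.isAffine.isLocalization_stalk ⟨s, hs⟩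
  have hev : g.appLE V ⊤ eW ≫ (Scheme.ΓSpecIso (S.residueField s)).hom =
      S.presheaf.germ V s hs ≫ S.residue s := by
    have h₁ : g = Spec.map (S.evaluation V s hs) ≫ M.isAffine.fromSpec := fromSpecResidueField_eq hs
    have h₂ : (⊤ : (Spec Γ(S, V)).Opens) ≤ M.isAffine.fromSpec ⁻¹ᵁ V := M.isAffine.fromSpec_preimage_self.ge
    have h₃ : g.appLE V ⊤ eW = M.isAffine.fromSpec.appLE V ⊤ h₂ ≫ (Spec.map (S.evaluation V s hs)).appTop := by
      simp only [h₁]
      rw [Scheme.Hom.appTop, Scheme.Hom.app_eq_appLE]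
      exact (Scheme.Hom.appLE_comp_appLE _ _ _ _ _ _ _).symm
    rw [h₃, Category.assoc, Scheme.ΓSpecIso_naturality]
    refine (Category.assoc _ _ _).symm.trans ?_
    have h₄ : M.isAffine.fromSpec.appLE V ⊤ h₂ ≫ (Scheme.ΓSpecIso Γ(S, V)).hom = 𝟙 _ := by
      rw [Scheme.Hom.appLE, M.isAffine.fromSpec_app_self]
      simp only [Category.assoc]
      have hid : ∀ (u : op (⊤ : (Spec Γ(S, V)).Opens) ⟶ op ⊤), (Spec Γ(S, V)).presheaf.map u = 𝟙 _ := fun u => by
        rw [Subsingleton.elim u (𝟙 _)]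
        exact CategoryTheory.Functor.map_id _ _
      rw [← Functor.map_comp_assoc, hid, Category.id_comp, Iso.inv_hom_id]
    rw [h₄]
    exact Category.id_comp _
  let r : Γ(Spec (S.residueField s), ⊤) → IsLocalRing.ResidueField (S.presheaf.stalk s) := fun x =>
    (Scheme.ΓSpecIso (S.residueField s)).hom x
  let e : Γ(Spec (S.residueField s), ⊤) ≃ₗ[Γ(S, V)] IsLocalRing.ResidueField (S.presheaf.stalk s) :=
    { (Scheme.ΓSpecIso (S.residueField s)).commRingCatIsoToRingEquiv.toAddEquiv with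
      map_smul' := fun a x => by
        show r (a • x) = a • r x
        refine ((congrArg r (Algebra.smul_def a x)).trans
          (map_mul (Scheme.ΓSpecIso (S.residueField s)).hom.hom _ _)).trans ?_
        refine Eq.trans ?_ (Algebra.smul_def a (r x)).symm
        exact congrArg (fun t : IsLocalRing.ResidueField (S.presheaf.stalk s) => t * r x)
          (ConcreteCategory.congr_hom hev a) }
  rw [theta_surjective_congr M.P _ e,
    theta_residue_surjective_iff M.P (M.isAffine.primeIdealOf ⟨s, hs⟩) (S.presheaf.stalk s)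
      hpq]
  exact ⟨fun h => ⟨hs, h⟩, fun ⟨_, h⟩ => h⟩

/-- The criterion for surjectivity of the base change map of the fibre. -/
theorem Model.epi_fibre_iff [hF : Coh.IsQCoh F] (M : Model f F V) (hs : s ∈ V)
    (Bs : CohCmp.GenBC f (S.fromSpecResidueField s) (f.fiberToSpecResidueField s) (f.fiberι s) (f.fiber_fac s) E Es)
    (p : ℕ) : Epi (Bs.bc p F) ↔ M.FreeAt (-(p : ℤ) - 1) s := by
  have h : IsPullback (f.fiberι s) (f.fiberToSpecResidueField s) f (S.fromSpecResidueField s) :=
    IsPullback.of_hasPullback _ _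
  let g := S.fromSpecResidueField s
  have eW : (⊤ : (Spec (S.residueField s)).Opens) ≤ g ⁻¹ᵁ V := fun z _ => by
    show g z ∈ V
    rw [S.fromSpecResidueField_apply]
    exact hs
  haveI : Subsingleton (Spec (S.residueField s)) := inferInstanceAs (Subsingleton (PrimeSpectrum (S.residueField s)))
  rw [epi_iff_surjective_top]
  letI a₀ := (g.appLE V ⊤ eW).hom.toAlgebra
  rw [(bc_app_iff h Bs F M.isAffine (isAffineOpen_top _) eW M.computes p).2]
  exact M.theta_top_surjective_iff hs (sub_add_cancel (-(p : ℤ)) 1) eW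

end Fibre

end Groth.Agent.CBC10
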