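import Groth.Agent.Lib.CBC10.Point
import Groth.Agent.Lib.CBC10.ModelExists
import Groth.Agent.Lib.DPerf.Noeth
import Groth.Agent.Lib.Snapper.Vanish

/-!
# Cohomology and base change over any base: neighbourhoods
-/

set_option autoImplicit false
set_option linter.style.haveILetI false
set_option linter.unusedSectionVars false
set_option maxHeartbeats 1000000

universe u

open CategoryTheory CategoryTheory.Limits AlgebraicGeometry TopologicalSpace Opposite

noncomputable section

namespace Groth.Agent.CBC10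

variable {X S : Scheme.{u}} (f : X ⟶ S) [IsProper f] [LocallyOfFinitePresentation f] (F : X.Modules)

/-- A model near every point, inside a given open. -/
theorem exists_model_at [Coh.IsQCoh F] (hfp : CohB1.IsFP F) (hfl : FlatMod.IsFlatOver f F) {U : S.Opens} {s : S}
    (hs : s ∈ U) : ∃ (V : S.Opens) (_ : V ≤ U) (_ : Model f F V), s ∈ V := by
  obtain ⟨V, hV, hsV, hVU⟩ := Opens.isBasis_iff_nbhd.1 S.isBasis_affineOpens hs
  exact ⟨V, hVU, (exists_model f F hfp hfl (show IsAffineOpen (V : S.Opens) from hV)).some, hsV⟩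

variable {f F}

/-- A model with flat cokernels near a point where they are free. -/
theorem exists_flat_model [hF : Coh.IsQCoh F] {V : S.Opens} (M : Model f F V) {s : S} (hs : s ∈ V) (L : List ℤ)
    (hL : ∀ n ∈ L, M.FreeAt n s) :
    ∃ (V' : S.Opens) (_ : V' ≤ V) (M' : Model f F V'), s ∈ V' ∧ ∀ n ∈ L, M'.FlatCok n := by
  classical
  obtain ⟨V', hle, M', hsV', h⟩ := M.exists_shrink hF hs L.toFinset fun n hn => hL n (List.mem_toFinset.1 hn)
  exact ⟨V', hle, M', hsV', fun n hn => h n (List.mem_toFinset.2 hn)⟩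

/-- Vanishing over an open covered by models. -/
theorem isZero_restrict_of_models [HasInjectiveResolutions X.Modules] (p : ℕ) (U : S.Opens)
    (h : ∀ s ∈ U, ∃ (V : S.Opens) (M : Model f F V), s ∈ V ∧ V ≤ U ∧
      IsZero (((Coh.Rpush f p).obj F).restrict M.isAffine.fromSpec)) :
    IsZero (((Coh.Rpush f p).obj F).restrict U.ι) := by
  choose V M hsV hVU hz using fun x : U => h x.1 x.2
  refine DPerf.isZero_of_cover (fun x : U => U.ι ⁻¹ᵁ V x) (fun x => ⟨x, hsV x⟩) fun x => ?_
  have hr : Set.range ((U.ι ⁻¹ᵁ V x).ι ≫ U.ι) ⊆ Set.range (M x).isAffine.fromSpec := by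
    rw [(M x).isAffine.range_fromSpec]
    rintro _ ⟨z, rfl⟩
    exact z.2
  exact (((Scheme.Modules.restrictFunctor (IsOpenImmersion.lift (M x).isAffine.fromSpec
    ((U.ι ⁻¹ᵁ V x).ι ≫ U.ι) hr)).map_isZero (hz x)).of_iso
      ((M1.restrictLiftIso _ (M x).isAffine.fromSpec ((U.ι ⁻¹ᵁ V x).ι ≫ U.ι) hr).symm)).of_iso
        (M1.restrictRestrictIso _ U.ι (U.ι ⁻¹ᵁ V x).ι _ rfl)

theorem isFinLocFree_of_models [HasInjectiveResolutions X.Modules] [hF : Coh.IsQCoh F] (p : ℕ)
    (h : ∀ s : S, ∃ (V : S.Opens) (M : Model f F V), s ∈ V ∧ M.FlatCok (-(p : ℤ)) ∧ M.FlatCok (-(p : ℤ) - 1)) :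
    FlatMod.IsFinLocFree ((Coh.Rpush f p).obj F) := by
  refine DPerf.isFinLocFree_of_locally fun s => ?_
  obtain ⟨V, M, hsV, h1, h2⟩ := h s
  exact ⟨_, M.isAffine.fromSpec, inferInstance, ⟨_, M.isAffine.fromSpec_primeIdealOf ⟨s, hsV⟩⟩,
    M.isFinLocFree_restrict hF p h1 h2⟩

omit [LocallyOfFinitePresentation f] in
/-- Fibre cohomology vanishes above the dimension. -/
theorem subsingleton_fiberH_of_dim [hF : Coh.IsQCoh F] {d : ℕ} (s : S) (hd : topologicalKrullDim (f.fiber s) ≤ d)
    {i : ℕ} (hi : d < i) : Subsingleton (CohIII.fiberH f F s i) := by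
  letI : (f.fiber s).Over (Spec (CommRingCat.of (S.residueField s))) := ⟨f.fiberToSpecResidueField s⟩
  haveI : IsProper ((f.fiber s) ↘ Spec (CommRingCat.of (S.residueField s))) :=
    MorphismProperty.of_isPullback (P := @IsProper) (IsPullback.of_hasPullback f (S.fromSpecResidueField s)) inferInstance
  exact Snapper.subsingleton_HH_of_dim (S.residueField s) d hd (M1.isQCoh_pullback (f.fiberι s) hF) hi

end Groth.Agent.CBC10
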