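import Groth.Agent.Lib.CBC10.Bc0
import Groth.Agent.Lib.CBC10.GenRows
import Groth.Agent.Lib.CohFound.ModulesInst

/-!
# Neighbourhoods in degree zero
-/

set_option autoImplicit false
set_option linter.style.haveILetI false
set_option linter.unusedSectionVars false
set_option maxHeartbeats 1000000

universe u

open CategoryTheory CategoryTheory.Limits AlgebraicGeometry TopologicalSpace Opposite

noncomputable section

namespace Groth.Agent.CBC10

variable {X S : Scheme.{u}} {f : X ⟶ S} [IsProper f] {F : X.Modules}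

/-- The direct image is finite locally free over opens covered by models with flat `Cok (-1)`. -/
theorem isFinLocFree_push_restrict [hF : Coh.IsQCoh F] (U : S.Opens)
    (h : ∀ s ∈ U, ∃ (V : S.Opens) (M : Model f F V), s ∈ V ∧ V ≤ U ∧ M.FlatCok (-1)) :
    FlatMod.IsFinLocFree (((Scheme.Modules.pushforward f).obj F).restrict U.ι) := by
  haveI : HasInjectiveResolutions X.Modules := CohFound.hasInjectiveResolutions_modules X
  haveI : (Scheme.Modules.pushforward f).IsRightAdjoint :=
    (Scheme.Modules.pullbackPushforwardAdjunction f).isRightAdjoint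
  refine M2.isFinLocFree_of_iso ((Scheme.Modules.restrictFunctor U.ι).mapIso
    (asIso ((Scheme.Modules.pushforward f).toRightDerivedZero.app F))).symm
    (isFinLocFree_restrict_of_models hF 0 U fun s hs => ?_)
  obtain ⟨V, M, hsV, hVU, h1⟩ := h s hs
  exact ⟨V, M, hsV, hVU, by simpa using M.flatCok_zero, by simpa using h1⟩

theorem isFinLocFree_push [LocallyOfFinitePresentation f] [hF : Coh.IsQCoh F]
    (h : ∀ s : S, ∃ (V : S.Opens) (M : Model f F V), s ∈ V ∧ M.FlatCok (-1)) :
    FlatMod.IsFinLocFree ((Scheme.Modules.pushforward f).obj F) := by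
  haveI : HasInjectiveResolutions X.Modules := CohFound.hasInjectiveResolutions_modules X
  haveI : (Scheme.Modules.pushforward f).IsRightAdjoint :=
    (Scheme.Modules.pullbackPushforwardAdjunction f).isRightAdjoint
  refine M2.isFinLocFree_of_iso (asIso ((Scheme.Modules.pushforward f).toRightDerivedZero.app F)).symm
    (isFinLocFree_of_models 0 fun s => ?_)
  obtain ⟨V, M, hsV, h1⟩ := h s
  exact ⟨V, M, hsV, by simpa using M.flatCok_zero, by simpa using h1⟩

/-- Vanishing is local on the base. -/
theorem isZero_restrict_mono {T : Scheme.{u}} {M : T.Modules} {U V : T.Opens} (h : U ≤ V)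
    (hz : IsZero (M.restrict V.ι)) : IsZero (M.restrict U.ι) := by
  have hr : Set.range U.ι ⊆ Set.range V.ι := by
    rw [Scheme.Opens.range_ι, Scheme.Opens.range_ι]
    exact h
  exact ((Scheme.Modules.restrictFunctor (IsOpenImmersion.lift V.ι U.ι hr)).map_isZero hz).of_iso
    (M1.restrictLiftIso _ V.ι U.ι hr).symm

/-- A model inside a smaller open keeps flat cokernels. -/
theorem exists_model_le [hF : Coh.IsQCoh F] {V U : S.Opens} (M : Model f F V) {s : S} (hs : s ∈ V) (hsU : s ∈ U) :
    ∃ (V' : S.Opens) (_ : V' ≤ U) (M' : Model f F V'), s ∈ V' ∧ ∀ n, M.FlatCok n → M'.FlatCok n := by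
  obtain ⟨V', hV', hsV', hle⟩ := Opens.isBasis_iff_nbhd.1 S.isBasis_affineOpens (show s ∈ V ⊓ U from ⟨hs, hsU⟩)
  letI := (S.presheaf.map (homOfLE (hle.trans inf_le_left)).op).hom.toAlgebra
  exact ⟨V', hle.trans inf_le_right, M.restrict hF hV' (hle.trans inf_le_left), hsV', fun n hn =>
    FlatCxLib.flat_cok_baseChange _ M.P _ hn⟩

variable [LocallyOfFinitePresentation f]

/-- Near a fibre without `H^1`. -/
theorem exists_nhd_H1 [HasInjectiveResolutions X.Modules] [hF : Coh.IsQCoh F] (hfp : CohB1.IsFP F)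
    (hfl : FlatMod.IsFlatOver f F) (s : S) (h1 : Subsingleton (CohIII.fiberH f F s 1)) :
    ∃ (V : S.Opens) (M : Model f F V), s ∈ V ∧ M.FlatCok (-1) ∧
      IsZero (((Coh.Rpush f 1).obj F).restrict V.ι) := by
  obtain ⟨V, -, M₀, hsV⟩ := exists_model_at f F hfp hfl (U := ⊤) (s := s) trivial
  obtain ⟨V', -, M, hs', h', -, hz, -⟩ := M₀.exists_zero_nhd hF hsV 1 h1
  exact ⟨V', M, hs', by simpa using h', isZero_restrict_of_models 1 V' fun y hy => ⟨V', M, hy, le_rfl, hz⟩⟩

end Groth.Agent.CBC10
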