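import Groth.Agent.Lib.CBC10.Complex
import Groth.Agent.Lib.PullBC11.AffineBC
import Groth.Agent.Lib.PullBC11.Conv
import Groth.Agent.Lib.FlatH4.PullChart

/-!
# Cohomology of a base change

For a cartesian square over `Spec B → Spec A`, the Čech complex of the inverse image of `F` is `K(F) ⊗_A B`.
-/

set_option autoImplicit false
set_option linter.style.haveILetI false
set_option linter.unusedSectionVars false
set_option maxHeartbeats 1000000

universe u

open CategoryTheory CategoryTheory.Limits AlgebraicGeometry TopologicalSpace Opposite TensorProduct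

noncomputable section

namespace Groth.Agent.CBC10

open Groth.Agent.CohFound

variable {A B : Type u} [CommRing A] [CommRing B] [Algebra A B] {X X' : Scheme.{u}}
  [X.Over (Spec (CommRingCat.of A))] [X'.Over (Spec (CommRingCat.of B))]

attribute [local instance] secA

variable [X'.Over (Spec (CommRingCat.of A))]

/-- A cartesian square over a map of rings, with the structure over the smaller ring the composite. -/
structure Sq (g : X' ⟶ X) : Prop where
  isPullback : IsPullback g (X' ↘ Spec (CommRingCat.of B)) (X ↘ Spec (CommRingCat.of A))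
    (Spec.map (CommRingCat.ofHom (algebraMap A B)))
  over_eq : (X' ↘ Spec (CommRingCat.of A)) =
    (X' ↘ Spec (CommRingCat.of B)) ≫ Spec.map (CommRingCat.ofHom (algebraMap A B))

variable {g : X' ⟶ X}

lemma toGlobal_overA (h : Sq (A := A) (B := B) g) (a : A) :
    Coh.toGlobal (X' ↘ Spec (CommRingCat.of A)) a = Coh.toGlobal (X' ↘ Spec (CommRingCat.of B)) (algebraMap A B a) := by
  rw [h.over_eq]
  exact congrArg (fun t => (X' ↘ Spec (CommRingCat.of B)).appTop t)
    (ConcreteCategory.congr_hom (Scheme.ΓSpecIso_inv_naturality (CommRingCat.ofHom (algebraMap A B))) a).symm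

lemma ρ_algebraMap (h : Sq (A := A) (B := B) g) (W' : X'.Opens) (a : A) :
    ρ A W' a = ρ B W' (algebraMap A B a) :=
  congrArg (fun t => X'.presheaf.map (homOfLE (le_top : W' ≤ ⊤)).op t) (toGlobal_overA h a)

lemma ρ_comap (h : Sq (A := A) (B := B) g) {W : X.Opens} {W' : X'.Opens} (e : W' ≤ g ⁻¹ᵁ W) (a : A) :
    g.appLE W W' e (ρ A W a) = ρ A W' a := by
  have hc : (X ↘ Spec (CommRingCat.of A)).appLE ⊤ W le_top ≫ g.appLE W W' e =
      (X' ↘ Spec (CommRingCat.of A)).appLE ⊤ W' le_top := by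
    rw [Scheme.Hom.appLE_comp_appLE]
    simp only [show g ≫ (X ↘ Spec (CommRingCat.of A)) = X' ↘ Spec (CommRingCat.of A) from h.isPullback.w.trans h.over_eq.symm]
  exact ConcreteCategory.congr_hom hc ((Scheme.ΓSpecIso (CommRingCat.of A)).inv a)

variable (g) in
/-- The inverse image of a section. -/
def eta (F : X.Modules) {W : X.Opens} {W' : X'.Opens} (e : W' ≤ g ⁻¹ᵁ W) :
    Γ(F, W) →+ Γ((Scheme.Modules.pullback g).obj F, W') :=
  AddMonoidHom.mk' (fun s => M1.mres ((Scheme.Modules.pullback g).obj F) e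
      ((show F ⟶ (Scheme.Modules.pushforward g).obj ((Scheme.Modules.pullback g).obj F) from
        (Scheme.Modules.pullbackPushforwardAdjunction g).unit.app F).app W s))
    fun s t => by rw [map_add]; exact map_add _ _ _

lemma eta_smul (F : X.Modules) {W : X.Opens} {W' : X'.Opens} (e : W' ≤ g ⁻¹ᵁ W) (r : Γ(X, W)) (s : Γ(F, W)) :
    eta g F e (r • s) = g.appLE W W' e r • eta g F e s :=
  letI := PullBC11.baseModule (g := g) ((Scheme.Modules.pullback g).obj F) e
  (PullBC11.sect (show F ⟶ (Scheme.Modules.pushforward g).obj ((Scheme.Modules.pullback g).obj F) from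
        (Scheme.Modules.pullbackPushforwardAdjunction g).unit.app F) e).map_smul r s

lemma eta_res (F : X.Modules) {W V : X.Opens} {W' V' : X'.Opens} (e : W' ≤ g ⁻¹ᵁ W) (e' : V' ≤ g ⁻¹ᵁ V)
    (hV : V ≤ W) (hV' : V' ≤ W') (s : Γ(F, W)) :
    eta g F e' (M1.mres F hV s) = M1.mres ((Scheme.Modules.pullback g).obj F) hV' (eta g F e s) := by
  refine (congrArg (M1.mres ((Scheme.Modules.pullback g).obj F) e') (M1.app_mres
    (show F ⟶ (Scheme.Modules.pushforward g).obj ((Scheme.Modules.pullback g).obj F) from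
      (Scheme.Modules.pullbackPushforwardAdjunction g).unit.app F) hV s)).trans ?_
  refine (M1.mres_mres ((Scheme.Modules.pullback g).obj F) _ e' _).trans ?_
  exact (M1.mres_mres ((Scheme.Modules.pullback g).obj F) e hV' _).symm

/-- `s ⊗ b ↦ b • g^* s`. -/
def chi (h : Sq (A := A) (B := B) g) (F : X.Modules) {W : X.Opens} {W' : X'.Opens} (e : W' ≤ g ⁻¹ᵁ W) :
    Γ(F, W) ⊗[A] B →ₗ[A] Γ((Scheme.Modules.pullback g).obj F, W') :=
  TensorProduct.lift (LinearMap.mk₂ A (fun s b => ρ B W' b • eta g F e s)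
    (fun s s' b => by rw [map_add, smul_add])
    (fun a s b => by
      rw [secA_smul, secA_smul, eta_smul, ρ_comap h e]
      exact smul_comm _ _ _)
    (fun s b b' => by rw [map_add, add_smul])
    (fun a s b => by rw [Algebra.smul_def, map_mul, secA_smul, mul_smul, ρ_algebraMap h W' a]))

lemma chi_tmul (h : Sq (A := A) (B := B) g) (F : X.Modules) {W : X.Opens} {W' : X'.Opens} (e : W' ≤ g ⁻¹ᵁ W)
    (s : Γ(F, W)) (b : B) : chi h F e (s ⊗ₜ b) = ρ B W' b • eta g F e s :=
  TensorProduct.lift.tmul _ _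

lemma chi_res (h : Sq (A := A) (B := B) g) (F : X.Modules) {W V : X.Opens} {W' V' : X'.Opens}
    (e : W' ≤ g ⁻¹ᵁ W) (e' : V' ≤ g ⁻¹ᵁ V) (hV : V ≤ W) (hV' : V' ≤ W') (z : Γ(F, W) ⊗[A] B) :
    chi h F e' ((resL A F hV).rTensor B z) =
      resL A ((Scheme.Modules.pullback g).obj F) hV' (chi h F e z) := by
  induction z using TensorProduct.induction_on with
  | zero => simp only [map_zero]
  | add a b ha hb => simp only [map_add, ha, hb]
  | tmul s b =>
    rw [LinearMap.rTensor_tmul, chi_tmul, chi_tmul]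
    refine Eq.trans ?_ (M1.mres_smul ((Scheme.Modules.pullback g).obj F) hV' _ _).symm
    rw [ρ_res]
    exact congrArg (fun t : Γ((Scheme.Modules.pullback g).obj F, V') => ρ B V' b • t) (eta_res F e e' hV hV' s)

lemma chi_mul (h : Sq (A := A) (B := B) g) (F : X.Modules) {W : X.Opens} {W' : X'.Opens} (e : W' ≤ g ⁻¹ᵁ W)
    (c : B) (z : Γ(F, W) ⊗[A] B) :
    chi h F e ((LinearMap.mulLeft A c).lTensor Γ(F, W) z) =
      (Formal.smulMod B ((Scheme.Modules.pullback g).obj F) c).app W' (chi h F e z) := by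
  induction z using TensorProduct.induction_on with
  | zero => simp only [map_zero]
  | add a b ha hb => simp only [map_add, ha, hb]
  | tmul s b =>
    rw [LinearMap.lTensor_tmul, chi_tmul, chi_tmul, smulMod_app B]
    show ρ B W' (c * b) • eta g F e s = ρ B W' c • ρ B W' b • eta g F e s
    rw [map_mul, mul_smul]

theorem bijective_chi (h : Sq (A := A) (B := B) g) {F : X.Modules} (hF : Coh.IsQCoh F) {W : X.Opens}
    (hW : IsAffineOpen W) {W' : X'.Opens} (hW' : IsAffineOpen W') (hWW : W' = g ⁻¹ᵁ W) :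
    Function.Bijective (chi h F hWW.le) := by
  have e := hWW.le
  haveI := hF
  let F' := (Scheme.Modules.pullback g).obj F
  let φ : CommRingCat.of A ⟶ CommRingCat.of B := CommRingCat.ofHom (algebraMap A B)
  haveI : IsIso (((Scheme.Modules.pullbackPushforwardAdjunction g).homEquiv F F').symm
      ((Scheme.Modules.pullbackPushforwardAdjunction g).unit.app F)) := by
    rw [← Adjunction.homEquiv_id, Equiv.symm_apply_apply]
    infer_instance
  have hη := PullBC11.isBC_of_isIso (N := F')
    (show F ⟶ (Scheme.Modules.pushforward g).obj F' from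
      (Scheme.Modules.pullbackPushforwardAdjunction g).unit.app F) hF
    (M1.isQCoh_pullback g hF) hW hW' e
  have hpo := FlatH4.isPushout_sections (g := g) (iY := X' ↘ Spec (CommRingCat.of B))
    (iX := X ↘ Spec (CommRingCat.of A)) (f := Spec.map φ) h.isPullback (US := ⊤) (UT := (⊤ : (Spec (CommRingCat.of B)).Opens)) (UX := W) (fun _ _ => trivial) (fun _ _ => trivial)
    (UY := W') (by rw [hWW, Scheme.Hom.preimage_top, inf_top_eq]) (isAffineOpen_top _) (isAffineOpen_top _) hW
  have hp : IsPushout (CommRingCat.ofHom (ρ A W)) φ (g.appLE W W' e) (CommRingCat.ofHom (ρ B W')) :=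
    hpo.of_iso (Scheme.ΓSpecIso (CommRingCat.of A)) (Iso.refl _) (Scheme.ΓSpecIso (CommRingCat.of B)) (Iso.refl _)
      (by
        rw [← Iso.inv_comp_eq, Iso.refl_hom, Category.comp_id]
        rfl)
      (by
        rw [← Scheme.ΓSpecIso_naturality]
        congr 1)
      (by simp)
      (by
        rw [← Iso.inv_comp_eq, Iso.refl_hom, Category.comp_id]
        rfl)
  letI a2 : Algebra A Γ(X, W) := (ρ A W).toAlgebra
  letI a3 : Algebra Γ(X, W) Γ(X', W') := (g.appLE W W' e).hom.toAlgebra
  letI a4 : Algebra B Γ(X', W') := (ρ B W').toAlgebra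
  letI a5 : Algebra A Γ(X', W') := (ρ A W').toAlgebra
  haveI t1 : IsScalarTower A Γ(X, W) Γ(X', W') := IsScalarTower.of_algebraMap_eq fun a => (ρ_comap h e a).symm
  haveI t2 : IsScalarTower A B Γ(X', W') := IsScalarTower.of_algebraMap_eq fun a => ρ_algebraMap h W' a
  haveI : Algebra.IsPushout A Γ(X, W) B Γ(X', W') := CommRingCat.isPushout_iff_isPushout.1 hp
  haveI : Algebra.IsPushout A B Γ(X, W) Γ(X', W') := Algebra.IsPushout.symm inferInstance
  letI := PullBC11.baseModule (g := g) F' e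
  haveI : IsScalarTower Γ(X, W) Γ(X', W') Γ(F', W') := IsScalarTower.of_algebraMap_smul fun _ _ => rfl
  haveI : IsScalarTower A Γ(X, W) Γ(F, W) := IsScalarTower.of_algebraMap_smul fun _ _ => rfl
  let cc := Algebra.IsPushout.cancelBaseChange A B Γ(X, W) Γ(X', W') Γ(F, W)
  let E : Γ(F, W) ⊗[A] B ≃+ Γ(F', W') :=
    ((TensorProduct.comm A _ _).toAddEquiv.trans cc.symm.toAddEquiv).trans hη.equiv.toAddEquiv
  have key : ∀ z, chi h F e z = E z := fun z => by
    induction z using TensorProduct.induction_on with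
    | zero => rw [map_zero, map_zero]
    | add a b ha hb => rw [map_add, map_add, ha, hb]
    | tmul s b =>
      rw [chi_tmul]
      show _ = hη.equiv (cc.symm (b ⊗ₜ s))
      rw [Algebra.IsPushout.cancelBaseChange_symm_tmul]
      exact (hη.equiv_tmul (algebraMap B Γ(X', W') b) s).symm
  exact (funext key : ⇑(chi h F e) = ⇑E) ▸ E.bijective

section Complex

variable {ι : Type u} (U : ι → X.Opens) (U' : ι → X'.Opens)

lemma tupOpen_eq_preimage (hU' : ∀ i, U' i = g ⁻¹ᵁ U i) (n : ℕ) (a : Fin (n + 1) → ι) :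
    tupOpen (X := sp X') U' a = g ⁻¹ᵁ tupOpen (X := sp X) U a := by
  obtain rfl : U' = fun i => g ⁻¹ᵁ U i := funext hU'
  refine TopologicalSpace.Opens.ext ?_
  show (↑(⨅ k, g ⁻¹ᵁ U (a k)) : Set X') = g.base ⁻¹' (↑(⨅ k, U (a k)) : Set X)
  rw [Opens.coe_iInf, Opens.coe_iInf, Set.preimage_iInter]
  rfl

variable (h : Sq (A := A) (B := B) g) (hU' : ∀ i, U' i = g ⁻¹ᵁ U i) (F : X.Modules)

/-- The comparison in degree `n`. -/
def chiL (n : ℕ) :
    (∀ a : Fin (n + 1) → ι, Γ(F, tupOpen (X := sp X) U a)) ⊗[A] B →ₗ[A]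
      ∀ a : Fin (n + 1) → ι, Γ((Scheme.Modules.pullback g).obj F, tupOpen (X := sp X') U' a) :=
  LinearMap.pi fun a => (chi h F (tupOpen_eq_preimage U U' hU' n a).le) ∘ₗ
    (LinearMap.proj (R := A) (φ := fun a : Fin (n + 1) → ι => Γ(F, tupOpen (X := sp X) U a)) a).rTensor B

lemma chiL_tmul (n : ℕ) (x : ∀ a : Fin (n + 1) → ι, Γ(F, tupOpen (X := sp X) U a)) (b : B)
    (a : Fin (n + 1) → ι) :
    chiL U U' h hU' F n (x ⊗ₜ b) a = chi h F (tupOpen_eq_preimage U U' hU' n a).le (x a ⊗ₜ b) := rfl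

lemma chiL_dL (n : ℕ) (z : (∀ a : Fin (n + 1) → ι, Γ(F, tupOpen (X := sp X) U a)) ⊗[A] B) :
    chiL U U' h hU' F (n + 1) ((dL A U F n).rTensor B z) =
      dL A U' ((Scheme.Modules.pullback g).obj F) n (chiL U U' h hU' F n z) := by
  induction z using TensorProduct.induction_on with
  | zero => simp only [map_zero]
  | add a b ha hb => simp only [map_add, ha, hb]
  | tmul x m =>
    funext a
    rw [LinearMap.rTensor_tmul, chiL_tmul, dL_apply, dL_apply, TensorProduct.sum_tmul, map_sum]
    refine Finset.sum_congr rfl fun i _ => ?_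
    rw [← TensorProduct.smul_tmul', map_zsmul, chiL_tmul]
    refine congrArg _ ?_
    exact chi_res h F (tupOpen_eq_preimage U U' hU' n (a ∘ i.succAbove)).le
      (tupOpen_eq_preimage U U' hU' (n + 1) a).le (tupOpen_le (X := sp X) U a i) (tupOpen_le (X := sp X') U' a i) (x (a ∘ i.succAbove) ⊗ₜ m)

/-- The comparison, componentwise. -/
def chiF : ∀ i : ℤ, (CohIII.tensorObj (K A U F) (ModuleCat.of A B)).X i ⟶
    KX A U' ((Scheme.Modules.pullback g).obj F) i
  | .ofNat n => ModuleCat.ofHom (chiL U U' h hU' F n)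
  | .negSucc _ => 0

/-- The comparison `K(F) ⊗_A B ⟶ K(g^* F)`. -/
def chiCx : CohIII.tensorObj (K A U F) (ModuleCat.of A B) ⟶ K A U' ((Scheme.Modules.pullback g).obj F) where
  f := chiF U U' h hU' F
  comm' i j hij := by
    obtain rfl : i + 1 = j := hij
    have h1 : (K A U F).d i (i + 1) = Kd A U F i := CochainComplex.of_d (KX A U F) (Kd A U F) i
    have h2 : (K A U' ((Scheme.Modules.pullback g).obj F)).d i (i + 1) = Kd A U' _ i :=
      CochainComplex.of_d (KX A U' _) (Kd A U' _) i
    cases i with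
    | negSucc m =>
      haveI : Subsingleton ((CohIII.tensorObj (K A U F) (ModuleCat.of A B)).X (Int.negSucc m)) :=
        haveI : Subsingleton ((K A U F).X (Int.negSucc m)) := inferInstanceAs (Subsingleton PUnit.{u + 1})
        inferInstanceAs (Subsingleton ((K A U F).X (Int.negSucc m) ⊗[A] B))
      exact (ModuleCat.isZero_of_subsingleton _).eq_of_src _ _
    | ofNat n =>
      change chiF U U' h hU' F (Int.ofNat n) ≫
          (K A U' ((Scheme.Modules.pullback g).obj F)).d (Int.ofNat n) (Int.ofNat n + 1) =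
        (MonoidalCategory.tensorRight (ModuleCat.of A B)).map ((K A U F).d (Int.ofNat n) (Int.ofNat n + 1)) ≫
          chiF U U' h hU' F (Int.ofNat n + 1)
      rw [h1, h2]
      exact ModuleCat.hom_ext (LinearMap.ext fun z => (chiL_dL U U' h hU' F n z).symm)

lemma chiL_mul (c : B) (n : ℕ) (z : (∀ a : Fin (n + 1) → ι, Γ(F, tupOpen (X := sp X) U a)) ⊗[A] B)
    (a : Fin (n + 1) → ι) :
    chiL U U' h hU' F n ((LinearMap.mulLeft A c).lTensor _ z) a =
      (Formal.smulMod B ((Scheme.Modules.pullback g).obj F) c).app (tupOpen (X := sp X') U' a)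
        (chiL U U' h hU' F n z a) := by
  induction z using TensorProduct.induction_on with
  | zero =>
    rw [map_zero, map_zero, Pi.zero_apply]
    exact (map_zero _).symm
  | add x y hx hy =>
    rw [map_add, map_add, Pi.add_apply, hx, hy, map_add, Pi.add_apply]
    exact (map_add _ _ _).symm
  | tmul x b =>
    rw [LinearMap.lTensor_tmul, chiL_tmul, chiL_tmul]
    exact chi_mul h F _ c (x a ⊗ₜ b)

theorem chiCx_mul (c : B) :
    CohIII.tensorMap (K A U F) (ModuleCat.ofHom (LinearMap.mulLeft A c)) ≫ chiCx U U' h hU' F =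
      chiCx U U' h hU' F ≫ Kmap A U' (Formal.smulMod B ((Scheme.Modules.pullback g).obj F) c) := by
  apply HomologicalComplex.hom_ext
  intro i
  cases i with
  | negSucc m => exact (isZero_K_of_neg A U' _ _ (Int.negSucc_lt_zero m)).eq_of_tgt _ _
  | ofNat n => exact ModuleCat.hom_ext (LinearMap.ext fun z => funext fun a => chiL_mul U U' h hU' F c n z a)

variable {F}

theorem chiL_bijective [Finite ι] (hF : Coh.IsQCoh F)
    (hU : ∀ (n : ℕ) (a : Fin (n + 1) → ι), IsAffineOpen (tupOpen (X := sp X) U a))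
    (hV : ∀ (n : ℕ) (a : Fin (n + 1) → ι), IsAffineOpen (tupOpen (X := sp X') U' a)) (n : ℕ) :
    Function.Bijective (chiL U U' h hU' F n) := by
  classical
  haveI := Fintype.ofFinite (Fin (n + 1) → ι)
  let e := (TensorProduct.piLeft A B (fun a : Fin (n + 1) → ι => Γ(F, tupOpen (X := sp X) U a))).trans
    (LinearEquiv.piCongrRight fun a => LinearEquiv.ofBijective (chi h F (tupOpen_eq_preimage U U' hU' n a).le)
      (bijective_chi h hF (hU n a) (hV n a) (tupOpen_eq_preimage U U' hU' n a)))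
  have : ∀ z, chiL U U' h hU' F n z = e z := fun z => by
    induction z using TensorProduct.induction_on with
    | zero => rw [map_zero, map_zero]
    | add a b ha hb => rw [map_add, map_add, ha, hb]
    | tmul x m =>
      funext a
      rw [chiL_tmul]
      simp [e]
  rw [show ⇑(chiL U U' h hU' F n) = ⇑e from funext this]
  exact e.bijective

theorem isIso_chiCx [Finite ι] (hF : Coh.IsQCoh F)
    (hU : ∀ (n : ℕ) (a : Fin (n + 1) → ι), IsAffineOpen (tupOpen (X := sp X) U a))
    (hV : ∀ (n : ℕ) (a : Fin (n + 1) → ι), IsAffineOpen (tupOpen (X := sp X') U' a)) :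
    IsIso (chiCx U U' h hU' F) := by
  haveI : ∀ i, IsIso ((chiCx U U' h hU' F).f i) := fun i => by
    cases i with
    | negSucc m =>
      haveI : Subsingleton ((K A U F).X (Int.negSucc m)) := inferInstanceAs (Subsingleton PUnit.{u + 1})
      exact isIso_of_source_target_iso_zero _
        (@ModuleCat.isZero_of_subsingleton _ _ ((CohIII.tensorObj (K A U F) (ModuleCat.of A B)).X (Int.negSucc m))
          (inferInstanceAs (Subsingleton ((K A U F).X (Int.negSucc m) ⊗[A] B)))).isoZero
        (isZero_K_of_neg A U' _ _ (Int.negSucc_lt_zero m)).isoZero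
    | ofNat n =>
      rw [ConcreteCategory.isIso_iff_bijective]
      exact chiL_bijective U U' h hU' hF hU hV n
  exact HomologicalComplex.Hom.isIso_of_components _

/-- `H^p(X, F ⊗_A B) = H^p(X', g^* F)`, compatibly with multiplication by elements of `B`. -/
theorem exists_bcEquiv [X.IsSeparated] [CompactSpace X] (hg : IsAffineHom g) (h : Sq (A := A) (B := B) g)
    (hF : Coh.IsQCoh F) :
    ∃ ε : ∀ p : ℕ, Coh.HH X (CohIII.tensorA A F (ModuleCat.of A B)) p ≃+
        Coh.HH X' ((Scheme.Modules.pullback g).obj F) p,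
      ∀ (p : ℕ) (c : B) (y : Coh.HH X (CohIII.tensorA A F (ModuleCat.of A B)) p),
        ε p (Sheaf.H.map ((SheafOfModules.toSheaf X.ringCatSheaf).map
          (psi A F (ModuleCat.ofHom (LinearMap.mulLeft A c)))) p y) = c • ε p y := by
  obtain ⟨ι, _, U, hcov, hU₀⟩ := exists_finite_affine_cover X
  have hU := isAffineOpen_tupOpen (U := U) hU₀
  let U' : ι → X'.Opens := fun i => g ⁻¹ᵁ U i
  have hU' : ∀ i, U' i = g ⁻¹ᵁ U i := fun i => rfl
  have hV : ∀ (n : ℕ) (a : Fin (n + 1) → ι), IsAffineOpen (tupOpen (X := sp X') U' a) := fun n a => by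
    haveI := hg
    rw [tupOpen_eq_preimage U U' hU' n a]
    exact (hU n a).preimage g
  have hcov' : (⊤ : X'.Opens) ≤ iSup U' := fun x _ => by
    obtain ⟨i, hi⟩ := Opens.mem_iSup.1 (hcov (show g x ∈ (⊤ : X.Opens) from trivial))
    exact Opens.mem_iSup.2 ⟨i, hi⟩
  have hqc : Coh.IsQCoh ((Scheme.Modules.pullback g).obj F) := M1.isQCoh_pullback g hF
  haveI := isIso_chiCx U U' h hU' hF hU hV
  let q : ∀ p : ℕ, CohIII.T (K A U F) (p : ℤ) (ModuleCat.of A B) ≅
      (K A U' ((Scheme.Modules.pullback g).obj F)).homology (p : ℤ) := fun p =>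
    (HomologicalComplex.homologyFunctor _ _ (p : ℤ)).mapIso (asIso (chiCx U U' h hU' F))
  refine ⟨fun p => (((tEquiv hcov hU hF (ModuleCat.of A B) p).symm.trans (q p).toLinearEquiv).trans
    (hhEquiv hcov' (acyc_of_isQCoh hqc hV) p)).toAddEquiv, fun p c y => ?_⟩
  obtain ⟨x, rfl⟩ := (tEquiv hcov hU hF (ModuleCat.of A B) p).surjective y
  rw [← tEquiv_natural hcov hU hF (ModuleCat.ofHom (LinearMap.mulLeft A c)) p x]
  change hhEquiv hcov' (acyc_of_isQCoh hqc hV) p ((q p).toLinearEquiv ((tEquiv hcov hU hF (ModuleCat.of A B) p).symm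
      (tEquiv hcov hU hF (ModuleCat.of A B) p ((CohIII.TFun (K A U F) (p : ℤ)).map
        (ModuleCat.ofHom (LinearMap.mulLeft A c)) x)))) =
    Sheaf.H.map ((SheafOfModules.toSheaf X'.ringCatSheaf).map
        (Formal.smulMod B ((Scheme.Modules.pullback g).obj F) c)) p
      (hhEquiv hcov' (acyc_of_isQCoh hqc hV) p ((q p).toLinearEquiv ((tEquiv hcov hU hF (ModuleCat.of A B) p).symm
        (tEquiv hcov hU hF (ModuleCat.of A B) p x))))
  rw [LinearEquiv.symm_apply_apply, LinearEquiv.symm_apply_apply]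
  refine Eq.trans ?_ (hhEquiv_natural hcov' (acyc_of_isQCoh hqc hV) (acyc_of_isQCoh hqc hV)
    (Formal.smulMod B ((Scheme.Modules.pullback g).obj F) c) p ((q p).toLinearEquiv x))
  refine congrArg (hhEquiv hcov' (acyc_of_isQCoh hqc hV) p) ?_
  have hc := congrArg (fun f => HomologicalComplex.homologyMap f (p : ℤ)) (chiCx_mul U U' h hU' F c)
  simp only [HomologicalComplex.homologyMap_comp] at hc
  exact ConcreteCategory.congr_hom hc x

end Complex

end Groth.Agent.CBC10
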