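import Groth.Agent.Lib.CohFound.RpushQCoh
import Groth.Agent.Lib.CohFound.ModFlasque
import Groth.Agent.Lib.CohFound.DimShift
import Groth.Agent.Lib.CohFound.QcohAffine

/-!
# Modules without higher cohomology over a given open
-/

set_option autoImplicit false
set_option linter.style.haveILetI false
set_option linter.unusedSectionVars false
set_option maxHeartbeats 1000000

universe u

open CategoryTheory CategoryTheory.Limits AlgebraicGeometry TopologicalSpace Opposite Abelian

noncomputable section

namespace Groth.Agent.CBC10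

open CohFound

variable {X Y : Scheme.{u}}

/-- No higher cohomology over `V`. -/
def Good (M : Y.Modules) (V : Y.Opens) : Prop :=
  ∀ q, Subsingleton (Hc ((abF Y).obj M) (q + 1) V)

variable {V : Y.Opens}

lemma good_of_iso {M N : Y.Modules} (e : M ≅ N) (h : Good M V) : Good N V := fun q =>
  subsingleton_of_forall_eq 0 fun x => by
    haveI := h q
    have hx : mp ((abF Y).map e.hom) (q + 1) V (mp ((abF Y).map e.inv) (q + 1) V x) = x := by
      rw [← mp_comp, ← Functor.map_comp, e.inv_hom_id, CategoryTheory.Functor.map_id, mp_id]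
    rw [← hx, Subsingleton.elim (mp ((abF Y).map e.inv) (q + 1) V x) 0, map_zero]

lemma good_of_isZero {M : Y.Modules} (h : IsZero M) : Good M V := fun q =>
  subsingleton_of_forall_eq 0 fun x => by
    rw [← mp_id _ _ _ x, ← CategoryTheory.Functor.map_id, h.eq_of_src (𝟙 M) 0, Functor.map_zero,
      mp_zero]

lemma good_of_isQCoh {M : Y.Modules} [M.IsQuasicoherent] (hV : IsAffineOpen V) : Good M V :=
  fun q => subsingleton_hc_isAffineOpen M hV q

lemma good_push_injective (f : X ⟶ Y) (I : X.Modules) [Injective I] :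
    Good ((Scheme.Modules.pushforward f).obj I) V := fun q => by
  haveI : TopCat.Sheaf.IsFlasque ((abF Y).obj ((Scheme.Modules.pushforward f).obj I)) :=
    isFlasque_mk _ fun U W h s =>
      surjective_map_of_injective X.ringCatSheaf I ‹Injective I›
        (f.preimage_mono h : (f ⁻¹ᵁ W : X.Opens) ≤ f ⁻¹ᵁ U) s
  exact subsingleton_hc_of_isFlasque _ q V

lemma good_X₂ {S : ShortComplex Y.Modules} (hS : S.ShortExact) (h₁ : Good S.X₁ V) (h₃ : Good S.X₃ V) :
    Good S.X₂ V := fun q =>
  subsingleton_hc_of_exact (shortExact_abF hS) (q + 1) V (h₁ q) (h₃ q)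

lemma good_X₃ {S : ShortComplex Y.Modules} (hS : S.ShortExact) (h₁ : Good S.X₁ V) (h₂ : Good S.X₂ V) :
    Good S.X₃ V := fun q =>
  subsingleton_of_forall_eq 0 fun x => by
    obtain ⟨y, hy⟩ := CohFound.exact₃ (shortExact_abF hS) (q + 1) V x ((h₁ (q + 1)).elim _ _)
    exact hy.symm.trans ((congrArg _ ((h₂ q).elim y 0)).trans (map_zero _))

lemma app_surjective_of_good {S : ShortComplex Y.Modules} (hS : S.ShortExact) (h₁ : Good S.X₁ V) :
    Function.Surjective (S.g.app V) :=
  app_surjective_of_subsingleton (shortExact_abF hS) V (h₁ 0)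

lemma exists_app_eq_of_mono {S : ShortComplex Y.Modules} (hS : S.ShortExact) (s : Γ(S.X₂, V))
    (hs : S.g.app V s = 0) : ∃ t, S.f.app V t = s := by
  have h := shortExact_abF hS
  haveI := h.mono_f
  exact exact_app h.exact s hs

/-- Sections over `V` of a four term exact sequence starting with an injection. -/
theorem four_term {A B C D : Y.Modules} (a : A ⟶ B) (b : B ⟶ C) (c : C ⟶ D) [Mono a] [Epi c]
    (ab : a ≫ b = 0) (bc : b ≫ c = 0) (h₁ : (ShortComplex.mk a b ab).Exact)
    (h₂ : (ShortComplex.mk b c bc).Exact) (hA : Good A V) (hB : Good B V) :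
    (Good D V → Good C V) ∧ Function.Surjective (c.app V) ∧
      ∀ s, c.app V s = 0 → ∃ t, b.app V t = s := by
  let S₁ : ShortComplex Y.Modules := ShortComplex.mk a (cokernel.π a) (cokernel.condition a)
  have hS₁ : S₁.ShortExact :=
    { exact := ShortComplex.exact_of_g_is_cokernel _ (cokernelIsCokernel _) }
  let S₂ : ShortComplex Y.Modules := ShortComplex.mk (cokernel.desc a b ab) c
    (by rw [← cancel_epi (cokernel.π a), cokernel.π_desc_assoc, bc, comp_zero])
  let φ : ShortComplex.mk b c bc ⟶ S₂ :=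
    { τ₁ := cokernel.π a
      τ₂ := 𝟙 _
      τ₃ := 𝟙 _
      comm₁₂ := by simp [S₂]
      comm₂₃ := by simp [S₂] }
  have hS₂ : S₂.ShortExact :=
    { exact := (ShortComplex.exact_iff_of_epi_of_isIso_of_mono φ).1 h₂
      mono_f := h₁.mono_cokernelDesc
      epi_g := inferInstanceAs (Epi c) }
  have hK : Good S₂.X₁ V := good_X₃ hS₁ hA hB
  refine ⟨fun hD => good_X₂ hS₂ hK hD, app_surjective_of_good hS₂ hK, fun s hs => ?_⟩
  obtain ⟨k, rfl⟩ := exists_app_eq_of_mono hS₂ s hs
  obtain ⟨t, rfl⟩ := app_surjective_of_good hS₁ hA k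
  exact ⟨t, congrArg (fun ψ => ψ.app V t) (cokernel.π_desc a b ab).symm⟩

end Groth.Agent.CBC10
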