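import Groth.Agent.Lib.CBC10.SectLoc
import Groth.Agent.Lib.CBC10.SectGood

/-!
# The comparison is bijective over opens with acyclic higher direct images
-/

set_option autoImplicit false
set_option linter.style.haveILetI false
set_option linter.unusedSectionVars false
set_option maxHeartbeats 1000000

universe u

open CategoryTheory CategoryTheory.Limits AlgebraicGeometry TopologicalSpace Opposite Abelian

noncomputable section

namespace Groth.Agent.CBC10

open CohFound in
attribute [-instance] abelianAb hasExtAb isGrothendieckAbelianAb enoughInjectivesAb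

variable {X Y : Scheme.{u}}

variable {f : X ⟶ Y} [HasInjectiveResolutions X.Modules] {Δ : RDer.DerivedLES (Scheme.Modules.pushforward f)}

lemma mono_rpush_zero_map {A B : X.Modules} (φ : A ⟶ B) [Mono φ] : Mono ((Coh.Rpush f 0).map φ) := by
  haveI : (Scheme.Modules.pushforward f).IsRightAdjoint :=
    (Scheme.Modules.pullbackPushforwardAdjunction f).isRightAdjoint
  let t := (Scheme.Modules.pushforward f).toRightDerivedZero
  have h : (Coh.Rpush f 0).map φ =
      inv (t.app A) ≫ (Scheme.Modules.pushforward f).map φ ≫ t.app B :=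
    ((IsIso.inv_comp_eq (t.app A)).2 (t.naturality φ)).symm
  rw [h]
  infer_instance

lemma good_rpush_injective (I : X.Modules) [Injective I] {V : Y.Opens} :
    ∀ p, Good ((Coh.Rpush f p).obj I) V
  | 0 => good_of_iso (asIso ((Scheme.Modules.pushforward f).toRightDerivedZero.app I)) (good_push_injective f I)
  | p + 1 => good_of_isZero (isZero_rpush_injective I p)

variable (Δ) in
theorem rpush_step (F : X.Modules) {V : Y.Opens} (hF : ∀ j, Good ((Coh.Rpush f j).obj F) V) :
    ∀ p, Good ((Coh.Rpush f p).obj (injM F).X₃) V ∧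
      Function.Surjective ((Δ.δ _ (injM_shortExact F) p (p + 1) rfl).app V) ∧
      ∀ s, (Δ.δ _ (injM_shortExact F) p (p + 1) rfl).app V s = 0 →
        ∃ t, ((Coh.Rpush f p).map (injM F).g).app V t = s
  | 0 => by
    haveI : Injective (injM F).X₂ := inferInstanceAs (Injective (Injective.under F))
    haveI : Mono (injM F).f := (injM_shortExact F).mono_f
    haveI : Mono ((Coh.Rpush f 0).map (injM F).f) := mono_rpush_zero_map _
    haveI : Epi (Δ.δ _ (injM_shortExact F) 0 1 rfl) :=
      (Δ.exact₁ _ (injM_shortExact F) 0 1 rfl).epi_f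
        ((isZero_rpush_injective (injM F).X₂ 0).eq_of_tgt _ _)
    obtain ⟨h1, h2, h3⟩ := four_term (V := V) ((Coh.Rpush f 0).map (injM F).f)
      ((Coh.Rpush f 0).map (injM F).g) (Δ.δ _ (injM_shortExact F) 0 1 rfl) _ _
      (Δ.exact₂ _ (injM_shortExact F) 0) (Δ.exact₃ _ (injM_shortExact F) 0 1 rfl) (hF 0)
      (good_rpush_injective _ 0)
    exact ⟨h1 (hF 1), h2, h3⟩
  | p + 1 => by
    haveI : Injective (injM F).X₂ := inferInstanceAs (Injective (Injective.under F))
    haveI : Mono (Δ.δ _ (injM_shortExact F) (p + 1) (p + 2) rfl) :=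
      (Δ.exact₃ _ (injM_shortExact F) (p + 1) (p + 2) rfl).mono_g
        ((isZero_rpush_injective (injM F).X₂ p).eq_of_src _ _)
    haveI : Epi (Δ.δ _ (injM_shortExact F) (p + 1) (p + 2) rfl) :=
      (Δ.exact₁ _ (injM_shortExact F) (p + 1) (p + 2) rfl).epi_f
        ((isZero_rpush_injective (injM F).X₂ (p + 1)).eq_of_tgt _ _)
    haveI : IsIso (Δ.δ _ (injM_shortExact F) (p + 1) (p + 2) rfl) := isIso_of_mono_of_epi _
    have hb : Function.Bijective ((Δ.δ _ (injM_shortExact F) (p + 1) (p + 2) rfl).app V) :=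
      ConcreteCategory.bijective_of_isIso _
    refine ⟨good_of_iso (asIso (Δ.δ _ (injM_shortExact F) (p + 1) (p + 2) rfl)).symm (hF (p + 2)),
      hb.2, fun s hs => ⟨0, ?_⟩⟩
    rw [map_zero]
    exact (hb.1 (hs.trans (map_zero _).symm)).symm

variable (E : CohCmp.SectCmp f Δ)

lemma surjective_ε_injective (I : X.Modules) [Injective I] (V : Y.Opens) :
    ∀ p, Function.Surjective (E.ε V I p)
  | 0 => (bijective_ε_zero E V I).2
  | p + 1 => fun t => ⟨0, (map_zero _).trans (eq_zero_of_isZero (isZero_rpush_injective I p) t).symm⟩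

/-- The comparison is bijective over `V` as soon as all `R^j f_* F` are acyclic over `V`. -/
theorem bijective_ε_of_good {V : Y.Opens} : ∀ (p : ℕ) (F : X.Modules),
    (∀ j, Good ((Coh.Rpush f j).obj F) V) → Function.Bijective (E.ε V F p)
  | 0, F, _ => bijective_ε_zero E V F
  | p + 1, F, hF => by
    haveI : Injective (injM F).X₂ := inferInstanceAs (Injective (Injective.under F))
    obtain ⟨-, hsurj, hlift⟩ := rpush_step Δ F hF p
    have ih := bijective_ε_of_good p (injM F).X₃ fun j => (rpush_step Δ F hF j).1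
    refine ⟨(injective_iff_map_eq_zero _).2 fun x hx => ?_, fun t => ?_⟩
    · obtain ⟨z, rfl⟩ := exists_extδ_eq F (f ⁻¹ᵁ V) p x
      obtain ⟨t, ht⟩ := hlift _ ((E.delta V _ (injM_shortExact F) _ p z).symm.trans hx)
      obtain ⟨w, rfl⟩ := surjective_ε_injective E _ V p t
      obtain rfl := ih.1 ((E.natural V (injM F).g p w).trans ht)
      refine (Ext.comp_assoc_of_second_deg_zero _ _ _ (rfl : p + 1 = p + 1)).trans ?_
      exact (congrArg (fun t => Ext.comp w t rfl)
        (shortExact_toAbOn (injM_shortExact F) _).comp_extClass).trans (Ext.comp_zero _ _ _ _ _)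
    · obtain ⟨s, rfl⟩ := hsurj t
      obtain ⟨z, rfl⟩ := ih.2 s
      exact ⟨CohCmp.extδ (shortExact_toAbOn (injM_shortExact F) _) p z, E.delta V _ (injM_shortExact F) _ p z⟩

/-- Over an affine open the comparison of a quasi-coherent module is bijective. -/
theorem bijective_ε_affine [QuasiCompact f] [QuasiSeparated f] (F : X.Modules) [hF : Coh.IsQCoh F]
    {V : Y.Opens} (hV : IsAffineOpen V) (p : ℕ) : Function.Bijective (E.ε V F p) :=
  bijective_ε_of_good E p F fun j => by
    haveI : ((Coh.Rpush f j).obj F).IsQuasicoherent := CohFound.isQCoh_rpush f hF j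
    exact good_of_isQCoh hV

end Groth.Agent.CBC10
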