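import Groth.Agent.Lib.RefHull26.Glue

/-!
# Isomorphisms of quasi-coherent modules from an affine cover
-/

set_option autoImplicit false
set_option backward.isDefEq.respectTransparency.types false

universe u

open CategoryTheory AlgebraicGeometry TopologicalSpace

namespace Groth.Agent.CBC10

/-- A map of quasi-coherent modules, bijective on the sections of an affine cover, is an isomorphism. -/
theorem isIso_of_affine_cover {X : Scheme.{u}} {M N : X.Modules} [hM : Coh.IsQCoh M] [hN : Coh.IsQCoh N]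
    (φ : M ⟶ N)
    (h : ∀ x : X, ∃ W : X.Opens, IsAffineOpen W ∧ x ∈ W ∧ Function.Bijective (φ.app W)) : IsIso φ := by
  refine (RH26.isIso_iff_stalkMapₗ φ).2 fun x => ?_
  obtain ⟨W, hW, hx, hb⟩ := h x
  refine ⟨(injective_iff_map_eq_zero _).2 fun v hv => ?_, fun a => ?_⟩
  · letI := M1.stalkModule M hx
    haveI := M1.isLocalizedModule_germ M hW hx
    obtain ⟨⟨s, r⟩, hr⟩ := IsLocalizedModule.surj (hW.primeIdealOf ⟨x, hx⟩).asIdeal.primeCompl (M1.germₗ M hx) v
    have hu := (M1.isUnit_germ_iff hW hx r.1).mpr r.2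
    replace hr : X.presheaf.germ W x hx r.1 • v = M.presheaf.germ W x hx s := hr
    have h0 : N.presheaf.germ W x hx (φ.app W s) = 0 := by
      rw [← RefHull.stalkMapₗ_germ, ← hr, map_smul, hv, smul_zero]
    obtain ⟨r', hr', h'⟩ := M1.exists_smul_eq_zero_of_germ_eq_zero N hW hx _ h0
    have hs : M.presheaf.germ W x hx (r' • s) = 0 := by
      rw [hb.1 ((Scheme.Modules.Hom.app_smul φ r' s).trans (h'.trans (map_zero _).symm))]
      exact map_zero _
    rw [RH26.gsmul, hr'.smul_eq_zero, ← hr, hu.smul_eq_zero] at hs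
    exact hs
  · letI := M1.stalkModule N hx
    haveI := M1.isLocalizedModule_germ N hW hx
    obtain ⟨⟨s, r⟩, hr⟩ := IsLocalizedModule.surj (hW.primeIdealOf ⟨x, hx⟩).asIdeal.primeCompl (M1.germₗ N hx) a
    obtain ⟨w, hw⟩ := (M1.isUnit_germ_iff hW hx r.1).mpr r.2
    replace hr : X.presheaf.germ W x hx r.1 • a = N.presheaf.germ W x hx s := hr
    obtain ⟨t, rfl⟩ := hb.2 s
    refine ⟨(↑w⁻¹ : X.presheaf.stalk x) • M.presheaf.germ W x hx t, ?_⟩
    rw [map_smul, RefHull.stalkMapₗ_germ, ← hr, ← hw, smul_smul, Units.inv_mul, one_smul]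

end Groth.Agent.CBC10
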