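import Groth.Agent.Lib.CBC10.CechOn
import Groth.Agent.Lib.FlatH4.PullChart
import Groth.Agent.Lib.FibDepth5.Data
import Groth.Agent.Lib.CohFound.Qcqs
import Groth.Agent.Lib.CBC10.StalkCover

/-!
# Base change for higher direct images flat over a further base
-/

set_option autoImplicit false
set_option linter.style.haveILetI false
set_option linter.unusedSectionVars false
set_option maxHeartbeats 1000000

universe u

open CategoryTheory CategoryTheory.Limits AlgebraicGeometry TopologicalSpace Opposite Groth.Agent.FlatCxLib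

noncomputable section

namespace Groth.Agent.CBC10

open CohFound in
attribute [-instance] abelianAb hasExtAb isGrothendieckAbelianAb enoughInjectivesAb

attribute [local instance] secA

variable {X Y S : Scheme.{u}} (a : X ⟶ S) (b : Y ⟶ S) (f : X ⟶ Y) (F : X.Modules)

include a b in
/-- The sections over affines above `V` are flat over `Γ(T)`. -/
theorem flat_sections_below (hf : f ≫ b = a) [Coh.IsQCoh F] (hF : FlatMod.IsFlatOver a F) {T : S.Opens}
    (hT : IsAffineOpen T) {V : Y.Opens} (hV : IsAffineOpen V) (eV : V ≤ b ⁻¹ᵁ T)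
    {O : (f ⁻¹ᵁ V : X.Opens).toScheme.Opens} (hO : IsAffineOpen O) :
    letI := overU f hV
    letI := (b.appLE T V eV).hom.toAlgebra
    letI := moduleBelow (A := Γ(Y, V)) Γ(S, T) Γ(resU f F V, O)
    Module.Flat Γ(S, T) Γ(resU f F V, O) := by
  letI := overU f hV
  letI := (b.appLE T V eV).hom.toAlgebra
  letI := moduleBelow (A := Γ(Y, V)) Γ(S, T) Γ(resU f F V, O)
  have hO' : IsAffineOpen ((f ⁻¹ᵁ V).ι ''ᵁ O) := hO.image_of_isOpenImmersion _
  have e : (f ⁻¹ᵁ V).ι ''ᵁ O ≤ a ⁻¹ᵁ T := by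
    subst hf
    exact le_trans ((f ⁻¹ᵁ V).ι.image_mono le_top |>.trans (le_of_eq (f ⁻¹ᵁ V).ι_image_top)) (f.preimage_mono eV)
  letI := FlatH4.secModuleOver a F T ((f ⁻¹ᵁ V).ι ''ᵁ O) e
  haveI := FibDepth5.flat_sections a F hF hT hO' e
  let id' : Γ(F, (f ⁻¹ᵁ V).ι ''ᵁ O) →+ Γ(resU f F V, O) := AddMonoidHom.id _
  have hc : ∀ c : Γ(S, T), (((f ⁻¹ᵁ V).ι.appIso O).inv (ρ Γ(Y, V) O (b.appLE T V eV c)) :
      Γ(X, (f ⁻¹ᵁ V).ι ''ᵁ O)) = a.appLE T ((f ⁻¹ᵁ V).ι ''ᵁ O) e c := fun c => by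
    subst hf
    have h1 : ρ Γ(Y, V) O (b.appLE T V eV c) = ((f ⁻¹ᵁ V : X.Opens).toScheme.presheaf.map (homOfLE le_top).op)
        (X.presheaf.map (eqToHom (f ⁻¹ᵁ V).ι_image_top).op (f.app V (b.appLE T V eV c))) :=
      congrArg ((f ⁻¹ᵁ V : X.Opens).toScheme.presheaf.map (homOfLE le_top).op) (toGlobal_overU f hV _)
    rw [h1, Scheme.Hom.app_eq_appLE]
    simp only [Scheme.Opens.ι_appIso, Iso.refl_inv,
      Scheme.Opens.toScheme_presheaf_map, ← CommRingCat.comp_apply, Scheme.Hom.appLE_map, Scheme.Hom.appLE_comp_appLE]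
    exact ConcreteCategory.congr_hom (Scheme.Hom.appLE_map (f ≫ b) (U := T) _ _) c
  have hid : ∀ (c : Γ(S, T)) (s : Γ(F, (f ⁻¹ᵁ V).ι ''ᵁ O)), id' (c • s) = c • id' s := fun c s =>
    (congrArg (fun t : Γ(X, (f ⁻¹ᵁ V).ι ''ᵁ O) => t • s) (hc c)).symm
  exact Module.Flat.of_linearEquiv (LinearEquiv.ofBijective
    ({ id' with map_smul' := hid } : Γ(F, (f ⁻¹ᵁ V).ι ''ᵁ O) →ₗ[Γ(S, T)] Γ(resU f F V, O))
      Function.bijective_id).symm

variable [IsSeparated f] [QuasiCompact f] [HasInjectiveResolutions X.Modules]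

/-- Over affines, a complex computing the cohomology whose comparison at the modules extended from `Γ(T)` is
bijective. -/
theorem exists_computesOn_flat (hf : f ≫ b = a) [hFq : Coh.IsQCoh F] (hF : FlatMod.IsFlatOver a F)
    (hR : ∀ n : ℕ, FlatMod.IsFlatOver b ((Coh.Rpush f n).obj F))
    {Δ : RDer.DerivedLES (Scheme.Modules.pushforward f)} (E : CohCmp.SectCmp f Δ)
    {T : S.Opens} (hT : IsAffineOpen T) {V : Y.Opens} (hV : IsAffineOpen V) (eV : V ≤ b ⁻¹ᵁ T) :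
    letI := (b.appLE T V eV).hom.toAlgebra
    ∃ P : ChainComplex (ModuleCat.{u} Γ(Y, V)) ℤ, ComputesOn f F hV P ∧
      ∀ (p : ℤ) (N : Type u) [AddCommGroup N] [Module Γ(S, T) N],
        Function.Bijective (FlatCxLib.theta P p (TensorProduct Γ(S, T) Γ(Y, V) N)) := by
  letI := overU f hV
  letI := (b.appLE T V eV).hom.toAlgebra
  let X₁ : Scheme.{u} := (f ⁻¹ᵁ V : X.Opens)
  haveI : IsSeparated (X₁ ↘ Spec (CommRingCat.of Γ(Y, V))) :=
    inferInstanceAs (IsSeparated (f ∣_ V ≫ hV.isoSpec.hom))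
  haveI : QuasiCompact (X₁ ↘ Spec (CommRingCat.of Γ(Y, V))) :=
    inferInstanceAs (QuasiCompact (f ∣_ V ≫ hV.isoSpec.hom))
  haveI : CompactSpace X₁ := QuasiCompact.compactSpace_of_compactSpace (X₁ ↘ Spec (CommRingCat.of Γ(Y, V)))
  haveI : X₁.IsSeparated := ⟨by
    rw [← terminal.comp_from (X₁ ↘ Spec (CommRingCat.of Γ(Y, V)))]
    infer_instance⟩
  obtain ⟨ι, _, U, hcov, hU₀⟩ := exists_finite_affine_cover X₁
  have hU := isAffineOpen_tupOpen (U := U) hU₀
  have hF₁ : Coh.IsQCoh (resU f F V) := M1.isQCoh_restrict hFq _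
  let P := down (K Γ(Y, V) U (resU f F V))
  have hP : ComputesOn f F hV P := computes_down_K hcov hU hF₁
  refine ⟨P, hP, fun p N _ _ => ?_⟩
  letI := fun i : ℤ => moduleBelow (A := Γ(Y, V)) Γ(S, T) (P.X i)
  haveI : ∀ i : ℤ, IsScalarTower Γ(S, T) Γ(Y, V) (P.X i) := fun i =>
    IsScalarTower.of_algebraMap_smul fun _ _ => rfl
  haveI : ∀ i : ℤ, Module.Flat Γ(S, T) (P.X i) :=
    flat_down_K Γ(S, T) fun n t => flat_sections_below a b f F hf hF hT hV eV (hU n t)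
  obtain ⟨d, hd⟩ := CohFound.exists_vanishing_bound_compact (X := X₁) (U := ⊤) isCompact_univ
  have hu := CBC10.univExactAt_K (A := Γ(Y, V)) hcov hU hF₁ hd
  have hH : ∀ p q : ℤ, q + 1 = p → Module.Flat Γ(S, T) (LinearMap.ker (dbar P p q)) := by
    intro p q hpq
    rcases lt_or_ge 0 p with hp | hp
    · haveI : Subsingleton (P.X p) := subsingleton_down_K hp
      infer_instance
    · obtain ⟨n, rfl⟩ := Int.exists_eq_neg_ofNat hp
      haveI : Coh.IsQCoh ((Coh.Rpush f n).obj F) := CohFound.isQCoh_rpush f hFq n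
      letI := FlatH4.secModuleOver b ((Coh.Rpush f n).obj F) T V eV
      haveI : IsScalarTower Γ(S, T) Γ(Y, V) Γ((Coh.Rpush f n).obj F, V) :=
        IsScalarTower.of_algebraMap_smul fun _ _ => rfl
      haveI := FibDepth5.flat_sections b ((Coh.Rpush f n).obj F) (hR n) hT hV eV
      obtain ⟨e⟩ := exists_kerDbarEquiv P hpq
      obtain ⟨u₀⟩ := Computes.exists_unit (A := Γ(Y, V)) hP hF₁ n
      let e₀ := (AddEquiv.ofBijective (E.ε V F n) (bijective_ε_affine E F hV n)).toLinearEquiv (R := Γ(Y, V))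
        fun c x => ε_smul E c _ (toGlobal_overU f hV c) n F x
      exact Module.Flat.of_linearEquiv (((e.trans u₀).trans e₀).restrictScalars Γ(S, T))
  haveI := flat_cok_all P (C := Γ(S, T)) (i₀ := -(d : ℤ))
    (fun p hp N _ _ x hx => exact_down_of_univExactAt _ (hu (-p) (by omega)) _ x hx) hH (p - 1)
  exact theta_bijective_tower P (sub_add_cancel p 1) N

omit [IsSeparated f] [QuasiCompact f] in
/-- The sections of the cartesian box of affines are the tensor product. -/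
theorem exists_box {Y' S' : Scheme.{u}} {g : S' ⟶ S} {gY : Y' ⟶ Y} {b' : Y' ⟶ S'} (hY : IsPullback gY b' b g)
    {T : S.Opens} (hT : IsAffineOpen T) {T' : S'.Opens} (hT' : IsAffineOpen T') (eT : T' ≤ g ⁻¹ᵁ T)
    {V : Y.Opens} (hV : IsAffineOpen V) (eV : V ≤ b ⁻¹ᵁ T) {W : Y'.Opens} (hW : W = gY ⁻¹ᵁ V ⊓ b' ⁻¹ᵁ T') :
    IsAffineOpen W ∧
    (letI := (b.appLE T V eV).hom.toAlgebra
     letI := (g.appLE T T' eT).hom.toAlgebra
     letI := (gY.appLE V W (hW.le.trans inf_le_left)).hom.toAlgebra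
     Nonempty (TensorProduct Γ(S, T) Γ(Y, V) Γ(S', T') ≃ₗ[Γ(Y, V)] Γ(Y', W))) := by
  refine ⟨FlatH4.isAffineOpen_of_isPullback hY eT eV hW hT hT' hV, ?_⟩
  have h := FlatH4.isPushout_sections hY eT eV hW hT hT' hV
  letI := (b.appLE T V eV).hom.toAlgebra
  letI := (g.appLE T T' eT).hom.toAlgebra
  letI := (gY.appLE V W (hW.le.trans inf_le_left)).hom.toAlgebra
  letI := (b'.appLE T' W (hW.le.trans inf_le_right)).hom.toAlgebra
  letI : Algebra Γ(S, T) Γ(Y', W) :=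
    ((gY.appLE V W (hW.le.trans inf_le_left)).hom.comp (b.appLE T V eV).hom).toAlgebra
  haveI : IsScalarTower Γ(S, T) Γ(Y, V) Γ(Y', W) := IsScalarTower.of_algebraMap_eq fun _ => rfl
  haveI : IsScalarTower Γ(S, T) Γ(S', T') Γ(Y', W) :=
    IsScalarTower.of_algebraMap_eq fun r => ConcreteCategory.congr_hom h.w r
  haveI : Algebra.IsPushout Γ(S, T) Γ(Y, V) Γ(S', T') Γ(Y', W) := CommRingCat.isPushout_iff_isPushout.mp h
  exact ⟨(Algebra.IsPushout.equiv Γ(S, T) Γ(Y, V) Γ(S', T') Γ(Y', W)).toLinearEquiv⟩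

/-- Base change over affine boxes. -/
theorem bijective_bc_box {X' Y' S' : Scheme.{u}} (hf : f ≫ b = a) {g : S' ⟶ S} {gY : Y' ⟶ Y} {b' : Y' ⟶ S'}
    (hY : IsPullback gY b' b g) {gX : X' ⟶ X} {f' : X' ⟶ Y'} (hX : IsPullback gX f' f gY)
    [HasInjectiveResolutions X'.Modules] [hFq : Coh.IsQCoh F] (hF : FlatMod.IsFlatOver a F)
    (hR : ∀ n : ℕ, FlatMod.IsFlatOver b ((Coh.Rpush f n).obj F))
    {Δ : RDer.DerivedLES (Scheme.Modules.pushforward f)} {Δ' : RDer.DerivedLES (Scheme.Modules.pushforward f')}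
    {E : CohCmp.SectCmp f Δ} {E' : CohCmp.SectCmp f' Δ'} (B : CohCmp.GenBC f gY f' gX hX.w E E') (n : ℕ)
    {T : S.Opens} (hT : IsAffineOpen T) {T' : S'.Opens} (hT' : IsAffineOpen T') (eT : T' ≤ g ⁻¹ᵁ T)
    {V : Y.Opens} (hV : IsAffineOpen V) (eV : V ≤ b ⁻¹ᵁ T) {W : Y'.Opens} (hW : W = gY ⁻¹ᵁ V ⊓ b' ⁻¹ᵁ T') :
    Function.Bijective ((B.bc n F).app W) := by
  obtain ⟨hWa, hbox⟩ := exists_box b hY hT hT' eT hV eV hW
  letI := (b.appLE T V eV).hom.toAlgebra
  letI := (g.appLE T T' eT).hom.toAlgebra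
  letI := (gY.appLE V W (hW.le.trans inf_le_left)).hom.toAlgebra
  obtain ⟨P, hP, hθ⟩ := exists_computesOn_flat a b f F hf hF hR E hT hV eV
  exact ((bc_app_iff hX B F hV hWa (hW.le.trans inf_le_left) hP n).1).2
    (theta_bijective_congr P _ hbox.some (hθ _ Γ(S', T')))

/-- Base change is an isomorphism when the higher direct images are flat over the base. -/
theorem isIso_bc_of_flat {X' Y' S' : Scheme.{u}} (hf : f ≫ b = a) {g : S' ⟶ S} {gY : Y' ⟶ Y} {b' : Y' ⟶ S'}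
    (hY : IsPullback gY b' b g) {gX : X' ⟶ X} {f' : X' ⟶ Y'} (hX : IsPullback gX f' f gY)
    [HasInjectiveResolutions X'.Modules] [hFq : Coh.IsQCoh F] (hF : FlatMod.IsFlatOver a F)
    (hR : ∀ n : ℕ, FlatMod.IsFlatOver b ((Coh.Rpush f n).obj F))
    {Δ : RDer.DerivedLES (Scheme.Modules.pushforward f)} {Δ' : RDer.DerivedLES (Scheme.Modules.pushforward f')}
    {E : CohCmp.SectCmp f Δ} {E' : CohCmp.SectCmp f' Δ'} (B : CohCmp.GenBC f gY f' gX hX.w E E') (n : ℕ) :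
    IsIso (B.bc n F) := by
  haveI : QuasiCompact f' := MorphismProperty.of_isPullback hX inferInstance
  haveI : IsSeparated f' := MorphismProperty.of_isPullback hX inferInstance
  haveI : Coh.IsQCoh ((Coh.Rpush f n).obj F) := CohFound.isQCoh_rpush f hFq n
  haveI : Coh.IsQCoh ((Coh.Rpush f' n).obj ((Scheme.Modules.pullback gX).obj F)) :=
    CohFound.isQCoh_rpush f' (M1.isQCoh_pullback gX hFq) n
  haveI : Coh.IsQCoh ((Scheme.Modules.pullback gY).obj ((Coh.Rpush f n).obj F)) :=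
    M1.isQCoh_pullback gY inferInstance
  refine isIso_of_affine_cover _ fun z => ?_
  obtain ⟨T, hT, hzT, -⟩ := Opens.isBasis_iff_nbhd.1 S.isBasis_affineOpens
    (show g (b' z) ∈ (⊤ : S.Opens) from trivial)
  obtain ⟨T', hT', hzT', eT⟩ := Opens.isBasis_iff_nbhd.1 S'.isBasis_affineOpens (show b' z ∈ g ⁻¹ᵁ T from hzT)
  have hzb : b (gY z) ∈ T := by
    rw [← Scheme.Hom.comp_apply, hY.w, Scheme.Hom.comp_apply]
    exact hzT
  obtain ⟨V, hV, hzV, eV⟩ := Opens.isBasis_iff_nbhd.1 Y.isBasis_affineOpens (show gY z ∈ b ⁻¹ᵁ T from hzb)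
  exact ⟨_, (exists_box b hY hT hT' eT hV eV rfl).1, ⟨hzV, hzT'⟩,
    bijective_bc_box a b f F hf hY hX hF hR B n hT hT' eT hV eV rfl⟩

end Groth.Agent.CBC10
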