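import Groth.Agent.Lib.CBC10.KBC
import Groth.Agent.Lib.CBC10.Fib
import Groth.Agent.Lib.FlatCx.Exact

/-!
# Complexes computing cohomology are stable under base change
-/

set_option autoImplicit false
set_option linter.style.haveILetI false
set_option linter.unusedSectionVars false
set_option maxHeartbeats 1000000

universe u

open CategoryTheory CategoryTheory.Limits AlgebraicGeometry Opposite Groth.Agent.FlatCxLib

noncomputable section

namespace Groth.Agent.CBC10

open Groth.Agent.CohFound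

section Lin

variable {B : Type u} [CommRing B] {Q Q' : ChainComplex (ModuleCat.{u} B) ℤ} {p : ℤ}

/-- A natural family of additive equivalences between `T_Q` and `T_{Q'}` is linear. -/
lemma smul_of_natural
    (ω : ∀ (M : Type u) [AddCommGroup M] [Module B M],
      CohIII.T Q p (ModuleCat.of B M) ≃+ CohIII.T Q' p (ModuleCat.of B M))
    (hω : ∀ (M N : Type u) [AddCommGroup M] [Module B M] [AddCommGroup N] [Module B N] (g : M →ₗ[B] N)
      (x : CohIII.T Q p (ModuleCat.of B M)), ω N (Tmap Q p g x) = Tmap Q' p g (ω M x))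
    (M : Type u) [AddCommGroup M] [Module B M] (c : B) (x : CohIII.T Q p (ModuleCat.of B M)) :
    ω M (c • x) = c • ω M x := by
  have h1 : ∀ (R : ChainComplex (ModuleCat.{u} B) ℤ) (y : CohIII.T R p (ModuleCat.of B M)),
      Tmap R p (c • (LinearMap.id : M →ₗ[B] M)) y = c • y := fun R y => by
    rw [Tmap_smul, Tmap_id]
    rfl
  rw [← h1 Q x, hω, h1]

end Lin

variable {A : Type u} [CommRing A] {X : Scheme.{u}} [X.Over (Spec (CommRingCat.of A))] {F : X.Modules}
  {P : ChainComplex (ModuleCat.{u} A) ℤ}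

/-- A computing complex agrees with the Čech complex. -/
theorem Computes.exists_kEquiv (hP : Computes A F P) (hF : Coh.IsQCoh F) {ι : Type u} [Finite ι] {U : ι → X.Opens}
    (hcov : (⊤ : X.Opens) ≤ iSup U)
    (hU : ∀ (n : ℕ) (a : Fin (n + 1) → ι), IsAffineOpen (tupOpen (X := sp X) U a)) :
    ∃ ν : ∀ (p : ℕ) (M : ModuleCat.{u} A),
        CohIII.T P (-(p : ℤ)) M ≃ₗ[A] CohIII.T (down (K A U F)) (-(p : ℤ)) M,
      ∀ (p : ℕ) {M M' : ModuleCat.{u} A} (g : M ⟶ M') (x : CohIII.T P (-(p : ℤ)) M),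
        ν p M' ((CohIII.TFun P (-(p : ℤ))).map g x) = (CohIII.TFun (down (K A U F)) (-(p : ℤ))).map g (ν p M x) := by
  obtain ⟨e, he⟩ := hP
  refine ⟨fun p M => (e p M).trans ((tEquiv hcov hU hF M p).symm.trans
    ((downIso (K A U F) p).app M).toLinearEquiv.symm), fun p M M' g x => ?_⟩
  simp only [LinearEquiv.trans_apply]
  rw [he p g x]
  obtain ⟨y, hy⟩ := (tEquiv hcov hU hF M p).surjective (e p M x)
  rw [← hy, ← tEquiv_natural hcov hU hF g p y, LinearEquiv.symm_apply_apply, LinearEquiv.symm_apply_apply]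
  exact ConcreteCategory.congr_hom ((downIso (K A U F) p).inv.naturality g) y

variable {B : Type u} [CommRing B] [Algebra A B] {X' : Scheme.{u}} [X'.Over (Spec (CommRingCat.of B))]

/-- Base change of a computing complex. -/
theorem Computes.baseChange [X.IsSeparated] [CompactSpace X] (hP : Computes A F P) (hF : Coh.IsQCoh F)
    {g : X' ⟶ X} (h : IsPullback g (X' ↘ Spec (CommRingCat.of B)) (X ↘ Spec (CommRingCat.of A))
      (Spec.map (CommRingCat.ofHom (algebraMap A B)))) {F' : X'.Modules}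
    (i₀ : (Scheme.Modules.pullback g).obj F ≅ F') :
    Computes B F' (CohIII.bcCx (algebraMap A B) P) := by
  letI : X'.Over (Spec (CommRingCat.of A)) :=
    ⟨(X' ↘ Spec (CommRingCat.of B)) ≫ Spec.map (CommRingCat.ofHom (algebraMap A B))⟩
  have hsq : Sq (A := A) (B := B) g := ⟨h, rfl⟩
  obtain ⟨ι, _, U, hcov, hU₀⟩ := exists_finite_affine_cover X
  have hU := isAffineOpen_tupOpen (U := U) hU₀
  let U' : ι → X'.Opens := fun i => g ⁻¹ᵁ U i
  have hU' : ∀ i, U' i = g ⁻¹ᵁ U i := fun i => rfl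
  have hV : ∀ (n : ℕ) (a : Fin (n + 1) → ι), IsAffineOpen (tupOpen (X := sp X') U' a) := fun n a => by
    haveI := affine_of_sq hsq
    rw [tupOpen_eq_preimage U U' hU' n a]
    exact (hU n a).preimage g
  have hcov' : (⊤ : X'.Opens) ≤ iSup U' := fun x _ => by
    obtain ⟨i, hi⟩ := TopologicalSpace.Opens.mem_iSup.1 (hcov (show g x ∈ (⊤ : X.Opens) from trivial))
    exact TopologicalSpace.Opens.mem_iSup.2 ⟨i, hi⟩
  have hF' : Coh.IsQCoh F' := M1.isQCoh_of_isIso i₀ (M1.isQCoh_pullback g hF)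
  obtain ⟨ν, hν⟩ := hP.exists_kEquiv hF hcov hU
  let D₁ : BCData P (CohIII.bcCx (algebraMap A B) P) := BCData.self P
  let D₂ := kBCData U U' hsq hU' i₀ hF hU hV
  let ω : ∀ (p : ℕ) (M : Type u) [AddCommGroup M] [Module B M],
      CohIII.T (CohIII.bcCx (algebraMap A B) P) (-(p : ℤ)) (ModuleCat.of B M) ≃+
        CohIII.T (down (K B U' F')) (-(p : ℤ)) (ModuleCat.of B M) := fun p M _ _ =>
    letI : Module A M := Module.compHom M (algebraMap A B)
    haveI : IsScalarTower A B M := IsScalarTower.of_algebraMap_smul fun _ _ => rfl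
    (D₁.tEquivD M (sub_add_cancel (-(p : ℤ)) 1)).symm.trans
      ((ν p (ModuleCat.of A M)).toAddEquiv.trans (D₂.tEquivD M (sub_add_cancel (-(p : ℤ)) 1)))
  have hω : ∀ (p : ℕ) (M N : Type u) [AddCommGroup M] [Module B M] [AddCommGroup N] [Module B N] (l : M →ₗ[B] N)
      (x : CohIII.T (CohIII.bcCx (algebraMap A B) P) (-(p : ℤ)) (ModuleCat.of B M)),
      ω p N (Tmap _ _ l x) = Tmap _ _ l (ω p M x) := fun p M N _ _ _ _ l x => by
    letI : Module A M := Module.compHom M (algebraMap A B)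
    haveI : IsScalarTower A B M := IsScalarTower.of_algebraMap_smul fun _ _ => rfl
    letI : Module A N := Module.compHom N (algebraMap A B)
    haveI : IsScalarTower A B N := IsScalarTower.of_algebraMap_smul fun _ _ => rfl
    obtain ⟨z, rfl⟩ := (D₁.tEquivD M (sub_add_cancel (-(p : ℤ)) 1)).surjective x
    simp only [ω, AddEquiv.trans_apply, AddEquiv.symm_apply_apply]
    rw [← BCData.tEquivD_natural D₁ _ l z, AddEquiv.symm_apply_apply]
    exact (congrArg (D₂.tEquivD N _) (hν p (ModuleCat.ofHom (l.restrictScalars A)) z)).trans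
      (BCData.tEquivD_natural D₂ _ l _)
  let Ω : ∀ (p : ℕ) (M : ModuleCat.{u} B), CohIII.T (CohIII.bcCx (algebraMap A B) P) (-(p : ℤ)) M ≃ₗ[B]
      CohIII.T (down (K B U' F')) (-(p : ℤ)) M := fun p M =>
    (ω p M).toLinearEquiv (smul_of_natural (fun M _ _ => ω p M) (fun M N _ _ _ _ l x => hω p M N l x) M)
  refine ⟨fun p M => ((Ω p M).trans ((downIso (K B U' F') p).app M).toLinearEquiv).trans
    (tEquiv hcov' hV hF' M p), fun p M M' l x => ?_⟩
  simp only [LinearEquiv.trans_apply]
  refine Eq.trans ?_ (tEquiv_natural hcov' hV hF' l p (((downIso (K B U' F') p).app M).toLinearEquiv (Ω p M x)))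
  refine congrArg (tEquiv hcov' hV hF' M' p) ?_
  refine (congrArg ((downIso (K B U' F') p).app M').toLinearEquiv (hω p M M' l.hom x)).trans ?_
  exact ConcreteCategory.congr_hom ((downIso (K B U' F') p).hom.naturality l) (Ω p M x)

end Groth.Agent.CBC10
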