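import Groth.Agent.Lib.CBC10.CompMod

/-!
# Composition of pullbacks of classes over opens
-/

set_option autoImplicit false
set_option linter.style.haveILetI false
set_option linter.unusedSectionVars false
set_option maxHeartbeats 2000000

universe u

open CategoryTheory AlgebraicGeometry TopologicalSpace Opposite Groth.Agent.ModLimH13

noncomputable section

namespace Groth.Agent.CBC10

open CohFound in
attribute [-instance] abelianAb hasExtAb isGrothendieckAbelianAb enoughInjectivesAb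

variable {X Y Z : Scheme.{u}}

lemma cmp_rfl_app (p : Z ⟶ X) (g : X ⟶ Y) (M : Y.Modules) :
    (ModLimH13.cmp p g rfl).hom.app M = (Scheme.Modules.pullbackComp p g).hom.app M := by
  simp [ModLimH13.cmp, Scheme.Modules.pullbackCongr]

/-- Pullbacks of classes compose. -/
theorem pullOn_pullOn (g₂ : Z ⟶ X) (g₁ : X ⟶ Y) (U : Y.Opens) (U' : X.Opens) (U'' : Z.Opens)
    (e₁ : U' ≤ g₁ ⁻¹ᵁ U) (e₂ : U'' ≤ g₂ ⁻¹ᵁ U') (e : U'' ≤ (g₂ ≫ g₁) ⁻¹ᵁ U) (F : Y.Modules) (p : ℕ)
    (x : Coh.HHon Y F U p) :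
    CohPull.mapH ((Scheme.Modules.restrictFunctor U''.ι).map ((Scheme.Modules.pullbackComp g₂ g₁).hom.app F)) p
        (CohPull.pullOn g₂ U' U'' e₂ ((Scheme.Modules.pullback g₁).obj F) p
          (CohPull.pullOn g₁ U U' e₁ F p x)) =
      CohPull.pullOn (g₂ ≫ g₁) U U'' e F p x := by
  rw [pullOn_eq, pullOn_eq, pullOn_eq, mapH_pullF]
  refine pullF_comp_mod _ _ ?_ (aOn g₁ U U' e₁ F) _ (aOn (g₂ ≫ g₁) U U'' e F) ?_ p x
  · rw [← cancel_mono U.ι]
    simp
  · intro W V hV h₁ s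
    refine (aOn_app (g₂ ≫ g₁) U U'' e F W s).trans ?_
    set W' := (g₁.resLE U U' e₁) ⁻¹ᵁ W
    set W'' := (g₂.resLE U' U'' e₂) ⁻¹ᵁ W'
    refine Eq.trans ?_ (congrArg (M1.mres (((Scheme.Modules.pullback (g₂ ≫ g₁)).obj F).restrict U''.ι) h₁)
      (((congrArg (((Scheme.Modules.pullbackComp g₂ g₁).hom.app F).app (U''.ι ''ᵁ W''))
        ((congrArg ((aOn g₂ U' U'' e₂ ((Scheme.Modules.pullback g₁).obj F)).app W') (aOn_app g₁ U U' e₁ F W s)).trans
          (aOn_app g₂ U' U'' e₂ _ W' _))).trans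
        (congrArg (fun φ => φ.app (U''.ι ''ᵁ W'') (res' g₂ _ (image_le_preimage_image g₂ U' U'' e₂ W')
          (res' g₁ F (image_le_preimage_image g₁ U U' e₁ W) s))) (cmp_rfl_app g₂ g₁ F).symm)).trans
        (cmp_res' g₂ g₁ F rfl (image_le_preimage_image g₁ U U' e₁ W) (image_le_preimage_image g₂ U' U'' e₂ W') s))).symm
    exact (mres_res' (g₂ ≫ g₁) F _ (Scheme.Hom.image_mono U''.ι h₁) s).symm

/-- Restriction after pullback. -/
theorem resLE_pullOn (g : X ⟶ Y) (U : Y.Opens) {U' U'' : X.Opens} (h : U'' ≤ U') (e : U' ≤ g ⁻¹ᵁ U)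
    (F : Y.Modules) (p : ℕ) (x : Coh.HHon Y F U p) :
    CohPull.resLE ((Scheme.Modules.pullback g).obj F) h p (CohPull.pullOn g U U' e F p x) =
      CohPull.pullOn g U U'' (h.trans e) F p x := by
  rw [pullOn_eq, pullOn_eq, resLE_eq]
  refine pullF_comp_mod _ _ ?_ (aOn g U U' e F) (aRes _ h) (aOn g U U'' (h.trans e) F) ?_ p x
  · rw [← cancel_mono U.ι]
    simp
  · intro W V hV h₁ s
    refine (aOn_app g U U'' (h.trans e) F W s).trans ?_
    refine Eq.trans ?_ (congrArg (M1.mres (((Scheme.Modules.pullback g).obj F).restrict U''.ι) h₁)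
      ((congrArg ((aRes ((Scheme.Modules.pullback g).obj F) h).app _) (aOn_app g U U' e F W s)).trans
        ((aRes_app _ h _ _).trans (mres_res' g F _ _ s)))).symm
    exact (mres_res' g F _ (Scheme.Hom.image_mono U''.ι h₁) s).symm

end Groth.Agent.CBC10
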