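import Groth.Agent.Lib.CBC10.SectEps
import Groth.Agent.Lib.CBC10.PullComp

/-!
# The base change maps on sections
-/

set_option autoImplicit false
set_option linter.style.haveILetI false
set_option linter.unusedSectionVars false
set_option maxHeartbeats 2000000

universe u

open CategoryTheory AlgebraicGeometry TopologicalSpace Opposite Groth.Agent.ModLimH13

noncomputable section

namespace Groth.Agent.CBC10

open CohFound in
attribute [-instance] abelianAb hasExtAb isGrothendieckAbelianAb enoughInjectivesAb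

variable {X S S' X' : Scheme.{u}} {f : X ⟶ S} {g : S' ⟶ S} {f' : X' ⟶ S'} {g' : X' ⟶ X} {w : g' ≫ f = f' ≫ g}
  [HasInjectiveResolutions X.Modules] [HasInjectiveResolutions X'.Modules]
  {Δ : RDer.DerivedLES (Scheme.Modules.pushforward f)} {Δ' : RDer.DerivedLES (Scheme.Modules.pushforward f')}
  {E : CohCmp.SectCmp f Δ} {E' : CohCmp.SectCmp f' Δ'} (B : CohCmp.GenBC f g f' g' w E E')

lemma bc_pullSec (p : ℕ) (F : X.Modules) (V : S.Opens) (t : Γ((Coh.Rpush f p).obj F, V)) :
    (B.bc p F).app (g ⁻¹ᵁ V) (M2.pullSec g _ t) = (B.φ p F).app V t :=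
  congrArg (fun ψ => ψ.app V t)
    (((Scheme.Modules.pullbackPushforwardAdjunction g).homEquiv_unit _ _ _).symm.trans
      (Equiv.apply_symm_apply ((Scheme.Modules.pullbackPushforwardAdjunction g).homEquiv _ _) (B.φ p F)))

include w in
lemma le_preimage_of_le {V : S.Opens} {W : S'.Opens} (eW : W ≤ g ⁻¹ᵁ V) : f' ⁻¹ᵁ W ≤ g' ⁻¹ᵁ (f ⁻¹ᵁ V) :=
  (f'.preimage_mono eW).trans (CohCmp.sqLE f g f' g' w V)

/-- The base change map sends `g^*` of the class of `x` to the class of the pullback of `x`, on every smaller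
open. -/
theorem bc_res'_ε (p : ℕ) (F : X.Modules) {V : S.Opens} {W : S'.Opens} (eW : W ≤ g ⁻¹ᵁ V)
    (x : Coh.HHon X F (f ⁻¹ᵁ V) p) :
    (B.bc p F).app W (res' g ((Coh.Rpush f p).obj F) eW (E.ε V F p x)) =
      E'.ε W ((Scheme.Modules.pullback g').obj F) p
        (CohPull.pullOn g' (f ⁻¹ᵁ V) (f' ⁻¹ᵁ W) (le_preimage_of_le (w := w) eW) F p x) := by
  refine (M1.app_mres (B.bc p F) eW (M2.pullSec g _ (E.ε V F p x))).trans ?_
  refine (congrArg (M1.mres ((Coh.Rpush f' p).obj ((Scheme.Modules.pullback g').obj F)) eW)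
    ((bc_pullSec B p F V _).trans (B.compat V F p x))).trans ?_
  refine (ε_resLE E' eW p _ _).trans ?_
  exact congrArg (E'.ε W _ p) (resLE_pullOn g' (f ⁻¹ᵁ V) (f'.preimage_mono eW) (CohCmp.sqLE f g f' g' w V) F p x)

end Groth.Agent.CBC10
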