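import Groth.Agent.Lib.CBC10.SectBase

/-!
# The comparison is linear
-/

set_option autoImplicit false
set_option linter.style.haveILetI false
set_option linter.unusedSectionVars false
set_option maxHeartbeats 1000000

universe u

open CategoryTheory CategoryTheory.Limits AlgebraicGeometry TopologicalSpace Opposite Abelian

noncomputable section

namespace Groth.Agent.CBC10

open CohFound in
attribute [-instance] abelianAb hasExtAb isGrothendieckAbelianAb enoughInjectivesAb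

variable {X Y : Scheme.{u}}

lemma smulModΓ_restrict_app (F : X.Modules) (U : X.Opens) (a : Γ(X, U)) (r : Coh.Γtop U.toScheme)
    (hr : r = X.presheaf.map (eqToHom U.ι_image_top).op a) (s : Γ(F, U)) :
    (Formal.smulModΓ (F.restrict U.ι) r).app ⊤ (M1.mres F (le_of_eq U.ι_image_top) s) =
      M1.mres F (le_of_eq U.ι_image_top) (a • s) := by
  subst hr
  rw [M1.mres_smul]
  refine (KLin.smulModΓ_app_apply (F.restrict U.ι) _ ⊤ _).trans ?_
  change ((U.ι.appIso ⊤).inv ((U.toScheme.presheaf.map (homOfLE (le_top : (⊤ : U.toScheme.Opens) ≤ ⊤)).op)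
    (X.presheaf.map (eqToHom U.ι_image_top).op a)) : Γ(X, U.ι ''ᵁ ⊤)) • (M1.mres F (le_of_eq U.ι_image_top) s) = _
  refine congrArg (fun t : Γ(X, U.ι ''ᵁ ⊤) => t • M1.mres F (le_of_eq U.ι_image_top) s) ?_
  simp [M1.ores]
  rfl

variable {f : X ⟶ Y} [HasInjectiveResolutions X.Modules] {Δ : RDer.DerivedLES (Scheme.Modules.pushforward f)}

variable (E : CohCmp.SectCmp f Δ)

/-- The comparison is linear over the functions on `V`. -/
theorem ε_smul {V : Y.Opens} (c : Γ(Y, V)) (r : Coh.Γtop (f ⁻¹ᵁ V : X.Opens).toScheme)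
    (hr : r = X.presheaf.map (eqToHom (f ⁻¹ᵁ V).ι_image_top).op (f.app V c)) (p : ℕ) (F : X.Modules)
    (x : Coh.HHon X F (f ⁻¹ᵁ V) p) :
    E.ε V F p (CohPull.mapH (Formal.smulModΓ (F.restrict (f ⁻¹ᵁ V).ι) r) p x) = c • E.ε V F p x := by
  let α : ∀ (F : X.Modules) (p : ℕ), Coh.HHon X F (f ⁻¹ᵁ V) p →+ Γ((Coh.Rpush f p).obj F, V) := fun F p =>
    (E.ε V F p).comp (CohPull.mapH (Formal.smulModΓ (F.restrict (f ⁻¹ᵁ V).ι) r) p)
  let β : ∀ (F : X.Modules) (p : ℕ), Coh.HHon X F (f ⁻¹ᵁ V) p →+ Γ((Coh.Rpush f p).obj F, V) := fun F p =>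
    AddMonoidHom.mk' (fun x => c • E.ε V F p x) fun x y => by rw [map_add, smul_add]
  refine IsFam.ext (α := α) (β := β) (Δ := Δ)
    ⟨fun ψ p x => ?_, fun S hS hA p x => ?_⟩ ⟨fun ψ p x => ?_, fun S hS hA p x => ?_⟩ (fun F s => ?_) p F x
  · refine Eq.trans (congrArg (E.ε V _ p) ?_) (E.natural V ψ p _)
    refine (Sheaf.H.map_comp_apply _ _ x).symm.trans ((congrArg (fun t => Sheaf.H.map t p x) ?_).trans
      (Sheaf.H.map_comp_apply _ _ x))
    exact ((SheafOfModules.toSheaf _).map_comp _ _).symm.trans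
      ((congrArg (SheafOfModules.toSheaf _).map (KLin.comp_smulModΓ _ r)).trans
        ((SheafOfModules.toSheaf _).map_comp _ _))
  · refine Eq.trans (congrArg (E.ε V _ (p + 1)) ?_) (E.delta V S hS hA p _)
    let T := S.map (CohCmp.toAbOn X (f ⁻¹ᵁ V))
    have hc : ∀ {F G : X.Modules} (ψ : F ⟶ G),
        (SheafOfModules.toSheaf _).map (Formal.smulModΓ (F.restrict (f ⁻¹ᵁ V).ι) r) ≫
            (CohCmp.toAbOn X (f ⁻¹ᵁ V)).map ψ =
          (CohCmp.toAbOn X (f ⁻¹ᵁ V)).map ψ ≫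
            (SheafOfModules.toSheaf _).map (Formal.smulModΓ (G.restrict (f ⁻¹ᵁ V).ι) r) := fun {F G} ψ =>
      ((SheafOfModules.toSheaf _).map_comp _ _).symm.trans
        ((congrArg (SheafOfModules.toSheaf _).map (KLin.comp_smulModΓ _ r).symm).trans
          ((SheafOfModules.toSheaf _).map_comp _ _))
    let μ : T ⟶ T :=
      { τ₁ := (SheafOfModules.toSheaf _).map (Formal.smulModΓ (S.X₁.restrict (f ⁻¹ᵁ V).ι) r)
        τ₂ := (SheafOfModules.toSheaf _).map (Formal.smulModΓ (S.X₂.restrict (f ⁻¹ᵁ V).ι) r)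
        τ₃ := (SheafOfModules.toSheaf _).map (Formal.smulModΓ (S.X₃.restrict (f ⁻¹ᵁ V).ι) r)
        comm₁₂ := hc S.f
        comm₂₃ := hc S.g }
    refine (Ext.comp_assoc_of_third_deg_zero _ _ _ (rfl : p + 1 = p + 1)).trans
      (Eq.trans ?_ (Ext.comp_assoc_of_second_deg_zero _ _ _ (rfl : p + 1 = p + 1)).symm)
    exact congrArg (fun t => x.comp t rfl) (ShortComplex.ShortExact.extClass_naturality hA hA μ)
  · exact (congrArg (c • ·) (E.natural V ψ p x)).trans (((Coh.Rpush f p).map ψ).app_smul c _).symm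
  · exact (congrArg (c • ·) (E.delta V S hS hA p x)).trans ((Δ.δ S hS p (p + 1) rfl).app_smul c _).symm
  · change E.ε V F 0 _ = c • E.ε V F 0 _
    have h1 : CohPull.mapH (Formal.smulModΓ (F.restrict (f ⁻¹ᵁ V).ι) r) 0 (CohPull.sectH0 F (f ⁻¹ᵁ V) s) =
        CohPull.sectH0 F (f ⁻¹ᵁ V) (f.app V c • s) :=
      (Sheaf.H.equiv₀_symm_naturality _ _ _).trans (congrArg (Sheaf.H.equiv₀ _ isTerminalTop).symm
        (smulModΓ_restrict_app F (f ⁻¹ᵁ V) (f.app V c) r hr s))
    rw [h1, E.zero, E.zero]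
    exact ((Scheme.Modules.pushforward f).toRightDerivedZero.app F).app_smul c s

end Groth.Agent.CBC10
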