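import Groth.Agent.Lib.CBC10.PullModel
import Groth.Agent.Lib.CBC10.Compat
import Groth.Agent.Lib.CBC10.SectAff
import Groth.Agent.Lib.CBC10.SectSmul
import Groth.Agent.Lib.CBC10.BaseCx
import Groth.Agent.Lib.CBC10.Local

/-!
# The base change map over affine opens, computed by the complex
-/

set_option autoImplicit false
set_option linter.style.haveILetI false
set_option linter.unusedSectionVars false
set_option maxHeartbeats 2000000

universe u

open CategoryTheory CategoryTheory.Limits AlgebraicGeometry TopologicalSpace Opposite Groth.Agent.ModLimH13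

noncomputable section

namespace Groth.Agent.CBC10

open CohFound in
attribute [-instance] abelianAb hasExtAb isGrothendieckAbelianAb enoughInjectivesAb

variable {X S : Scheme.{u}}

lemma toGlobal_overU (f : X ⟶ S) {V : S.Opens} (hV : IsAffineOpen V) (c : Γ(S, V)) :
    Coh.toGlobal (f ∣_ V ≫ hV.isoSpec.hom) c =
      X.presheaf.map (eqToHom (f ⁻¹ᵁ V).ι_image_top).op (f.app V c) := by
  have h : (Scheme.ΓSpecIso (CommRingCat.of Γ(S, V))).inv ≫ (f ∣_ V ≫ hV.isoSpec.hom).appTop =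
      f.app V ≫ X.presheaf.map (eqToHom (f ⁻¹ᵁ V).ι_image_top).op := by
    rw [Scheme.Hom.comp_appTop, morphismRestrict_appTop, IsAffineOpen.isoSpec_hom_appTop]
    simp [Scheme.Hom.app_eq_appLE, Scheme.Hom.appLE_map]
    exact (Iso.inv_hom_id_assoc (Scheme.ΓSpecIso Γ(S, V)) _).trans (Scheme.Hom.map_appLE f _ _)
  exact ConcreteCategory.congr_hom h c

/-- The square of the restrictions to affine opens. -/
theorem isPullback_affine {X' S' : Scheme.{u}} {f : X ⟶ S} {g : S' ⟶ S} {f' : X' ⟶ S'} {g' : X' ⟶ X}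
    (h : IsPullback g' f' f g) {V : S.Opens} (hV : IsAffineOpen V) {W : S'.Opens} (hW : IsAffineOpen W)
    (eW : W ≤ g ⁻¹ᵁ V) (e' : f' ⁻¹ᵁ W ≤ g' ⁻¹ᵁ (f ⁻¹ᵁ V)) :
    IsPullback (g'.resLE (f ⁻¹ᵁ V) (f' ⁻¹ᵁ W) e') (f' ∣_ W ≫ hW.isoSpec.hom) (f ∣_ V ≫ hV.isoSpec.hom)
      (Spec.map (g.appLE V W eW)) := by
  have H := isPullback_overU f hV
  have H₂ := (isPullback_overU f' hW).paste_horiz h
  rw [← IsAffineOpen.SpecMap_appLE_fromSpec g hV hW eW] at H₂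
  refine IsPullback.of_right (by rw [Scheme.Hom.resLE_comp_ι]; exact H₂) ?_ H
  rw [← cancel_mono hV.fromSpec]
  simp only [Category.assoc]
  rw [show f ∣_ V ≫ hV.isoSpec.hom ≫ hV.fromSpec = (f ⁻¹ᵁ V).ι ≫ f from (H.w.trans (Category.assoc _ _ _)).symm,
    Scheme.Hom.resLE_comp_ι_assoc, IsAffineOpen.SpecMap_appLE_fromSpec g hV hW eW, h.w,
    (isPullback_overU f' hW).w_assoc, Category.assoc]

variable {X' S' : Scheme.{u}} {f : X ⟶ S} {g : S' ⟶ S} {f' : X' ⟶ S'} {g' : X' ⟶ X}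
  [HasInjectiveResolutions X.Modules] [HasInjectiveResolutions X'.Modules]
  {Δ : RDer.DerivedLES (Scheme.Modules.pushforward f)} {Δ' : RDer.DerivedLES (Scheme.Modules.pushforward f')}
  {E : CohCmp.SectCmp f Δ} {E' : CohCmp.SectCmp f' Δ'}

/-- Sections of the higher direct images over affine opens and the base change map between them. -/
theorem exists_bcModel [IsSeparated f] [QuasiCompact f] (h : IsPullback g' f' f g)
    (Bc : CohCmp.GenBC f g f' g' h.w E E') (F : X.Modules) [hF : Coh.IsQCoh F] {V : S.Opens} (hV : IsAffineOpen V)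
    {W : S'.Opens} (hW : IsAffineOpen W) (eW : W ≤ g ⁻¹ᵁ V) {P : ChainComplex (ModuleCat.{u} Γ(S, V)) ℤ}
    (hP : ComputesOn f F hV P) (p : ℕ) :
    letI := (g.appLE V W eW).hom.toAlgebra
    ∃ (Ψ₀ : CohIII.T P (-(p : ℤ)) (ModuleCat.of Γ(S, V) Γ(S, V)) ≃ₗ[Γ(S, V)] Γ((Coh.Rpush f p).obj F, V))
      (Ψ : CohIII.T P (-(p : ℤ)) (ModuleCat.of Γ(S, V) Γ(S', W)) ≃+
        Γ((Coh.Rpush f' p).obj ((Scheme.Modules.pullback g').obj F), W)),
      (∀ (c : Γ(S', W)) x,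
        Ψ ((CohIII.TFun P (-(p : ℤ))).map (ModuleCat.ofHom (LinearMap.mulLeft Γ(S, V) c)) x) = c • Ψ x) ∧
      ∀ z, (Bc.bc p F).app W (res' g ((Coh.Rpush f p).obj F) eW (Ψ₀ z)) =
        Ψ ((CohIII.TFun P (-(p : ℤ))).map (ModuleCat.ofHom (Algebra.linearMap Γ(S, V) Γ(S', W))) z) := by
  letI := (g.appLE V W eW).hom.toAlgebra
  haveI : QuasiCompact f' := MorphismProperty.of_isPullback h inferInstance
  haveI : IsSeparated f' := MorphismProperty.of_isPullback h inferInstance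
  letI := overU f hV
  letI := overU f' hW
  let X₁ : Scheme.{u} := (f ⁻¹ᵁ V : X.Opens)
  let X₂ : Scheme.{u} := (f' ⁻¹ᵁ W : X'.Opens)
  haveI : IsSeparated (X₁ ↘ Spec (CommRingCat.of Γ(S, V))) :=
    inferInstanceAs (IsSeparated (f ∣_ V ≫ hV.isoSpec.hom))
  haveI : QuasiCompact (X₁ ↘ Spec (CommRingCat.of Γ(S, V))) :=
    inferInstanceAs (QuasiCompact (f ∣_ V ≫ hV.isoSpec.hom))
  haveI : CompactSpace X₁ := QuasiCompact.compactSpace_of_compactSpace (X₁ ↘ Spec (CommRingCat.of Γ(S, V)))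
  haveI : X₁.IsSeparated := ⟨by
    rw [← terminal.comp_from (X₁ ↘ Spec (CommRingCat.of Γ(S, V)))]
    infer_instance⟩
  letI : X₂.Over (Spec (CommRingCat.of Γ(S, V))) := ⟨(X₂ ↘ Spec (CommRingCat.of Γ(S', W))) ≫
    Spec.map (CommRingCat.ofHom (algebraMap Γ(S, V) Γ(S', W)))⟩
  have eU : f' ⁻¹ᵁ W ≤ g' ⁻¹ᵁ (f ⁻¹ᵁ V) := le_preimage_of_le (w := h.w) eW
  let g₁ : X₂ ⟶ X₁ := g'.resLE (f ⁻¹ᵁ V) (f' ⁻¹ᵁ W) eU
  have hsq : Sq (A := Γ(S, V)) (B := Γ(S', W)) g₁ := ⟨isPullback_affine h hV hW eW eU, rfl⟩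
  haveI := affine_of_sq hsq
  obtain ⟨ι, _, U, hcov, hU₀⟩ := exists_finite_affine_cover X₁
  have hU := isAffineOpen_tupOpen (U := U) hU₀
  have hF₁ : Coh.IsQCoh (resU f F V) := M1.isQCoh_restrict hF _
  obtain ⟨ν, hν⟩ := Computes.exists_kEquiv hP hF₁ hcov hU
  obtain ⟨Φ, Φ', hΦ', hΦ⟩ := exists_pullModel hcov hU hsq hF₁ (CohPull.pullOnIso g' (f ⁻¹ᵁ V) (f' ⁻¹ᵁ W) eU F)
  let μ : ∀ M : ModuleCat.{u} Γ(S, V), CohIII.T P (-(p : ℤ)) M ≃ₗ[Γ(S, V)]
      CohIII.T (K Γ(S, V) U (resU f F V)) (p : ℤ) M := fun M =>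
    (ν p M).trans ((downIso (K Γ(S, V) U (resU f F V)) p).app M).toLinearEquiv
  have hμ : ∀ {M M' : ModuleCat.{u} Γ(S, V)} (l : M ⟶ M') x, μ M' ((CohIII.TFun P (-(p : ℤ))).map l x) =
      (CohIII.TFun (K Γ(S, V) U (resU f F V)) (p : ℤ)).map l (μ M x) := fun {M M'} l x =>
    (congrArg ((downIso (K Γ(S, V) U (resU f F V)) p).app M').toLinearEquiv (hν p l x)).trans
      (ConcreteCategory.congr_hom ((downIso (K Γ(S, V) U (resU f F V)) p).hom.naturality l) (ν p M x))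
  let e₀ := (AddEquiv.ofBijective (E.ε V F p) (bijective_ε_affine E F hV p)).toLinearEquiv (R := Γ(S, V))
    fun c x => ε_smul E c _ (toGlobal_overU f hV c) p F x
  haveI : Coh.IsQCoh ((Scheme.Modules.pullback g').obj F) := M1.isQCoh_pullback g' hF
  let e₁ := AddEquiv.ofBijective (E'.ε W ((Scheme.Modules.pullback g').obj F) p)
    (bijective_ε_affine E' ((Scheme.Modules.pullback g').obj F) hW p)
  refine ⟨((μ _).trans (Φ p)).trans e₀, ((μ _).toAddEquiv.trans (Φ' p)).trans e₁, fun c x => ?_, fun z => ?_⟩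
  · refine (congrArg (fun t => e₁ (Φ' p t)) (hμ _ x)).trans ((congrArg e₁ (hΦ' p c _)).trans ?_)
    exact ε_smul E' c _ (toGlobal_overU f' hW c) p _ _
  · refine (bc_res'_ε Bc p F eW (Φ p (μ _ z))).trans (congrArg e₁ ?_)
    refine (pullOn_eq g' _ _ eU F p _).trans ((hΦ p _).trans (congrArg (Φ' p) (hμ _ z).symm))

end Groth.Agent.CBC10
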