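import Groth.Agent.Lib.CBC10.Corep0
import Groth.Agent.Lib.CohMop.TensorDerived
import Groth.Agent.Lib.CohFound.ProjQuot
import Groth.Agent.Lib.ModM1.LocFree
import Groth.Agent.Lib.RelPCS8.FlatTerms
import Mathlib.LinearAlgebra.DirectSum.Finsupp

/-!
# Homomorphisms into `F ⊗_A M` are corepresentable
-/

set_option autoImplicit false
set_option linter.style.haveILetI false
set_option linter.unusedSectionVars false
set_option backward.isDefEq.respectTransparency false
set_option backward.isDefEq.respectTransparency.types false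

universe u

open CategoryTheory CategoryTheory.Limits AlgebraicGeometry Opposite
open scoped TensorProduct

noncomputable section

namespace Groth.Agent.CBC10

open CohFound in
attribute [-instance] abelianAb hasExtAb isGrothendieckAbelianAb enoughInjectivesAb

theorem flat_tensor_free {R S M N : Type u} [CommRing R] [CommRing S] [AddCommGroup M] [Module R M] [Module S M]
    [AddCommGroup N] [Module S N] [Module.Free S N] {T : Type u} [AddCommGroup T] [Module R T] [Module S T]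
    (φ : R →+* S) (hM : ∀ (c : R) (m : M), c • m = φ c • m) (hT : ∀ (c : R) (t : T), c • t = φ c • t)
    (q : T ≃ₗ[S] M ⊗[S] N) [Module.Flat R M] : Module.Flat R T := by
  classical
  let b := Module.Free.chooseBasis S N
  let e : T ≃ₗ[S] (Module.Free.ChooseBasisIndex S N →₀ M) :=
    q.trans ((b.repr.lTensor M).trans (TensorProduct.finsuppScalarRight S S M (Module.Free.ChooseBasisIndex S N)))
  let e' : T ≃ₗ[R] (Module.Free.ChooseBasisIndex S N →₀ M) := e.toAddEquiv.toLinearEquiv fun c t => by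
    refine (congrArg e (hT c t)).trans ((e.map_smul (φ c) t).trans ?_)
    exact Finsupp.ext fun i => ((Finsupp.smul_apply _ _ _).trans (hM c _).symm).trans (Finsupp.smul_apply _ _ _).symm
  exact Module.Flat.of_linearEquiv (e'.trans (finsuppLEquivDirectSum R M (Module.Free.ChooseBasisIndex S N)))

variable {X : Scheme.{u}}

theorem isFlatOver_tensor_lf {Y : Scheme.{u}} (f : X ⟶ Y) {F E : X.Modules} (hF : FlatMod.IsFlatOver f F)
    (hE : FlatMod.IsFinLocFree E) : FlatMod.IsFlatOver f (CohB1.tensorMod F E) := fun x => by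
  obtain ⟨U, n, hxU, ⟨e⟩⟩ := hE x
  haveI := M1.free_stalk_of_freeMod (CohFound.isCoh_of_isFinLocFree hE).1 e hxU
  letI := FlatMod.moduleStalkOver f F x
  letI := FlatMod.moduleStalkOver f (CohB1.tensorMod F E) x
  haveI : Module.Flat (Y.presheaf.stalk (f x)) (F.presheaf.stalk x) := hF x
  exact flat_tensor_free (R := Y.presheaf.stalk (f x)) (S := X.presheaf.stalk x) (f.stalkMap x).hom
    (fun _ _ => rfl) (fun _ _ => rfl) (M2.stalkEquiv F E x)

/-- Maps out of the structure module are global sections. -/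
def homUnit (M : X.Modules) : (Coh.structureModule X ⟶ M) ≃+ Γ(M, ⊤) where
  toFun f := f.app ⊤ (M1.one ⊤)
  invFun s := M1.secHom s
  left_inv f := M1.unit_hom_ext (M1.secHom_app_one _)
  right_inv s := M1.secHom_app_one s
  map_add' f g := rfl

variable (A : Type u) [CommRing A] [X.Over (Spec (CommRingCat.of A))] (F : X.Modules)

/-- `Hom(E, F ⊗_A M) = Γ(X, (F ⊗ E^∨) ⊗_A M)` for finite locally free `E`, naturally. -/
theorem exists_homIso {E : X.Modules} (hE : FlatMod.IsFinLocFree E) :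
    Nonempty (CohIII.tensorAFunctor A F ⋙ preadditiveCoyoneda.obj (op E) ≅
      (CohIII.tensorAFunctor A (CohB1.tensorMod F (CohMop.dual E)) ⋙ CohIII.globalSectionsA A) ⋙
        forget₂ (ModuleCat.{u} A) AddCommGrpCat.{u}) := by
  haveI : ModSite.HasSheafHom (O := X.sheaf) E := CohMop.isLeftAdjoint_tenR _
  haveI := CohMop.isIso_bidual hE
  haveI : (CohMop.ihom E).Additive := CohMop.additive_ihom E
  haveI : (CohMop.tenR E).Additive := inferInstance
  let β : CohMop.tenR (CohMop.dual E) ≅ CohMop.ihom E :=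
    CohMop.tenRIhomIso (CohMop.dual E) (CohMop.isFinLocFree_dual hE) ≪≫ CohMop.ihomIso (asIso (CohMop.bidual E)).symm
  let G := CohIII.tensorAFunctor A F
  let G' := CohIII.tensorAFunctor A (CohB1.tensorMod F (CohMop.dual E))
  let τ : G' ≅ G ⋙ CohMop.ihom E :=
    Functor.isoWhiskerLeft (tilde.functor (CommRingCat.of A) ⋙ Scheme.Modules.pullback (X ↘ Spec (CommRingCat.of A)))
      (CohMop.tensorTenIso F (CohMop.dual E)) ≪≫ Functor.isoWhiskerLeft G β
  let u : (CohMop.tenR E).obj (Coh.structureModule X) ≅ E := M2.tensorLUnit E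
  let c : ∀ M, (E ⟶ G.obj M) ≃+ Γ(G'.obj M, (⊤ : X.Opens)) := fun M =>
    { toFun := fun g => (τ.inv.app M).app ⊤ (((CohMop.ihomAdj E).homEquiv _ _ (u.hom ≫ g)).app ⊤ (M1.one ⊤))
      invFun := fun s => u.inv ≫ ((CohMop.ihomAdj E).homEquiv _ _).symm
        ((homUnit _).symm ((τ.hom.app M).app ⊤ s))
      left_inv := fun g => by
        have h1 : (τ.hom.app M).app ⊤ ((τ.inv.app M).app ⊤ (((CohMop.ihomAdj E).homEquiv _ _ (u.hom ≫ g)).app ⊤
            (M1.one ⊤))) = ((CohMop.ihomAdj E).homEquiv _ _ (u.hom ≫ g)).app ⊤ (M1.one ⊤) :=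
          congrArg (fun φ => φ.app ⊤ (((CohMop.ihomAdj E).homEquiv _ _ (u.hom ≫ g)).app ⊤ (M1.one ⊤)))
            (τ.inv_hom_id_app M)
        refine (congrArg (fun s => u.inv ≫ ((CohMop.ihomAdj E).homEquiv _ _).symm ((homUnit _).symm s)) h1).trans ?_
        refine (congrArg (fun φ => u.inv ≫ ((CohMop.ihomAdj E).homEquiv _ _).symm φ)
          ((homUnit _).symm_apply_apply ((CohMop.ihomAdj E).homEquiv _ _ (u.hom ≫ g)))).trans ?_
        rw [Equiv.symm_apply_apply, Iso.inv_hom_id_assoc]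
      right_inv := fun s => by
        dsimp only
        rw [Iso.hom_inv_id_assoc, Equiv.apply_symm_apply]
        refine (congrArg ((τ.inv.app M).app ⊤) ((homUnit _).apply_symm_apply ((τ.hom.app M).app ⊤ s))).trans ?_
        exact congrArg (fun φ => φ.app ⊤ s) (τ.hom_inv_id_app M)
      map_add' := fun g g' => by
        rw [Preadditive.comp_add, Adjunction.homEquiv_unit, Adjunction.homEquiv_unit, Adjunction.homEquiv_unit,
          Functor.map_add, Preadditive.comp_add]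
        exact map_add ((τ.inv.app M).app ⊤).hom _ _ }
  refine ⟨NatIso.ofComponents (fun M => AddEquiv.toAddCommGrpIso
    (X := (G ⋙ preadditiveCoyoneda.obj (op E)).obj M)
    (Y := ((G' ⋙ CohIII.globalSectionsA A) ⋙ forget₂ (ModuleCat.{u} A) AddCommGrpCat.{u}).obj M) (c M)) ?_⟩
  intro M M' g
  refine AddCommGrpCat.hom_ext (AddMonoidHom.ext fun (h : E ⟶ G.obj M) => ?_)
  show c M' (h ≫ G.map g) = (G'.map g).app ⊤ (c M h)
  show (τ.inv.app M').app ⊤ (((CohMop.ihomAdj E).homEquiv _ _ (u.hom ≫ h ≫ G.map g)).app ⊤ (M1.one ⊤)) = _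
  rw [← Category.assoc, Adjunction.homEquiv_naturality_right]
  exact congrArg (fun φ => φ.app ⊤ (((CohMop.ihomAdj E).homEquiv _ _ (u.hom ≫ h)).app ⊤ (M1.one ⊤)))
    (τ.inv.naturality g)

variable [IsNoetherianRing A] [IsProper (X ↘ Spec (CommRingCat.of A))]

/-- `M ↦ Hom(E, F ⊗_A M)` is corepresentable for finite locally free `E`. -/
theorem exists_corepHom (hF : Coh.IsCoh F) (hfl : FlatMod.IsFlatOver (X ↘ Spec (CommRingCat.of A)) F)
    {E : X.Modules} (hE : FlatMod.IsFinLocFree E) :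
    ∃ Q : ModuleCat.{u} A, Module.Finite A Q ∧ Nonempty (CohIII.tensorAFunctor A F ⋙ preadditiveCoyoneda.obj (op E) ≅
      (linearCoyoneda A (ModuleCat.{u} A)).obj (op Q) ⋙ forget₂ (ModuleCat.{u} A) AddCommGrpCat.{u}) := by
  have hd := CohMop.isFinLocFree_dual hE
  obtain ⟨Q, hQ, ⟨e⟩⟩ := exists_corep0 A (CohB1.tensorMod F (CohMop.dual E))
    (CohFound.isCoh_tensor hF (CohFound.isCoh_of_isFinLocFree hd)) (isFlatOver_tensor_lf _ hfl hd)
  obtain ⟨i⟩ := exists_homIso A F hE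
  exact ⟨Q, hQ, ⟨i ≪≫ Functor.isoWhiskerRight e _⟩⟩

/-- `M ↦ Hom(G, F ⊗_A M)` is corepresentable for a module `G` with a finite locally free presentation. -/
theorem exists_corepHom_of_presentation (hF : Coh.IsCoh F)
    (hfl : FlatMod.IsFlatOver (X ↘ Spec (CommRingCat.of A)) F) (G E₀ E₁ : X.Modules)
    (h₀ : FlatMod.IsFinLocFree E₀) (h₁ : FlatMod.IsFinLocFree E₁) (v : E₁ ⟶ E₀) (π : E₀ ⟶ G) [Epi π]
    (w : v ≫ π = 0) (hex : (ShortComplex.mk v π w).Exact) :
    ∃ N : ModuleCat.{u} A, Module.Finite A N ∧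
      Nonempty (CohIII.tensorAFunctor A F ⋙ preadditiveCoyoneda.obj (op G) ≅
        (linearCoyoneda A (ModuleCat.{u} A)).obj (op N) ⋙ forget₂ (ModuleCat.{u} A) AddCommGrpCat.{u}) := by
  let T := CohIII.tensorAFunctor A F
  obtain ⟨Q₀, hQ₀, ⟨e₀⟩⟩ := exists_corepHom A F hF hfl h₀
  obtain ⟨Q₁, hQ₁, ⟨e₁⟩⟩ := exists_corepHom A F hF hfl h₁
  let a : ∀ M, (E₀ ⟶ T.obj M) ≃+ (Q₀ ⟶ M) := fun M => (e₀.app M).addCommGroupIsoToAddEquiv
  let b : ∀ M, (E₁ ⟶ T.obj M) ≃+ (Q₁ ⟶ M) := fun M => (e₁.app M).addCommGroupIsoToAddEquiv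
  have ha : ∀ {M M'} (g : M ⟶ M') (h : E₀ ⟶ T.obj M), a M' (h ≫ T.map g) = a M h ≫ g :=
    fun {M M'} g h => ConcreteCategory.congr_hom (e₀.hom.naturality g) h
  have hb : ∀ {M M'} (g : M ⟶ M') (h : E₁ ⟶ T.obj M), b M' (h ≫ T.map g) = b M h ≫ g :=
    fun {M M'} g h => ConcreteCategory.congr_hom (e₁.hom.naturality g) h
  let φ : Q₁ ⟶ Q₀ := b Q₀ (v ≫ (a Q₀).symm (𝟙 Q₀))
  have hφ : ∀ M (h : E₀ ⟶ T.obj M), b M (v ≫ h) = φ ≫ a M h := fun M h => by
    have h1 : (a Q₀).symm (𝟙 Q₀) ≫ T.map (a M h) = h := (a M).injective (by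
      rw [ha, AddEquiv.apply_symm_apply, Category.id_comp])
    rw [← hb, Category.assoc, h1]
  let q : Q₀ ⟶ ModuleCat.of A (Q₀ ⧸ LinearMap.range φ.hom) := ModuleCat.ofHom (LinearMap.range φ.hom).mkQ
  have hφq : φ ≫ q = 0 := ModuleCat.hom_ext (LinearMap.ext fun z => (Submodule.Quotient.mk_eq_zero _).2 ⟨z, rfl⟩)
  have hw : ∀ M (y : ModuleCat.of A (Q₀ ⧸ LinearMap.range φ.hom) ⟶ M), v ≫ (a M).symm (q ≫ y) = 0 := fun M y => by
    apply (b M).injective
    rw [hφ, AddEquiv.apply_symm_apply, ← Category.assoc, hφq, zero_comp, map_zero]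
  let hc := hex.gIsCokernel
  let Ψ : ∀ M (y : ModuleCat.of A (Q₀ ⧸ LinearMap.range φ.hom) ⟶ M), G ⟶ T.obj M :=
    fun M y => hc.desc (CokernelCofork.ofπ _ (hw M y))
  have hΨ : ∀ M y, π ≫ Ψ M y = (a M).symm (q ≫ y) := fun M y =>
    hc.fac (CokernelCofork.ofπ _ (hw M y)) WalkingParallelPair.one
  let c : ∀ M, (ModuleCat.of A (Q₀ ⧸ LinearMap.range φ.hom) ⟶ M) ≃+ (G ⟶ T.obj M) := fun M =>
    { toFun := Ψ M
      invFun := fun h => ModuleCat.ofHom ((LinearMap.range φ.hom).liftQ (a M (π ≫ h)).hom (by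
        have h0 : φ ≫ a M (π ≫ h) = 0 := by rw [← hφ, ← Category.assoc, w, zero_comp, map_zero]
        rintro _ ⟨z, rfl⟩
        exact LinearMap.congr_fun (congrArg ModuleCat.Hom.hom h0) z))
      left_inv := fun y => ModuleCat.hom_ext (Submodule.linearMap_qext _ (by
        refine (Submodule.liftQ_mkQ _ _ _).trans ?_
        rw [hΨ, AddEquiv.apply_symm_apply]
        rfl))
      right_inv := fun h => (cancel_epi π).1 (by
        rw [hΨ]
        refine ((a M).symm_apply_eq).2 ?_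
        exact ModuleCat.hom_ext (Submodule.liftQ_mkQ _ _ _))
      map_add' := fun y y' => (cancel_epi π).1 (by
        rw [Preadditive.comp_add, hΨ, hΨ, hΨ, Preadditive.comp_add, map_add]) }
  haveI := hQ₀
  refine ⟨ModuleCat.of A (Q₀ ⧸ LinearMap.range φ.hom), inferInstance, ⟨(NatIso.ofComponents (fun M =>
    AddEquiv.toAddCommGrpIso
      (X := ((linearCoyoneda A (ModuleCat.{u} A)).obj (op (ModuleCat.of A (Q₀ ⧸ LinearMap.range φ.hom))) ⋙
        forget₂ (ModuleCat.{u} A) AddCommGrpCat.{u}).obj M)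
      (Y := (T ⋙ preadditiveCoyoneda.obj (op G)).obj M) (c M)) ?_).symm⟩⟩
  intro M M' g
  refine AddCommGrpCat.hom_ext (AddMonoidHom.ext fun y => ?_)
  show Ψ M' (y ≫ g) = Ψ M y ≫ T.map g
  refine (cancel_epi π).1 ?_
  rw [← Category.assoc π (Ψ M y), hΨ, hΨ, (a M').symm_apply_eq, ha, AddEquiv.apply_symm_apply, Category.assoc]

end Groth.Agent.CBC10
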