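import Groth.Agent.Lib.CBC10.Fib
import Groth.Agent.Lib.CBC10.FreeAt
import Groth.Agent.Lib.DMod.TruncGE
import Groth.Agent.Lib.DMod.TruncLE
import Mathlib.RingTheory.Support

/-!
# Complexes of finite projective modules of prescribed amplitude

A complex of finite free modules with no cohomology above `d` and no fibre cohomology below `d'` is, after
tensoring with any module, quasi-isomorphic to a complex of finite projective modules in degrees `[d', d]`.
-/

set_option autoImplicit false
set_option linter.style.haveILetI false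

universe u

open CategoryTheory CategoryTheory.Limits Groth.Agent.FlatCxLib
open scoped TensorProduct

attribute [local instance] HasDerivedCategory.standard

noncomputable section

namespace Groth.Agent.CBC10

variable {A : Type u} [CommRing A]

theorem flat_factor {F : Type u} [AddCommGroup F] [Module A F] {R N : Submodule A F} (h : R ≤ N)
    [Module.Flat A (F ⧸ R)] [Module.Flat A (F ⧸ N)] : Module.Flat A (↥N ⧸ R.comap N.subtype) := by
  haveI := FlatCxLib.flat_ker_of_surjective (Submodule.factor_surjective h)
  let g : (↥N ⧸ R.comap N.subtype) →ₗ[A] F ⧸ R := (R.comap N.subtype).mapQ R N.subtype le_rfl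
  have hg : Function.Injective g := by
    refine (injective_iff_map_eq_zero g).2 fun z hz => ?_
    obtain ⟨x, rfl⟩ := Submodule.mkQ_surjective _ z
    exact (Submodule.Quotient.mk_eq_zero _).2 ((Submodule.Quotient.mk_eq_zero R).1 hz)
  have e : LinearMap.range g = LinearMap.ker (Submodule.factor h) := by
    refine le_antisymm ?_ fun z hz => ?_
    · rintro _ ⟨z, rfl⟩
      obtain ⟨x, rfl⟩ := Submodule.mkQ_surjective _ z
      exact (Submodule.Quotient.mk_eq_zero N).2 x.2
    · obtain ⟨x, rfl⟩ := R.mkQ_surjective z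
      exact ⟨Submodule.Quotient.mk ⟨x, (Submodule.Quotient.mk_eq_zero N).1 hz⟩, rfl⟩
  exact Module.Flat.of_linearEquiv ((LinearEquiv.ofInjective g hg).trans (LinearEquiv.ofEq _ _ e))

theorem flat_ker_of_flat_cok {F G : Type u} [AddCommGroup F] [Module A F] [AddCommGroup G] [Module A G]
    [Module.Flat A F] [Module.Flat A G] (f : F →ₗ[A] G) [Module.Flat A (G ⧸ LinearMap.range f)] :
    Module.Flat A (LinearMap.ker f) ∧ Module.Flat A (F ⧸ LinearMap.ker f) := by
  haveI : Module.Flat A (LinearMap.range f) := by
    haveI := FlatCxLib.flat_ker_of_surjective (LinearMap.range f).mkQ_surjective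
    exact Module.Flat.of_linearEquiv (LinearEquiv.ofEq _ _ (LinearMap.range f).ker_mkQ.symm)
  refine ⟨?_, Module.Flat.of_linearEquiv f.quotKerEquivRange⟩
  haveI := FlatCxLib.flat_ker_of_surjective f.surjective_rangeRestrict
  exact Module.Flat.of_linearEquiv (LinearEquiv.ofEq _ _ f.ker_rangeRestrict.symm)

variable (L : CochainComplex (ModuleCat.{u} A) ℤ)

theorem flat_quot_of_cok_down {i j : ℤ} (h : i + 1 = j) (hf : Module.Flat A (Cok (down L) (-j))) :
    Module.Flat A (L.X j ⧸ LinearMap.range (cd L i j)) := by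
  have key : ∀ {a a' b b' : ℤ}, a = a' → b = b' → Module.Flat A (L.X b ⧸ LinearMap.range (cd L a b)) →
      Module.Flat A (L.X b' ⧸ LinearMap.range (cd L a' b')) := by
    intro a a' b b' ha hb h
    subst ha
    subst hb
    exact h
  exact key (a := -(-j + 1)) (b := - -j) (by omega) (neg_neg j) hf

theorem subsingleton_T_A_iff (i : ℤ) :
    Subsingleton (CohIII.T L i (ModuleCat.of A A)) ↔ Subsingleton (L.homology i) :=
  ((HomologicalComplex.homologyFunctor _ _ i).mapIso
    ((NatIso.mapHomologicalComplex (MonoidalCategory.rightUnitorNatIso (ModuleCat.{u} A))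
      (ComplexShape.up ℤ)).app L ≪≫ (Functor.mapHomologicalComplexIdIso _ _).app L)).toLinearEquiv.toEquiv.subsingleton_congr

variable [IsNoetherianRing A] (hL : ∀ i, Module.Finite A (L.X i) ∧ Module.Free A (L.X i))

include hL in
/-- No fibre cohomology in degree `i` makes the neighbouring cokernels flat and the cohomology vanish. -/
theorem vanish_of_fibre (i : ℤ) (h : ∀ x : PrimeSpectrum A,
      Subsingleton (CohIII.T L i (ModuleCat.of A x.asIdeal.ResidueField))) :
    Module.Flat A (Cok (down L) (-i)) ∧ Module.Flat A (Cok (down L) (-i - 1)) ∧ Subsingleton (L.homology i) := by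
  haveI hfree : ∀ j, Module.Free A ((down L).X j) := fun j => (hL _).2
  haveI hfin : ∀ j, Module.Finite A ((down L).X j) := fun j => (hL _).1
  haveI hflat : ∀ j, Module.Flat A ((down L).X j) := fun j => by
    haveI := (hL (-j)).2
    exact (Module.Flat.of_free : Module.Flat A (L.X (-j)))
  have hT : ∀ x : PrimeSpectrum A,
      Subsingleton (CohIII.T (down L) (-i) (ModuleCat.of A x.asIdeal.ResidueField)) := fun x =>
    @Equiv.subsingleton _ _ (((downIso L i).app (ModuleCat.of A x.asIdeal.ResidueField)).toLinearEquiv :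
      CohIII.T (down L) (-i) (ModuleCat.of A x.asIdeal.ResidueField) ≃ₗ[A]
        CohIII.T L i (ModuleCat.of A x.asIdeal.ResidueField)).toEquiv (h x)
  have hd : ∀ x : PrimeSpectrum A, CohIII.dRank (down L) (-i) x = 0 := fun x => by
    haveI := hT x
    haveI : Subsingleton ((CohIII.bcCx (algebraMap A x.asIdeal.ResidueField) (down L)).homology (-i)) :=
      (FlatCxLib.tensorBcEquiv (down L) x.asIdeal.ResidueField (sub_add_cancel (-i) 1)).symm.toEquiv.subsingleton
    exact Module.finrank_zero_of_subsingleton
  obtain ⟨h1, h2⟩ := flat_cok_of_dRank_zero (down L) (p := -i) (q := -i - 1) (sub_add_cancel _ 1) hd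
  refine ⟨h1, h2, (subsingleton_T_A_iff L i).1 ?_⟩
  have hepi := (FlatCxLib.preservesEpi_iff (down L) (sub_add_cancel (-i) 1)).2 h2
  haveI := FlatCxLib.finite_H (down L) (-i)
  have hH : Subsingleton (H (down L) (-i)) := by
    refine (Module.support_eq_empty_iff (R := A)).1 (Set.eq_empty_of_forall_notMem fun x hx => ?_)
    have hn := (Module.mem_support_iff_nontrivial_residueField_tensorProduct x).1 hx
    haveI := hT x
    have hs : Subsingleton (H (down L) (-i) ⊗[A] x.asIdeal.ResidueField) :=
      (FlatCxLib.theta_bijective (down L) (-i) hepi x.asIdeal.ResidueField).1.subsingleton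
    exact not_subsingleton _ ((TensorProduct.comm A x.asIdeal.ResidueField (H (down L) (-i))).toEquiv.subsingleton)
  have h3 : Subsingleton (CohIII.T (down L) (-i) (ModuleCat.of A A)) :=
    (FlatCxLib.theta_bijective (down L) (-i) hepi A).2.subsingleton
  exact @Equiv.subsingleton _ _ (((downIso L i).app (ModuleCat.of A A)).toLinearEquiv.symm :
      CohIII.T L i (ModuleCat.of A A) ≃ₗ[A] CohIII.T (down L) (-i) (ModuleCat.of A A)).toEquiv h3

include hL in
theorem flat_cok_down_of_exact {b d : ℤ} (hb : ∀ i, b < i → IsZero (L.X i))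
    (hd : ∀ i, d < i → Subsingleton (L.homology i)) {i : ℤ} (hi : d < i) :
    Module.Flat A (Cok (down L) (-i)) := by
  haveI hfree : ∀ j, Module.Free A ((down L).X j) := fun j => (hL _).2
  haveI hflat : ∀ j, Module.Flat A ((down L).X j) := fun j => by
    haveI := (hL (-j)).2
    exact (Module.Flat.of_free : Module.Flat A (L.X (-j)))
  refine FlatCxLib.flat_cok_of_flat_H (down L) (i₀ := -b) (fun j hj => hb (-j) (by omega)) (-i)
    (fun q hq => ?_) (-i) le_rfl
  obtain ⟨k, rfl⟩ : ∃ k, q = -k := ⟨-q, (neg_neg q).symm⟩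
  haveI : Subsingleton (CohIII.T (down L) (-k) (ModuleCat.of A A)) :=
    @Equiv.subsingleton _ _ (((downIso L k).app (ModuleCat.of A A)).toLinearEquiv :
      CohIII.T (down L) (-k) (ModuleCat.of A A) ≃ₗ[A] CohIII.T L k (ModuleCat.of A A)).toEquiv
      ((subsingleton_T_A_iff L k).2 (hd k (by omega)))
  haveI : Subsingleton (H (down L) (-k) ⊗[A] A) :=
    (FlatCxLib.theta_bijective_of_flat (down L) (p := -k) A).1.subsingleton
  haveI : Subsingleton (H (down L) (-k)) := (TensorProduct.rid A (H (down L) (-k))).symm.toEquiv.subsingleton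
  infer_instance

theorem tQuasiIso {C D : CochainComplex (ModuleCat.{u} A) ℤ} (φ : C ⟶ D) (hφ : QuasiIso φ)
    (hC : ∀ i, Module.Flat A (C.X i)) (hD : ∀ i, Module.Flat A (D.X i))
    {bC bD : ℤ} (hbC : ∀ i, bC < i → IsZero (C.X i)) (hbD : ∀ i, bD < i → IsZero (D.X i))
    (i : ℤ) (M : ModuleCat.{u} A) : Nonempty (CohIII.T C i M ≅ CohIII.T D i M) := by
  haveI := FlatCxLib.quasiIso_tensorRight_map hC hD hbC hbD φ M
  exact ⟨@asIso _ _ _ _ (HomologicalComplex.homologyMap
    (((MonoidalCategory.tensorRight M).mapHomologicalComplex (ComplexShape.up ℤ)).map φ) i)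
    ((quasiIsoAt_iff_isIso_homologyMap _ _).1 (QuasiIso.quasiIsoAt i))⟩

include hL in
/-- The amplitude theorem. -/
theorem exists_amplitude {b : ℤ} (hb : ∀ i, b < i → IsZero (L.X i)) (d' d : ℤ)
    (hd : ∀ i, d < i → Subsingleton (L.homology i))
    (hd' : ∀ i, i < d' → ∀ x : PrimeSpectrum A,
      Subsingleton (CohIII.T L i (ModuleCat.of A x.asIdeal.ResidueField))) :
    ∃ K : CochainComplex (ModuleCat.{u} A) ℤ, (∀ i, Module.Finite A (K.X i) ∧ Module.Projective A (K.X i)) ∧
      (∀ i, i < d' ∨ d < i → IsZero (K.X i)) ∧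
      ∀ i (M : ModuleCat.{u} A), Nonempty (CohIII.T K i M ≃ₗ[A] CohIII.T L i M) := by
  classical
  haveI hLfree : ∀ i, Module.Free A (L.X i) := fun i => (hL i).2
  haveI hLfin : ∀ i, Module.Finite A (L.X i) := fun i => (hL i).1
  have hLflat : ∀ i, Module.Flat A (L.X i) := fun i => inferInstance
  -- flat cokernels
  have hq : ∀ i j : ℤ, i + 1 = j → (d < j ∨ j ≤ d') →
      Module.Flat A (L.X j ⧸ LinearMap.range (cd L i j)) := fun i j hij hj => by
    refine flat_quot_of_cok_down L hij ?_
    rcases hj with hj | hj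
    · exact flat_cok_down_of_exact L hL hb hd hj
    · have := (vanish_of_fibre L hL (j - 1) (hd' (j - 1) (by omega))).2.1
      rwa [show -(j - 1) - 1 = -j by omega] at this
  let E : CochainComplex (ModuleCat.{u} A) ℤ := DMod.truncTo L d
  let E' : CochainComplex (ModuleCat.{u} A) ℤ := DMod.truncFrom E d'
  haveI : (DRing.toD L).IsLE d := (DMod.isLE_iff _ _).2 fun i hi => (DMod.subsingleton_HD_toD_iff L i).2 (hd i hi)
  have hιD : IsIso (DerivedCategory.Q.map (DMod.truncToι L d)) := DMod.isIso_Q_map_truncToι L d
  have hι : QuasiIso (DMod.truncToι L d) := (DerivedCategory.isIso_Q_map_iff_quasiIso (ModuleCat.{u} A) _).1 hιD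
  haveI : (DRing.toD E).IsGE d' := (DMod.isGE_iff _ _).2 fun i hi => (DMod.subsingleton_HD_toD_iff E i).2 (by
    haveI := hι.quasiIsoAt i
    haveI := (vanish_of_fibre L hL i (hd' i hi)).2.2
    exact (asIso (HomologicalComplex.homologyMap (DMod.truncToι L d) i)).toLinearEquiv.toEquiv.subsingleton)
  have hπD : IsIso (DerivedCategory.Q.map (DMod.truncFromπ E d')) := DMod.isIso_Q_map_truncFromπ E d'
  have hπ : QuasiIso (DMod.truncFromπ E d') := (DerivedCategory.isIso_Q_map_iff_quasiIso (ModuleCat.{u} A) _).1 hπD
  -- terms of the first truncation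
  haveI hEfin : ∀ i, Module.Finite A (E.X i) := fun i =>
    Module.Finite.of_injective ((DMod.truncToι L d).f i).hom (DMod.truncToι_injective L d i)
  have hle : ∀ i, i ≤ d → Module.Flat A (DMod.leSub L d i) ∧ Module.Flat A (L.X i ⧸ DMod.leSub L d i) := by
    intro i hi
    haveI := hLflat i
    rcases eq_or_lt_of_le hi with rfl | hi
    · haveI := hLflat (i + 1)
      haveI := hq i (i + 1) rfl (Or.inl (by omega))
      rw [DMod.leSub_self]
      exact flat_ker_of_flat_cok (cd L i (i + 1))
    · rw [DMod.leSub_of_lt L hi]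
      exact ⟨Module.Flat.of_linearEquiv Submodule.topEquiv, inferInstance⟩
  have hEflat : ∀ i, Module.Flat A (E.X i) := fun i => by
    by_cases hi : i ≤ d
    · exact (hle i hi).1
    · haveI := ModuleCat.subsingleton_of_isZero (DMod.isZero_truncTo_X L (show d < i by omega))
      infer_instance
  -- terms of the second truncation
  have hE'z : ∀ i, i < d' ∨ d < i → IsZero (E'.X i) := fun i hi => by
    rcases hi with hi | hi
    · exact DMod.isZero_truncFrom_X E hi
    · haveI := ModuleCat.subsingleton_of_isZero (DMod.isZero_truncTo_X L hi)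
      haveI : Subsingleton (E'.X i) := (DMod.truncFromπ_surjective E d' i).subsingleton
      exact ModuleCat.isZero_of_subsingleton _
  have hE'fin : ∀ i, Module.Finite A (E'.X i) := fun i =>
    haveI := hEfin i
    Module.Finite.of_surjective ((DMod.truncFromπ E d').f i).hom (DMod.truncFromπ_surjective E d' i)
  have hE'flat : ∀ i, Module.Flat A (E'.X i) := fun i => by
    rcases lt_trichotomy i d' with hi | hi | hi
    · haveI := ModuleCat.subsingleton_of_isZero (hE'z i (Or.inl hi))
      infer_instance
    · subst hi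
      by_cases hid : i ≤ d
      · let R := LinearMap.range (cd L (i - 1) i)
        let N := DMod.leSub L d i
        haveI := hq (i - 1) i (sub_add_cancel i 1) (Or.inr le_rfl)
        haveI := (hle i hid).2
        have hRN : R ≤ N := by
          rintro _ ⟨y, rfl⟩
          rcases eq_or_lt_of_le hid with rfl | hid
          · show _ ∈ DMod.leSub L i i
            rw [DMod.leSub_self]
            exact FlatCxLib.cd_cd L _ _ _ y
          · show _ ∈ DMod.leSub L d i
            rw [DMod.leSub_of_lt L hid]
            trivial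
        haveI hNR : Module.Flat A (↥N ⧸ R.comap N.subtype) := flat_factor (R := R) (N := N) hRN
        have e : DMod.ltSub E i i = R.comap N.subtype := by
          rw [DMod.ltSub_self]
          ext x
          constructor
          · rintro ⟨y, rfl⟩
            exact ⟨(DMod.truncToι L d).f (i - 1) y,
              (ConcreteCategory.congr_hom ((DMod.truncToι L d).comm (i - 1) i) y)⟩
          · rintro ⟨y, hy⟩
            obtain ⟨v, rfl⟩ := DMod.truncTo_exists L d (i - 1) (x := y)
              (by rw [DMod.leSub_of_lt L (show i - 1 < d by omega)]; trivial)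
            exact ⟨v, DMod.truncToι_injective L d i
              ((ConcreteCategory.congr_hom ((DMod.truncToι L d).comm (i - 1) i) v).symm.trans hy)⟩
        exact @Module.Flat.of_linearEquiv _ _ _ _ _ _ _ _ hNR (Submodule.quotEquivOfEq _ _ e)
      · haveI := ModuleCat.subsingleton_of_isZero (hE'z i (Or.inr (by omega)))
        infer_instance
    · haveI := hEflat i
      exact Module.Flat.of_linearEquiv (DMod.truncFromXEquiv E hi).symm
  refine ⟨E', fun i => ⟨hE'fin i, ?_⟩, hE'z, fun i M => ?_⟩
  · haveI := hE'fin i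
    haveI := hE'flat i
    haveI := Module.finitePresentation_of_finite A (E'.X i)
    exact Module.Flat.projective_of_finitePresentation
  · obtain ⟨a⟩ := tQuasiIso (DMod.truncFromπ E d') hπ hEflat hE'flat (bC := d) (bD := d)
      (fun j hj => DMod.isZero_truncTo_X L hj) (fun j hj => hE'z j (Or.inr hj)) i M
    obtain ⟨c⟩ := tQuasiIso (DMod.truncToι L d) hι hEflat hLflat (bC := d) (bD := b)
      (fun j hj => DMod.isZero_truncTo_X L hj) hb i M
    exact ⟨(a.symm ≪≫ c).toLinearEquiv⟩

end Groth.Agent.CBC10
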