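import Groth.Agent.Lib.CBC10.Point
import Groth.Prelude.Def_CohBC2

/-!
# The base change map in degree zero
-/

set_option autoImplicit false
set_option linter.style.haveILetI false
set_option linter.unusedSectionVars false
set_option maxHeartbeats 2000000

universe u

open CategoryTheory CategoryTheory.Limits AlgebraicGeometry TopologicalSpace Opposite Groth.Agent.ModLimH13 TensorProduct

noncomputable section

namespace Groth.Agent.CBC10

open CohFound in
attribute [-instance] abelianAb hasExtAb isGrothendieckAbelianAb enoughInjectivesAb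

variable {X S : Scheme.{u}}

lemma equiv₀_sectH0 (F : X.Modules) (U : X.Opens) (s : Γ(F, U)) :
    Sheaf.H.equiv₀ (Coh.toAb (F.restrict U.ι)) (isTerminalTop : IsTerminal (⊤ : U.toScheme.Opens))
        (CohPull.sectH0 F U s) =
      M1.mres F (le_of_eq U.ι_image_top) s :=
  (Sheaf.H.equiv₀ (Coh.toAb (F.restrict U.ι)) (isTerminalTop : IsTerminal (⊤ : U.toScheme.Opens))).apply_symm_apply
    ((Coh.toAb F).obj.map (eqToHom U.ι_image_top).op s)

/-- Pullback of degree zero classes is pullback of sections. -/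
lemma pullOn_sectH0 {Y : Scheme.{u}} (g : X ⟶ Y) (U : Y.Opens) (U' : X.Opens) (e : U' ≤ g ⁻¹ᵁ U) (F : Y.Modules)
    (s : Γ(F, U)) :
    CohPull.pullOn g U U' e F 0 (CohPull.sectH0 F U s) =
      CohPull.sectH0 ((Scheme.Modules.pullback g).obj F) U' (res' g F e s) := by
  refine (Sheaf.H.equiv₀ (Coh.toAb (((Scheme.Modules.pullback g).obj F).restrict U'.ι))
    (isTerminalTop : IsTerminal (⊤ : U'.toScheme.Opens))).injective ?_
  rw [equiv₀_sectH0, pullOn_eq]
  refine (pullF_equiv₀ _ (abMap _ (aOn g U U' e F)) _).trans ?_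
  refine (congrArg ((abMap _ (aOn g U U' e F)).hom.app (op ⊤)) (equiv₀_sectH0 F U s)).trans ?_
  refine (aOn_app g U U' e F ⊤ _).trans ?_
  refine (res'_mres g F (le_of_eq U.ι_image_top) (image_le_preimage_image g U U' e ⊤) s).trans ?_
  exact (mres_res' g F e (le_of_eq U'.ι_image_top) s).symm

/-- Degree zero classes are sections, linearly over the base. -/
lemma sectH0_smul (f : X ⟶ S) {V : S.Opens} (c : Γ(S, V)) (r : Coh.Γtop (f ⁻¹ᵁ V : X.Opens).toScheme)
    (hr : r = X.presheaf.map (eqToHom (f ⁻¹ᵁ V).ι_image_top).op (f.app V c)) (F : X.Modules)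
    (s : Γ((Scheme.Modules.pushforward f).obj F, V)) :
    CohPull.sectH0 F (f ⁻¹ᵁ V) (c • s : Γ((Scheme.Modules.pushforward f).obj F, V)) =
      CohPull.mapH (Formal.smulModΓ (F.restrict (f ⁻¹ᵁ V).ι) r) 0 (CohPull.sectH0 F (f ⁻¹ᵁ V) s) :=
  ((Sheaf.H.equiv₀_symm_naturality _ _ _).trans (congrArg (Sheaf.H.equiv₀ _ isTerminalTop).symm
    (smulModΓ_restrict_app F (f ⁻¹ᵁ V) (f.app V c) r hr s))).symm

variable {X' S' : Scheme.{u}} {f : X ⟶ S} {g : S' ⟶ S} {f' : X' ⟶ S'} {g' : X' ⟶ X}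

lemma bc0_res' (w : g' ≫ f = f' ≫ g) (F : X.Modules) {V : S.Opens} {W : S'.Opens} (eW : W ≤ g ⁻¹ᵁ V)
    (s : Γ((Scheme.Modules.pushforward f).obj F, V)) :
    (CohBC.bc0 f g f' g' w F).app W (res' g ((Scheme.Modules.pushforward f).obj F) eW s) =
      res' g' F (le_preimage_of_le (w := w) eW) (show Γ(F, f ⁻¹ᵁ V) from s) := by
  refine (M1.app_mres (CohBC.bc0 f g f' g' w F) eW (M2.pullSec g _ s)).trans ?_
  have h : (CohBC.bc0 f g f' g' w F).app (g ⁻¹ᵁ V) (M2.pullSec g _ s) = (CohBC.bc0Adj f g f' g' w F).app V s :=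
    congrArg (fun ψ => ψ.app V s)
      (((Scheme.Modules.pullbackPushforwardAdjunction g).homEquiv_unit _ _ _).symm.trans
        (Equiv.apply_symm_apply ((Scheme.Modules.pullbackPushforwardAdjunction g).homEquiv _ _)
          (CohBC.bc0Adj f g f' g' w F)))
  refine (congrArg (M1.mres _ eW) h).trans ?_
  exact M1.mres_mres ((Scheme.Modules.pullback g').obj F) _ (f'.preimage_mono eW)
    (M2.pullSec g' F (show Γ(F, f ⁻¹ᵁ V) from s))

/-- The degree zero model. -/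
theorem exists_bc0Model [IsSeparated f] [QuasiCompact f] (h : IsPullback g' f' f g)
    (F : X.Modules) [hF : Coh.IsQCoh F] {V : S.Opens} (hV : IsAffineOpen V)
    {W : S'.Opens} (hW : IsAffineOpen W) (eW : W ≤ g ⁻¹ᵁ V) {P : ChainComplex (ModuleCat.{u} Γ(S, V)) ℤ}
    (hP : ComputesOn f F hV P) :
    letI := (g.appLE V W eW).hom.toAlgebra
    ∃ (Ψ₀ : CohIII.T P (-((0 : ℕ) : ℤ)) (ModuleCat.of Γ(S, V) Γ(S, V)) ≃ₗ[Γ(S, V)]
        Γ((Scheme.Modules.pushforward f).obj F, V))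
      (Ψ : CohIII.T P (-((0 : ℕ) : ℤ)) (ModuleCat.of Γ(S, V) Γ(S', W)) ≃+
        Γ((Scheme.Modules.pushforward f').obj ((Scheme.Modules.pullback g').obj F), W)),
      (∀ (c : Γ(S', W)) x,
        Ψ ((CohIII.TFun P (-((0 : ℕ) : ℤ))).map (ModuleCat.ofHom (LinearMap.mulLeft Γ(S, V) c)) x) = c • Ψ x) ∧
      ∀ z, (CohBC.bc0 f g f' g' h.w F).app W (res' g ((Scheme.Modules.pushforward f).obj F) eW (Ψ₀ z)) =
        Ψ ((CohIII.TFun P (-((0 : ℕ) : ℤ))).map (ModuleCat.ofHom (Algebra.linearMap Γ(S, V) Γ(S', W))) z) := by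
  letI := (g.appLE V W eW).hom.toAlgebra
  haveI : QuasiCompact f' := MorphismProperty.of_isPullback h inferInstance
  haveI : IsSeparated f' := MorphismProperty.of_isPullback h inferInstance
  letI := overU f hV
  letI := overU f' hW
  let X₁ : Scheme.{u} := (f ⁻¹ᵁ V : X.Opens)
  let X₂ : Scheme.{u} := (f' ⁻¹ᵁ W : X'.Opens)
  haveI : IsSeparated (X₁ ↘ Spec (CommRingCat.of Γ(S, V))) :=
    inferInstanceAs (IsSeparated (f ∣_ V ≫ hV.isoSpec.hom))
  haveI : QuasiCompact (X₁ ↘ Spec (CommRingCat.of Γ(S, V))) :=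
    inferInstanceAs (QuasiCompact (f ∣_ V ≫ hV.isoSpec.hom))
  haveI : CompactSpace X₁ := QuasiCompact.compactSpace_of_compactSpace (X₁ ↘ Spec (CommRingCat.of Γ(S, V)))
  haveI : X₁.IsSeparated := ⟨by
    rw [← terminal.comp_from (X₁ ↘ Spec (CommRingCat.of Γ(S, V)))]
    infer_instance⟩
  letI : X₂.Over (Spec (CommRingCat.of Γ(S, V))) := ⟨(X₂ ↘ Spec (CommRingCat.of Γ(S', W))) ≫
    Spec.map (CommRingCat.ofHom (algebraMap Γ(S, V) Γ(S', W)))⟩
  have eU : f' ⁻¹ᵁ W ≤ g' ⁻¹ᵁ (f ⁻¹ᵁ V) := le_preimage_of_le (w := h.w) eW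
  let g₁ : X₂ ⟶ X₁ := g'.resLE (f ⁻¹ᵁ V) (f' ⁻¹ᵁ W) eU
  have hsq : Sq (A := Γ(S, V)) (B := Γ(S', W)) g₁ := ⟨isPullback_affine h hV hW eW eU, rfl⟩
  haveI := affine_of_sq hsq
  obtain ⟨ι, _, U, hcov, hU₀⟩ := exists_finite_affine_cover X₁
  have hU := isAffineOpen_tupOpen (U := U) hU₀
  have hF₁ : Coh.IsQCoh (resU f F V) := M1.isQCoh_restrict hF _
  obtain ⟨ν, hν⟩ := Computes.exists_kEquiv hP hF₁ hcov hU
  obtain ⟨Φ, Φ', hΦ', hΦ⟩ := exists_pullModel hcov hU hsq hF₁ (CohPull.pullOnIso g' (f ⁻¹ᵁ V) (f' ⁻¹ᵁ W) eU F)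
  let μ : ∀ M : ModuleCat.{u} Γ(S, V), CohIII.T P (-((0 : ℕ) : ℤ)) M ≃ₗ[Γ(S, V)]
      CohIII.T (K Γ(S, V) U (resU f F V)) ((0 : ℕ) : ℤ) M := fun M =>
    (ν 0 M).trans ((downIso (K Γ(S, V) U (resU f F V)) (0 : ℕ)).app M).toLinearEquiv
  have hμ : ∀ {M M' : ModuleCat.{u} Γ(S, V)} (l : M ⟶ M') x,
      μ M' ((CohIII.TFun P (-((0 : ℕ) : ℤ))).map l x) =
        (CohIII.TFun (K Γ(S, V) U (resU f F V)) ((0 : ℕ) : ℤ)).map l (μ M x) := fun {M M'} l x =>
    (congrArg ((downIso (K Γ(S, V) U (resU f F V)) (0 : ℕ)).app M').toLinearEquiv (hν 0 l x)).trans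
      (ConcreteCategory.congr_hom ((downIso (K Γ(S, V) U (resU f F V)) (0 : ℕ)).hom.naturality l) (ν 0 M x))
  let s₀ : Γ((Scheme.Modules.pushforward f).obj F, V) ≃+ Coh.HHon X F (f ⁻¹ᵁ V) 0 := CohPull.sectH0 F (f ⁻¹ᵁ V)
  let e₀ : Γ((Scheme.Modules.pushforward f).obj F, V) ≃ₗ[Γ(S, V)] Coh.HH X₁ (resU f F V) 0 :=
    s₀.toLinearEquiv (R := Γ(S, V)) fun c x => sectH0_smul f c _ (toGlobal_overU f hV c) F x
  let s₁ : Γ((Scheme.Modules.pushforward f').obj ((Scheme.Modules.pullback g').obj F), W) ≃+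
      Coh.HHon X' ((Scheme.Modules.pullback g').obj F) (f' ⁻¹ᵁ W) 0 :=
    CohPull.sectH0 ((Scheme.Modules.pullback g').obj F) (f' ⁻¹ᵁ W)
  refine ⟨((μ _).trans (Φ 0)).trans e₀.symm, ((μ _).toAddEquiv.trans (Φ' 0)).trans s₁.symm,
    fun c x => ?_, fun z => ?_⟩
  · refine s₁.injective ?_
    refine (s₁.apply_symm_apply _).trans (Eq.trans ?_
      (sectH0_smul f' c _ (toGlobal_overU f' hW c) ((Scheme.Modules.pullback g').obj F) _).symm)
    refine ((congrArg (Φ' 0) (hμ _ x)).trans (hΦ' 0 c _)).trans ?_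
    exact (congrArg (CohPull.mapH (Formal.smulModΓ _ (Coh.toGlobal (f' ∣_ W ≫ hW.isoSpec.hom) c)) 0)
      (s₁.apply_symm_apply _)).symm
  · refine (bc0_res' h.w F eW _).trans (s₁.injective ?_)
    refine Eq.trans ?_ (s₁.apply_symm_apply _).symm
    refine (pullOn_sectH0 g' (f ⁻¹ᵁ V) (f' ⁻¹ᵁ W) eU F _).symm.trans ?_
    refine (congrArg (CohPull.pullOn g' (f ⁻¹ᵁ V) (f' ⁻¹ᵁ W) eU F 0) (s₀.apply_symm_apply (Φ 0 (μ _ z)))).trans ?_
    exact (pullOn_eq g' _ _ eU F 0 _).trans ((hΦ 0 _).trans (congrArg (Φ' 0) (hμ _ z).symm))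

/-- In degree zero, on affine opens the base change map is bijective, or surjective, exactly when the comparison of
the complex is. -/
theorem bc0_app_iff [IsSeparated f] [QuasiCompact f] (h : IsPullback g' f' f g) (F : X.Modules)
    [hF : Coh.IsQCoh F] {V : S.Opens} (hV : IsAffineOpen V)
    {W : S'.Opens} (hW : IsAffineOpen W) (eW : W ≤ g ⁻¹ᵁ V) {P : ChainComplex (ModuleCat.{u} Γ(S, V)) ℤ}
    (hP : ComputesOn f F hV P) :
    letI := (g.appLE V W eW).hom.toAlgebra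
    (Function.Bijective ((CohBC.bc0 f g f' g' h.w F).app W) ↔
        Function.Bijective (FlatCxLib.theta P (-((0 : ℕ) : ℤ)) Γ(S', W))) ∧
      (Function.Surjective ((CohBC.bc0 f g f' g' h.w F).app W) ↔
        Function.Surjective (FlatCxLib.theta P (-((0 : ℕ) : ℤ)) Γ(S', W))) := by
  letI := (g.appLE V W eW).hom.toAlgebra
  obtain ⟨Ψ₀, Ψ, hΨ, hbc⟩ := exists_bc0Model h F hV hW eW hP
  haveI : ((Scheme.Modules.pushforward f).obj F).IsQuasicoherent := M1.isQCoh_push f hF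
  obtain ⟨e, he⟩ := exists_pullEquiv g ((Scheme.Modules.pushforward f).obj F) eW hV hW
  let d : FlatCxLib.H P (-((0 : ℕ) : ℤ)) ⊗[Γ(S, V)] Γ(S', W) ≃+
      Γ((Scheme.Modules.pullback g).obj ((Scheme.Modules.pushforward f).obj F), W) :=
    ((TensorProduct.congr Ψ₀ (LinearEquiv.refl Γ(S, V) Γ(S', W))).toAddEquiv.trans
      (TensorProduct.comm Γ(S, V) _ _).toAddEquiv).trans e.toAddEquiv
  have key : ⇑((CohBC.bc0 f g f' g' h.w F).app W) ∘ ⇑d =
      ⇑Ψ ∘ ⇑(FlatCxLib.theta P (-((0 : ℕ) : ℤ)) Γ(S', W)) := by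
    funext x
    simp only [Function.comp_apply]
    induction x using TensorProduct.induction_on with
    | zero => simp only [map_zero]
    | add a b ha hb => simp only [map_add, ha, hb]
    | tmul z c =>
      show (CohBC.bc0 f g f' g' h.w F).app W (e (c ⊗ₜ Ψ₀ z)) = _
      rw [he, Scheme.Modules.Hom.app_smul, FlatCxLib.theta_tmul]
      refine (congrArg (c • ·) (hbc z)).trans ((hΨ c _).symm.trans (congrArg Ψ ?_))
      have hc : LinearMap.toSpanSingleton Γ(S, V) Γ(S', W) c =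
          (LinearMap.mulLeft Γ(S, V) c).comp (Algebra.linearMap Γ(S, V) Γ(S', W)) :=
        LinearMap.ext fun a => by
          rw [LinearMap.comp_apply, LinearMap.toSpanSingleton_apply, Algebra.linearMap_apply,
            LinearMap.mulLeft_apply, Algebra.smul_def, mul_comm]
      rw [hc, FlatCxLib.Tmap_comp]
      rfl
  constructor
  · rw [← EquivLike.bijective_comp d, key]
    exact EquivLike.comp_bijective _ Ψ
  · rw [← EquivLike.surjective_comp d, key]
    exact EquivLike.comp_surjective _ Ψ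

theorem isIso_of_affine_basis {T : Scheme.{u}} {M N : T.Modules} (φ : M ⟶ N) (P : T.Opens → Prop)
    (hP : ∀ (O : T.Opens), ∀ z ∈ O, ∃ W, P W ∧ z ∈ W ∧ W ≤ O) (h : ∀ W, P W → Function.Bijective (φ.app W)) :
    IsIso φ := by
  haveI : IsIso ((SheafOfModules.toSheaf T.ringCatSheaf).map φ) := CohFound.isIso_of_bijective_basis _ P hP h
  haveI : IsIso ((SheafOfModules.toSheaf T.ringCatSheaf).map φ).hom :=
    inferInstanceAs (IsIso ((sheafToPresheaf _ _).map ((SheafOfModules.toSheaf T.ringCatSheaf).map φ)))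
  exact Scheme.Modules.Hom.isIso_iff_isIso_app.2 fun W => (ConcreteCategory.isIso_iff_bijective _).2
    (ConcreteCategory.bijective_of_isIso (((SheafOfModules.toSheaf T.ringCatSheaf).map φ).hom.app (op W)))

/-- Degree zero base change is an isomorphism where `Cok P (-1)` is flat. -/
theorem isIso_bc0 [IsSeparated f] [QuasiCompact f] (h : IsPullback g' f' f g) (F : X.Modules) [Coh.IsQCoh F]
    (hM : ∀ z : S', ∃ (V : S.Opens) (M : Model f F V), g z ∈ V ∧ M.FlatCok (-1)) :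
    IsIso (CohBC.bc0 f g f' g' h.w F) := by
  refine isIso_of_affine_basis _
    (fun W : S'.Opens => IsAffineOpen W ∧ ∃ (V : S.Opens) (M : Model f F V), W ≤ g ⁻¹ᵁ V ∧ M.FlatCok (-1))
    (fun O z hz => ?_) ?_
  · obtain ⟨V, M, hzV, hM⟩ := hM z
    obtain ⟨W, hW, hzW, hWle⟩ := Opens.isBasis_iff_nbhd.1 S'.isBasis_affineOpens
      (show z ∈ (O : S'.Opens) ⊓ g ⁻¹ᵁ V from ⟨hz, hzV⟩)
    exact ⟨W, ⟨hW, V, M, hWle.trans inf_le_right, hM⟩, hzW, hWle.trans inf_le_left⟩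
  · rintro W ⟨hW, V, M, eW, hM⟩
    letI := (g.appLE V W eW).hom.toAlgebra
    exact (bc0_app_iff h F M.isAffine hW eW M.computes).1.2
      (FlatCxLib.theta_bijective M.P _
        ((FlatCxLib.preservesEpi_iff M.P (q := -1) (by omega)).2 hM) _)

variable {s : S} {V : S.Opens} {F : X.Modules}

/-- The degree zero criterion at a fibre. -/
theorem Model.epi_fibre0_iff [IsProper f] [hF : Coh.IsQCoh F] (M : Model f F V) (hs : s ∈ V) :
    Epi (CohBC.bc0 f (S.fromSpecResidueField s) (f.fiberToSpecResidueField s) (f.fiberι s) (f.fiber_fac s) F) ↔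
      M.FreeAt (-1) s := by
  have h : IsPullback (f.fiberι s) (f.fiberToSpecResidueField s) f (S.fromSpecResidueField s) :=
    IsPullback.of_hasPullback _ _
  let g := S.fromSpecResidueField s
  have eW : (⊤ : (Spec (S.residueField s)).Opens) ≤ g ⁻¹ᵁ V := fun z _ => by
    show g z ∈ V
    rw [S.fromSpecResidueField_apply]
    exact hs
  haveI : Subsingleton (Spec (S.residueField s)) := inferInstanceAs (Subsingleton (PrimeSpectrum (S.residueField s)))
  rw [epi_iff_surjective_top]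
  letI a₀ := (g.appLE V ⊤ eW).hom.toAlgebra
  rw [(bc0_app_iff h F M.isAffine (isAffineOpen_top _) eW M.computes).2]
  exact M.theta_top_surjective_iff hs (sub_add_cancel (-((0 : ℕ) : ℤ)) 1) eW

end Groth.Agent.CBC10
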