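import Groth.Agent.Lib.CBC10.BcModel
import Groth.Agent.Lib.ModLimH13.Sections
import Groth.Agent.Lib.CohFound.RpushQCoh

/-!
# The base change map over affine opens is the comparison `H^p(P) ⊗ B → H^p(P ⊗ B)`
-/

set_option autoImplicit false
set_option linter.style.haveILetI false
set_option linter.unusedSectionVars false
set_option maxHeartbeats 1000000

universe u

open CategoryTheory CategoryTheory.Limits AlgebraicGeometry TopologicalSpace Opposite Groth.Agent.ModLimH13 TensorProduct

noncomputable section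

namespace Groth.Agent.CBC10

open CohFound in
attribute [-instance] abelianAb hasExtAb isGrothendieckAbelianAb enoughInjectivesAb

variable {X S X' S' : Scheme.{u}} {f : X ⟶ S} {g : S' ⟶ S} {f' : X' ⟶ S'} {g' : X' ⟶ X}
  [HasInjectiveResolutions X.Modules] [HasInjectiveResolutions X'.Modules]
  {Δ : RDer.DerivedLES (Scheme.Modules.pushforward f)} {Δ' : RDer.DerivedLES (Scheme.Modules.pushforward f')}
  {E : CohCmp.SectCmp f Δ} {E' : CohCmp.SectCmp f' Δ'}

/-- On affine opens the base change map is bijective, or surjective, exactly when the comparison of the complex is. -/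
theorem bc_app_iff [IsSeparated f] [QuasiCompact f] (h : IsPullback g' f' f g)
    (Bc : CohCmp.GenBC f g f' g' h.w E E') (F : X.Modules) [hF : Coh.IsQCoh F] {V : S.Opens} (hV : IsAffineOpen V)
    {W : S'.Opens} (hW : IsAffineOpen W) (eW : W ≤ g ⁻¹ᵁ V) {P : ChainComplex (ModuleCat.{u} Γ(S, V)) ℤ}
    (hP : ComputesOn f F hV P) (p : ℕ) :
    letI := (g.appLE V W eW).hom.toAlgebra
    (Function.Bijective ((Bc.bc p F).app W) ↔
        Function.Bijective (FlatCxLib.theta P (-(p : ℤ)) Γ(S', W))) ∧
      (Function.Surjective ((Bc.bc p F).app W) ↔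
        Function.Surjective (FlatCxLib.theta P (-(p : ℤ)) Γ(S', W))) := by
  letI := (g.appLE V W eW).hom.toAlgebra
  obtain ⟨Ψ₀, Ψ, hΨ, hbc⟩ := exists_bcModel h Bc F hV hW eW hP p
  haveI : ((Coh.Rpush f p).obj F).IsQuasicoherent := CohFound.isQCoh_rpush f hF p
  obtain ⟨e, he⟩ := exists_pullEquiv g ((Coh.Rpush f p).obj F) eW hV hW
  let d : FlatCxLib.H P (-(p : ℤ)) ⊗[Γ(S, V)] Γ(S', W) ≃+
      Γ((Scheme.Modules.pullback g).obj ((Coh.Rpush f p).obj F), W) :=
    ((TensorProduct.congr Ψ₀ (LinearEquiv.refl Γ(S, V) Γ(S', W))).toAddEquiv.trans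
      (TensorProduct.comm Γ(S, V) _ _).toAddEquiv).trans e.toAddEquiv
  have key : ⇑((Bc.bc p F).app W) ∘ ⇑d = ⇑Ψ ∘ ⇑(FlatCxLib.theta P (-(p : ℤ)) Γ(S', W)) := by
    funext x
    simp only [Function.comp_apply]
    induction x using TensorProduct.induction_on with
    | zero => simp only [map_zero]
    | add a b ha hb => simp only [map_add, ha, hb]
    | tmul z c =>
      show (Bc.bc p F).app W (e (c ⊗ₜ Ψ₀ z)) = _
      rw [he, Scheme.Modules.Hom.app_smul, FlatCxLib.theta_tmul]
      refine (congrArg (c • ·) (hbc z)).trans ((hΨ c _).symm.trans (congrArg Ψ ?_))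
      have hc : LinearMap.toSpanSingleton Γ(S, V) Γ(S', W) c =
          (LinearMap.mulLeft Γ(S, V) c).comp (Algebra.linearMap Γ(S, V) Γ(S', W)) :=
        LinearMap.ext fun a => by
          rw [LinearMap.comp_apply, LinearMap.toSpanSingleton_apply, Algebra.linearMap_apply,
            LinearMap.mulLeft_apply, Algebra.smul_def, mul_comm]
      rw [hc, FlatCxLib.Tmap_comp]
      rfl
  constructor
  · rw [← EquivLike.bijective_comp d, key]
    exact EquivLike.comp_bijective _ Ψ
  · rw [← EquivLike.surjective_comp d, key]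
    exact EquivLike.comp_surjective _ Ψ

end Groth.Agent.CBC10
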