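import Groth.Agent.Lib.FlatCx.Corep
import Groth.Agent.Lib.FlatCx.Cochain
import Groth.Agent.Lib.FlatCx.Fiber
import Groth.Agent.Lib.CBC10.FlatExact
import Mathlib.LinearAlgebra.TensorProduct.Tower

/-!
# Complexes flat over a ring below the coefficient ring

For a complex of `A`-modules which are flat over `C`, flatness over `C` of the cokernel makes the comparison
`H_p(P) ⊗_A M → H_p(P ⊗_A M)` bijective for the modules `M` extended from `C`.
-/

set_option autoImplicit false
set_option linter.unusedSectionVars false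
set_option linter.style.haveILetI false

universe u

open CategoryTheory Groth.Agent.FlatCxLib
open scoped TensorProduct

noncomputable section

namespace Groth.Agent.CBC10

/-- An extension of flat modules is flat. -/
theorem flat_of_extension {R K F Q : Type u} [CommRing R] [AddCommGroup K] [Module R K] [AddCommGroup F]
    [Module R F] [AddCommGroup Q] [Module R Q] [Module.Flat R K] [Module.Flat R Q] (i : K →ₗ[R] F)
    (hi : Function.Injective i) (p : F →ₗ[R] Q) (hip : Function.Exact i p) (hp : Function.Surjective p) :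
    Module.Flat R F := by
  rw [Module.Flat.iff_lTensor_preserves_injective_linearMap]
  intro N N' _ _ _ _ g hg
  refine (injective_iff_map_eq_zero _).2 fun x hx => ?_
  have hp0 : p.rTensor N x = 0 := Module.Flat.lTensor_preserves_injective_linearMap (M := Q) g hg <| by
    rw [map_zero, ← LinearMap.comp_apply, LinearMap.lTensor_comp_rTensor, ← LinearMap.rTensor_comp_lTensor,
      LinearMap.comp_apply, hx, map_zero]
  obtain ⟨k, rfl⟩ := (rTensor_exact N hip hp x).1 hp0
  have hk : g.lTensor K k = 0 := (LinearMap.lTensor_inj_iff_rTensor_inj N' i).1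
    (LinearMap.lTensor_injective_of_exact_of_flat p hp i hi hip N') <| by
      rw [map_zero, ← LinearMap.comp_apply, LinearMap.rTensor_comp_lTensor, ← LinearMap.lTensor_comp_rTensor,
        LinearMap.comp_apply, hx]
  rw [Module.Flat.lTensor_preserves_injective_linearMap (M := K) g hg (hk.trans (map_zero _).symm), map_zero]

variable {C A : Type u} [CommRing C] [CommRing A] [Algebra C A]

/-- `X ⊗_A (A ⊗_C N) = X ⊗_C N`, naturally. -/
theorem cancel_rTensor {X Y : Type u} [AddCommGroup X] [Module A X] [Module C X] [IsScalarTower C A X]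
    [AddCommGroup Y] [Module A Y] [Module C Y] [IsScalarTower C A Y] (f : X →ₗ[A] Y)
    (N : Type u) [AddCommGroup N] [Module C N] (z : X ⊗[A] (A ⊗[C] N)) :
    TensorProduct.AlgebraTensorModule.cancelBaseChange C A A Y N (f.rTensor (A ⊗[C] N) z) =
      (f.restrictScalars C).rTensor N (TensorProduct.AlgebraTensorModule.cancelBaseChange C A A X N z) := by
  induction z using TensorProduct.induction_on with
  | zero => simp only [map_zero]
  | add a b ha hb => simp only [map_add, ha, hb]
  | tmul x y =>
    induction y using TensorProduct.induction_on with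
    | zero => simp only [TensorProduct.tmul_zero, map_zero]
    | add a b ha hb => simp only [TensorProduct.tmul_add, map_add, ha, hb]
    | tmul a n =>
      rw [LinearMap.rTensor_tmul, TensorProduct.AlgebraTensorModule.cancelBaseChange_tmul,
        TensorProduct.AlgebraTensorModule.cancelBaseChange_tmul, LinearMap.rTensor_tmul,
        LinearMap.restrictScalars_apply, map_smul]

theorem injective_rTensor_tower {X Y : Type u} [AddCommGroup X] [Module A X] [Module C X] [IsScalarTower C A X]
    [AddCommGroup Y] [Module A Y] [Module C Y] [IsScalarTower C A Y] (f : X →ₗ[A] Y)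
    (N : Type u) [AddCommGroup N] [Module C N] (h : Function.Injective ((f.restrictScalars C).rTensor N)) :
    Function.Injective (f.rTensor (A ⊗[C] N)) := fun a b hab => by
  have := congrArg (TensorProduct.AlgebraTensorModule.cancelBaseChange C A A Y N) hab
  rw [cancel_rTensor, cancel_rTensor] at this
  exact (TensorProduct.AlgebraTensorModule.cancelBaseChange C A A X N).injective (h this)

/-- A map with flat cokernel has cycles which commute with the modules extended from `C`. -/
theorem cycles_tower {X Y : Type u} [AddCommGroup X] [Module A X] [Module C X] [IsScalarTower C A X]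
    [AddCommGroup Y] [Module A Y] [Module C Y] [IsScalarTower C A Y] [Module.Flat C Y] (f : X →ₗ[A] Y)
    [Module.Flat C (Y ⧸ LinearMap.range f)] (N : Type u) [AddCommGroup N] [Module C N] :
    Function.Injective ((LinearMap.ker f).subtype.rTensor (A ⊗[C] N)) ∧
      ∀ x, f.rTensor (A ⊗[C] N) x = 0 → ∃ s, (LinearMap.ker f).subtype.rTensor (A ⊗[C] N) s = x := by
  let m : Y →ₗ[C] Y ⧸ LinearMap.range f := (LinearMap.range f).mkQ.restrictScalars C
  have hm : Function.Surjective m := (LinearMap.range f).mkQ_surjective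
  haveI : Module.Flat C (LinearMap.ker m) := flat_ker_of_surjective hm
  let r : X →ₗ[C] LinearMap.ker m :=
    (f.restrictScalars C).codRestrict _ fun x => (Submodule.Quotient.mk_eq_zero _).2 ⟨x, rfl⟩
  have hr : Function.Surjective r := fun y => by
    obtain ⟨x, hx⟩ := LinearMap.mem_range.1 ((Submodule.Quotient.mk_eq_zero _).1 y.2)
    exact ⟨x, Subtype.ext hx⟩
  let i : LinearMap.ker f →ₗ[C] X := (LinearMap.ker f).subtype.restrictScalars C
  have hi : Function.Injective i := Submodule.injective_subtype _
  have hex : Function.Exact i r := fun x =>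
    ⟨fun hx => ⟨⟨x, congrArg Subtype.val hx⟩, rfl⟩, fun ⟨z, hz⟩ => Subtype.ext ((congrArg f hz.symm).trans z.2)⟩
  refine ⟨injective_rTensor_tower _ N ((LinearMap.lTensor_inj_iff_rTensor_inj N i).1
    (LinearMap.lTensor_injective_of_exact_of_flat r hr i hi hex N)), fun x hx => ?_⟩
  have hI : Function.Injective ((LinearMap.ker m).subtype.rTensor N) :=
    (LinearMap.lTensor_inj_iff_rTensor_inj N _).1 (LinearMap.lTensor_injective_of_exact_of_flat m hm _
      (Submodule.injective_subtype _) (LinearMap.exact_subtype_ker_map m) N)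
  have h0 : r.rTensor N (TensorProduct.AlgebraTensorModule.cancelBaseChange C A A X N x) = 0 := hI <| by
    rw [map_zero, ← LinearMap.rTensor_comp_apply]
    refine (cancel_rTensor f N x).symm.trans ?_
    rw [hx, map_zero]
  obtain ⟨s, hs⟩ := (rTensor_exact N hex hr _).1 h0
  refine ⟨(TensorProduct.AlgebraTensorModule.cancelBaseChange C A A (LinearMap.ker f) N).symm s, ?_⟩
  apply (TensorProduct.AlgebraTensorModule.cancelBaseChange C A A X N).injective
  rw [cancel_rTensor, LinearEquiv.apply_symm_apply]
  exact hs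

section Theta

variable (P : ChainComplex (ModuleCat.{u} A) ℤ) {p q : ℤ} (h : q + 1 = p)

/-- A cycle of `P` gives a cycle of `P ⊗_A M`. -/
lemma tmul_mem_ker (M : Type u) [AddCommGroup M] [Module A M] (z : LinearMap.ker (dl P p q)) (m : M) :
    z.1 ⊗ₜ[A] m ∈ LinearMap.ker (dl (CohIII.tensorObj P (ModuleCat.of A M)) p q) :=
  ((congrArg (· ⊗ₜ[A] m) z.2).trans (TensorProduct.zero_tmul _ m) :)

/-- The class of a cycle in `T_p(A)`. -/
def kappa : LinearMap.ker (dl P p q) →ₗ[A] H P p :=
  cls (CohIII.tensorObj P (ModuleCat.of A A)) h ∘ₗ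
    ((TensorProduct.rid A (P.X p)).symm.toLinearMap ∘ₗ (LinearMap.ker (dl P p q)).subtype).codRestrict _
      fun z => tmul_mem_ker P A z 1

lemma kappa_apply (z : LinearMap.ker (dl P p q)) :
    kappa P h z = cls (CohIII.tensorObj P (ModuleCat.of A A)) h ⟨z.1 ⊗ₜ 1, tmul_mem_ker P A z 1⟩ := rfl

lemma kappa_surjective : Function.Surjective (kappa P h) := fun t => by
  obtain ⟨⟨w, hw⟩, rfl⟩ := cls_surjective _ h t
  obtain ⟨z, rfl⟩ := (TensorProduct.rid A (P.X p)).symm.surjective w
  have hz : dl P p q z = 0 := by
    have := congrArg (TensorProduct.rid A (P.X q)) (show (dl P p q).rTensor A (z ⊗ₜ 1) = 0 from hw)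
    simpa using this
  exact ⟨⟨z, hz⟩, rfl⟩

lemma kappa_eq_zero_iff (z : LinearMap.ker (dl P p q)) :
    kappa P h z = 0 ↔ ∃ y, dl P (p + 1) p y = z.1 := by
  refine (cls_eq_zero_iff _ h _).trans ⟨?_, ?_⟩
  · rintro ⟨y, hy⟩
    obtain ⟨w, rfl⟩ := (TensorProduct.rid A (P.X (p + 1))).symm.surjective y
    have := congrArg (TensorProduct.rid A (P.X p)) (show (dl P (p + 1) p).rTensor A (w ⊗ₜ 1) = z.1 ⊗ₜ 1 from hy)
    exact ⟨w, by simpa using this⟩
  · rintro ⟨y, hy⟩
    exact ⟨y ⊗ₜ 1, (congrArg (· ⊗ₜ[A] (1 : A)) hy :)⟩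

variable (M : Type u) [AddCommGroup M] [Module A M]

lemma ker_rTensor_le (s : LinearMap.ker (dl P p q) ⊗[A] M) :
    (LinearMap.ker (dl P p q)).subtype.rTensor M s ∈
      LinearMap.ker (dl (CohIII.tensorObj P (ModuleCat.of A M)) p q) := by
  show (dl P p q).rTensor M ((LinearMap.ker (dl P p q)).subtype.rTensor M s) = 0
  rw [← LinearMap.rTensor_comp_apply, LinearMap.comp_ker_subtype, LinearMap.rTensor_zero, LinearMap.zero_apply]

lemma theta_kappa (s : LinearMap.ker (dl P p q) ⊗[A] M) :
    FlatCxLib.theta P p M ((kappa P h).rTensor M s) =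
      cls (CohIII.tensorObj P (ModuleCat.of A M)) h
        (((LinearMap.ker (dl P p q)).subtype.rTensor M).codRestrict _ (ker_rTensor_le P M) s) := by
  induction s using TensorProduct.induction_on with
  | zero =>
    simp only [map_zero]
    exact (map_zero _).symm
  | add a b ha hb =>
    simp only [map_add, ha, hb]
    exact (map_add _ _ _).symm
  | tmul z m =>
    have hm : (LinearMap.toSpanSingleton A M m).lTensor (P.X p) (z.1 ⊗ₜ (1 : A)) = z.1 ⊗ₜ m := by simp
    rw [LinearMap.rTensor_tmul, FlatCxLib.theta_tmul, kappa_apply]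
    refine (Tmap_cls P (LinearMap.toSpanSingleton A M m) h ⟨z.1 ⊗ₜ 1, tmul_mem_ker P A z 1⟩
      (by show (LinearMap.toSpanSingleton A M m).lTensor (P.X p) (z.1 ⊗ₜ (1 : A)) ∈ _
          rw [hm]
          exact tmul_mem_ker P M z m)).trans ?_
    exact congrArg _ (Subtype.ext hm)

include h in
/-- The comparison is bijective when the cycles commute with `⊗ M`. -/
theorem theta_bijective_of_cycles
    (hinj : Function.Injective ((LinearMap.ker (dl P p q)).subtype.rTensor M))
    (hsur : ∀ x, (dl P p q).rTensor M x = 0 → ∃ s, (LinearMap.ker (dl P p q)).subtype.rTensor M s = x) :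
    Function.Bijective (FlatCxLib.theta P p M) := by
  refine ⟨(injective_iff_map_eq_zero _).2 fun t ht => ?_, fun t => ?_⟩
  · obtain ⟨s, rfl⟩ := LinearMap.rTensor_surjective M (kappa_surjective P h) t
    rw [theta_kappa] at ht
    obtain ⟨y, hy⟩ := (cls_eq_zero_iff _ h _).1 ht
    let d' : P.X (p + 1) →ₗ[A] LinearMap.ker (dl P p q) :=
      (dl P (p + 1) p).codRestrict _ fun w => dl_dl P _ _ _ w
    have hd : kappa P h ∘ₗ d' = 0 := LinearMap.ext fun w => (kappa_eq_zero_iff P h _).2 ⟨w, rfl⟩
    have hs : d'.rTensor M y = s := hinj <| by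
      rw [← LinearMap.rTensor_comp_apply]
      exact hy
    rw [← hs, ← LinearMap.rTensor_comp_apply, hd, LinearMap.rTensor_zero, LinearMap.zero_apply]
  · obtain ⟨⟨x, hx⟩, rfl⟩ := cls_surjective _ h t
    obtain ⟨s, rfl⟩ := hsur x hx
    exact ⟨(kappa P h).rTensor M s, theta_kappa P h M s⟩

include h in
/-- The homology is the kernel of the differential out of the cokernel. -/
theorem exists_kerDbarEquiv : Nonempty (LinearMap.ker (dbar P p q) ≃ₗ[A] H P p) := by
  let η : LinearMap.ker (dl P p q) →ₗ[A] LinearMap.ker (dbar P p q) :=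
    ((LinearMap.range (dl P (p + 1) p)).mkQ ∘ₗ (LinearMap.ker (dl P p q)).subtype).codRestrict _ fun z => z.2
  have hη : Function.Surjective η := fun x => by
    obtain ⟨w, hw⟩ := (LinearMap.range (dl P (p + 1) p)).mkQ_surjective x.1
    exact ⟨⟨w, by
      have := x.2
      rw [← hw] at this
      exact this⟩, Subtype.ext hw⟩
  have hk : LinearMap.ker η = LinearMap.ker (kappa P h) := by
    ext z
    rw [LinearMap.mem_ker, LinearMap.mem_ker, kappa_eq_zero_iff, Subtype.ext_iff]
    exact (Submodule.Quotient.mk_eq_zero _).trans LinearMap.mem_range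
  exact ⟨(η.quotKerEquivOfSurjective hη).symm.trans ((Submodule.quotEquivOfEq _ _ hk).trans
    ((kappa P h).quotKerEquivOfSurjective (kappa_surjective P h)))⟩

end Theta

variable (P : ChainComplex (ModuleCat.{u} A) ℤ) [∀ i, Module C (P.X i)] [∀ i, IsScalarTower C A (P.X i)]
  [∀ i, Module.Flat C (P.X i)]

section Step

variable {p q : ℤ} (h : q + 1 = p)

include h in
lemma range_dl_eq : LinearMap.range (dl P p q) = LinearMap.ker (LinearMap.range (dl P (q + 1) q)).mkQ := by
  subst h
  rw [Submodule.ker_mkQ]

include h in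
/-- With a flat cokernel below, the image of the differential is flat. -/
theorem flat_range_dl [Module.Flat C (Cok P q)] : Module.Flat C (LinearMap.range (dl P p q)) := by
  rw [range_dl_eq P h]
  haveI := flat_ker_of_surjective (A := C) (f := (LinearMap.range (dl P (q + 1) q)).mkQ.restrictScalars C)
    (LinearMap.range (dl P (q + 1) q)).mkQ_surjective
  exact ‹Module.Flat C (LinearMap.ker ((LinearMap.range (dl P (q + 1) q)).mkQ.restrictScalars C))›

include h in
/-- With a flat cokernel below, the comparison at the modules extended from `C` is bijective. -/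
theorem theta_bijective_tower [Module.Flat C (Cok P q)] (N : Type u) [AddCommGroup N] [Module C N] :
    Function.Bijective (FlatCxLib.theta P p (A ⊗[C] N)) := by
  subst h
  obtain ⟨h1, h2⟩ := cycles_tower (C := C) (dl P (q + 1) q) N
  exact theta_bijective_of_cycles P rfl _ h1 h2

include h in
/-- The inductive step for flatness of cokernels. -/
theorem flat_cok_succ [Module.Flat C (Cok P q)] [Module.Flat C (LinearMap.ker (dbar P p q))] :
    Module.Flat C (Cok P p) := by
  haveI := flat_range_dl (C := C) P h
  let g : Cok P p →ₗ[A] LinearMap.range (dl P p q) :=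
    (dbar P p q).codRestrict _ fun x => by
      obtain ⟨w, rfl⟩ := (LinearMap.range (dl P (p + 1) p)).mkQ_surjective x
      exact ⟨w, rfl⟩
  refine flat_of_extension ((LinearMap.ker (dbar P p q)).subtype.restrictScalars C) (Submodule.injective_subtype _)
    (g.restrictScalars C) (fun x => ⟨fun hx => ⟨⟨x, congrArg Subtype.val hx⟩, rfl⟩, fun ⟨z, hz⟩ =>
      Subtype.ext ((congrArg (dbar P p q) hz.symm).trans z.2)⟩) ?_
  rintro ⟨_, w, rfl⟩
  exact ⟨Submodule.Quotient.mk w, Subtype.ext rfl⟩

include h in
/-- Exactness after tensoring with the modules extended from `C` makes the cokernel flat. -/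
theorem flat_cok_of_univExact
    (hu : ∀ (N : Type u) [AddCommGroup N] [Module C N] (x : P.X p ⊗[A] (A ⊗[C] N)),
      (dl P p q).rTensor _ x = 0 → ∃ y, (dl P (p + 1) p).rTensor _ y = x) :
    Module.Flat C (Cok P p) := by
  refine flat_of_pure ((dbar P p q).restrictScalars C) fun N _ _ => (injective_iff_map_eq_zero _).2 fun z hz => ?_
  obtain ⟨x, rfl⟩ := LinearMap.rTensor_surjective N
    (show Function.Surjective ((LinearMap.range (dl P (p + 1) p)).mkQ.restrictScalars C) from
      (LinearMap.range (dl P (p + 1) p)).mkQ_surjective) z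
  rw [← LinearMap.rTensor_comp_apply] at hz
  obtain ⟨x, rfl⟩ := (TensorProduct.AlgebraTensorModule.cancelBaseChange C A A (P.X p) N).surjective x
  obtain ⟨y, rfl⟩ := hu N x (by
    apply (TensorProduct.AlgebraTensorModule.cancelBaseChange C A A (P.X q) N).injective
    rw [cancel_rTensor, map_zero]
    exact hz)
  rw [cancel_rTensor, ← LinearMap.rTensor_comp_apply]
  have : ((LinearMap.range (dl P (p + 1) p)).mkQ.restrictScalars C) ∘ₗ ((dl P (p + 1) p).restrictScalars C) = 0 :=
    LinearMap.ext fun w => (Submodule.Quotient.mk_eq_zero _).2 ⟨w, rfl⟩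
  rw [this, LinearMap.rTensor_zero, LinearMap.zero_apply]

end Step

/-- Flat homology and exactness in low degrees make every cokernel flat over `C`. -/
theorem flat_cok_all {i₀ : ℤ}
    (hu : ∀ p < i₀, ∀ (N : Type u) [AddCommGroup N] [Module C N] (x : P.X p ⊗[A] (A ⊗[C] N)),
      (dl P p (p - 1)).rTensor _ x = 0 → ∃ y, (dl P (p + 1) p).rTensor _ y = x)
    (hH : ∀ p q : ℤ, q + 1 = p → Module.Flat C (LinearMap.ker (dbar P p q))) (p : ℤ) :
    Module.Flat C (Cok P p) := by
  suffices ∀ n : ℕ, ∀ p < i₀ + n, Module.Flat C (Cok P p) from this (p - i₀ + 1).toNat p (by omega)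
  intro n
  induction n with
  | zero => exact fun p hp => flat_cok_of_univExact P (sub_add_cancel p 1) (hu p (by omega))
  | succ n ih =>
    intro p hp
    haveI := ih (p - 1) (by omega)
    haveI := hH p (p - 1) (sub_add_cancel p 1)
    exact flat_cok_succ P (sub_add_cancel p 1)

end Groth.Agent.CBC10
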