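import Groth.Agent.Lib.CBC10.BcApp
import Groth.Agent.Lib.CBC10.FlatOver

/-!
# The Čech complex computes, over any base
-/

set_option autoImplicit false
set_option linter.style.haveILetI false
set_option linter.unusedSectionVars false
set_option maxHeartbeats 1000000

universe u

open CategoryTheory CategoryTheory.Limits AlgebraicGeometry TopologicalSpace Opposite Groth.Agent.FlatCxLib

noncomputable section

namespace Groth.Agent.CBC10

open Groth.Agent.CohFound

attribute [local instance] secA

section Affine

variable {A : Type u} [CommRing A] {X : Scheme.{u}} [X.Over (Spec (CommRingCat.of A))]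
  {ι : Type u} [Finite ι] {U : ι → X.Opens} (hcov : (⊤ : X.Opens) ≤ iSup U)
  (hU : ∀ (n : ℕ) (a : Fin (n + 1) → ι), IsAffineOpen (tupOpen (X := sp X) U a)) {F : X.Modules}

include hcov hU in
/-- The Čech complex computes the cohomology. -/
theorem computes_down_K (hF : Coh.IsQCoh F) : Computes A F (down (K A U F)) := by
  refine ⟨fun p M => ((downIso (K A U F) p).app M).toLinearEquiv.trans (tEquiv hcov hU hF M p),
    fun p M M' g x => ?_⟩
  refine Eq.trans (congrArg (tEquiv hcov hU hF M' p) ?_)
    (tEquiv_natural hcov hU hF g p (((downIso (K A U F) p).app M).toLinearEquiv x))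
  exact ConcreteCategory.congr_hom ((downIso (K A U F) p).hom.naturality g) x

omit [Finite ι] in
lemma subsingleton_down_K {p : ℤ} (hp : 0 < p) : Subsingleton ((down (K A U F)).X p) :=
  ModuleCat.subsingleton_of_isZero (isZero_K_of_neg A U F (-p) (by omega))

/-- Universal exactness, on the chain complex. -/
lemma exact_down_of_univExactAt (L : CochainComplex (ModuleCat.{u} A) ℤ) {p : ℤ} (h : UnivExactAt L (-p))
    (M : Type u) [AddCommGroup M] [Module A M] (x : TensorProduct A ((down L).X p) M)
    (hx : (dl (down L) p (p - 1)).rTensor M x = 0) :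
    ∃ y, (dl (down L) (p + 1) p).rTensor M y = x := by
  have key : ∀ j k : ℤ, j = -p - 1 → k = -p + 1 → ∀ x : TensorProduct A (L.X (-p)) M,
      (cd L (-p) k).rTensor M x = 0 → ∃ y, (cd L j (-p)).rTensor M y = x := by
    rintro j k rfl rfl x hx
    exact h M x hx
  exact key (-(p + 1)) (-(p - 1)) (by omega) (by omega) x hx

/-- The ring below acts on the terms, through the coefficient ring. -/
abbrev moduleBelow (C : Type u) [CommRing C] [Algebra C A] (M : Type u) [AddCommGroup M] [Module A M] :
    Module C M := Module.compHom M (algebraMap C A)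

lemma flat_down_K (C : Type u) [CommRing C] [Algebra C A]
    (hfl : ∀ (n : ℕ) (a : Fin (n + 1) → ι),
      letI := moduleBelow (A := A) C Γ(F, tupOpen (X := sp X) U a)
      Module.Flat C Γ(F, tupOpen (X := sp X) U a)) (p : ℤ) :
    letI := moduleBelow (A := A) C ((down (K A U F)).X p)
    Module.Flat C ((down (K A U F)).X p) := by
  suffices ∀ j : ℤ, letI := moduleBelow (A := A) C ((K A U F).X j); Module.Flat C ((K A U F).X j) from this (-p)
  classical
  intro j
  letI := moduleBelow (A := A) C ((K A U F).X j)
  cases j with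
  | negSucc m =>
    haveI : Subsingleton ((K A U F).X (Int.negSucc m)) := inferInstanceAs (Subsingleton PUnit.{u + 1})
    infer_instance
  | ofNat n =>
    haveI := Fintype.ofFinite (Fin (n + 1) → ι)
    letI := fun a : Fin (n + 1) → ι => moduleBelow (A := A) C Γ(F, tupOpen (X := sp X) U a)
    haveI := hfl n
    haveI : Module.Flat C (∀ a : Fin (n + 1) → ι, Γ(F, tupOpen (X := sp X) U a)) :=
      Module.Flat.of_linearEquiv
        (DirectSum.linearEquivFunOnFintype C (Fin (n + 1) → ι) fun a => Γ(F, tupOpen (X := sp X) U a)).symm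
    exact ‹Module.Flat C (∀ a : Fin (n + 1) → ι, Γ(F, tupOpen (X := sp X) U a))›

end Affine

section Transfer

/-- The comparison only depends on the module up to isomorphism. -/
theorem theta_bijective_congr {A : Type u} [CommRing A] (P : ChainComplex (ModuleCat.{u} A) ℤ) (p : ℤ)
    {M N : Type u} [AddCommGroup M] [Module A M] [AddCommGroup N] [Module A N] (e : M ≃ₗ[A] N)
    (h : Function.Bijective (FlatCxLib.theta P p M)) : Function.Bijective (FlatCxLib.theta P p N) := by
  have e2 : ∀ {M N : Type u} [AddCommGroup M] [Module A M] [AddCommGroup N] [Module A N] (e : M ≃ₗ[A] N) x,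
      Tmap P p e.symm.toLinearMap (Tmap P p e.toLinearMap x) = x := fun {M N} _ _ _ _ e x => by
    rw [← LinearMap.comp_apply, ← Tmap_comp, LinearEquiv.comp_coe, LinearEquiv.self_trans_symm,
      LinearEquiv.refl_toLinearMap, Tmap_id]
    rfl
  let t : CohIII.T P p (ModuleCat.of A M) ≃ CohIII.T P p (ModuleCat.of A N) :=
    ⟨Tmap P p e.toLinearMap, Tmap P p e.symm.toLinearMap, e2 e, fun y => by simpa using e2 e.symm y⟩
  have key : ⇑(FlatCxLib.theta P p N) ∘ ⇑(LinearEquiv.lTensor (H P p) e) = ⇑t ∘ ⇑(FlatCxLib.theta P p M) :=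
    funext fun x => FlatCxLib.theta_natural P p e.toLinearMap x
  rw [← EquivLike.bijective_comp (LinearEquiv.lTensor (H P p) e), key]
  exact t.bijective.comp h

end Transfer

end Groth.Agent.CBC10
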