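import Groth.Agent.Lib.CBC10.Pullback
import Groth.Agent.Lib.ModM1.Push

/-!
# The Čech complex of the direct image of a base change

For a cartesian square over `Spec A ← Spec B` and `φ : g^* F ≅ N`, the Čech complex of `g_* N` is `K(F) ⊗_A B`, and
the map `F ⟶ g_* N` is `z ↦ z ⊗ 1`.
-/

set_option autoImplicit false
set_option linter.style.haveILetI false
set_option linter.unusedSectionVars false
set_option maxHeartbeats 1000000

universe u

open CategoryTheory CategoryTheory.Limits AlgebraicGeometry TopologicalSpace Opposite TensorProduct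

noncomputable section

namespace Groth.Agent.CBC10

open Groth.Agent.CohFound

variable {A B : Type u} [CommRing A] [CommRing B] [Algebra A B] {X X' : Scheme.{u}}
  [X.Over (Spec (CommRingCat.of A))] [X'.Over (Spec (CommRingCat.of B))] [X'.Over (Spec (CommRingCat.of A))]

attribute [local instance] secA

variable {g : X' ⟶ X} {ι : Type u} (U : ι → X.Opens) (h : Sq (A := A) (B := B) g) {F : X.Modules} {N : X'.Modules}
  (φ : (Scheme.Modules.pullback g).obj F ≅ N)

/-- The map `F ⟶ g_* N` transposed to `φ`. -/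
abbrev unitTo : F ⟶ (Scheme.Modules.pushforward g).obj N :=
  (Scheme.Modules.pullbackPushforwardAdjunction g).unit.app F ≫ (Scheme.Modules.pushforward g).map φ.hom

lemma unitTo_app (W : X.Opens) (s : Γ(F, W)) :
    (unitTo φ).app W s = φ.hom.app (g ⁻¹ᵁ W) (eta g F (le_refl (g ⁻¹ᵁ W)) s) :=
  congrArg (φ.hom.app (g ⁻¹ᵁ W)) (M1.mres_id ((Scheme.Modules.pullback g).obj F) le_rfl _).symm

lemma push_secA (h : Sq (A := A) (B := B) g) (W : X.Opens) (a : A) (t : Γ(N, g ⁻¹ᵁ W)) :
    (a • (show Γ((Scheme.Modules.pushforward g).obj N, W) from t)) = (ρ A (g ⁻¹ᵁ W) a • t : Γ(N, g ⁻¹ᵁ W)) := by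
  rw [secA_smul]
  show g.app W (ρ A W a) • t = _
  rw [← ρ_comap h (le_refl (g ⁻¹ᵁ W)) a, Scheme.Hom.app_eq_appLE]

variable (F) in
/-- `s ⊗ b ↦ b • φ(g^* s)`. -/
def chiW (W : X.Opens) : Γ(F, W) ⊗[A] B →ₗ[A] Γ((Scheme.Modules.pushforward g).obj N, W) where
  toFun z := φ.hom.app (g ⁻¹ᵁ W) (chi h F le_rfl z)
  map_add' a b := by
    rw [map_add, map_add]
    rfl
  map_smul' a z := by
    rw [map_smul, RingHom.id_apply]
    exact (Scheme.Modules.Hom.app_smul φ.hom _ _).trans (push_secA h W a _).symm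

lemma chiW_one (W : X.Opens) (s : Γ(F, W)) : chiW h F φ W (s ⊗ₜ 1) = (unitTo φ).app W s := by
  rw [unitTo_app]
  refine congrArg (φ.hom.app (g ⁻¹ᵁ W)) ?_
  rw [chi_tmul, map_one, one_smul]

lemma chiW_mul (W : X.Opens) (c : B) (z : Γ(F, W) ⊗[A] B) :
    chiW h F φ W ((LinearMap.mulLeft A c).lTensor Γ(F, W) z) =
      ((Scheme.Modules.pushforward g).map (Formal.smulMod B N c)).app W (chiW h F φ W z) := by
  refine ((congrArg (φ.hom.app (g ⁻¹ᵁ W)) ((chi_mul h F _ c z).trans (smulMod_app B _ c _ _))).trans ?_).trans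
    (smulMod_app B N c _ _).symm
  exact Scheme.Modules.Hom.app_smul φ.hom _ _

/-- Degree `n`. -/
def chiPL (n : ℕ) : (∀ a : Fin (n + 1) → ι, Γ(F, tupOpen (X := sp X) U a)) ⊗[A] B →ₗ[A]
    ∀ a : Fin (n + 1) → ι, Γ((Scheme.Modules.pushforward g).obj N, tupOpen (X := sp X) U a) :=
  LinearMap.pi fun a => (chiW h F φ (tupOpen (X := sp X) U a)) ∘ₗ
    (LinearMap.proj (R := A) (φ := fun a : Fin (n + 1) → ι => Γ(F, tupOpen (X := sp X) U a)) a).rTensor B

lemma chiPL_tmul (n : ℕ) (x : ∀ a : Fin (n + 1) → ι, Γ(F, tupOpen (X := sp X) U a)) (b : B)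
    (a : Fin (n + 1) → ι) : chiPL U h φ n (x ⊗ₜ b) a = chiW h F φ (tupOpen (X := sp X) U a) (x a ⊗ₜ b) := rfl

lemma chiW_res {W V : X.Opens} (hV : V ≤ W) (z : Γ(F, W) ⊗[A] B) :
    chiW h F φ V ((resL A F hV).rTensor B z) =
      resL A ((Scheme.Modules.pushforward g).obj N) hV (chiW h F φ W z) := by
  refine (congrArg (φ.hom.app (g ⁻¹ᵁ V)) (chi_res h F (le_refl (g ⁻¹ᵁ W)) (le_refl (g ⁻¹ᵁ V)) hV
    (g.preimage_mono hV) z)).trans ?_
  exact M1.app_mres φ.hom (g.preimage_mono hV) (chi h F (le_refl (g ⁻¹ᵁ W)) z)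

lemma chiPL_dL (n : ℕ) (z : (∀ a : Fin (n + 1) → ι, Γ(F, tupOpen (X := sp X) U a)) ⊗[A] B) :
    chiPL U h φ (n + 1) ((dL A U F n).rTensor B z) =
      dL A U ((Scheme.Modules.pushforward g).obj N) n (chiPL U h φ n z) := by
  induction z using TensorProduct.induction_on with
  | zero => simp only [map_zero]
  | add a b ha hb => simp only [map_add, ha, hb]
  | tmul x m =>
    funext a
    rw [LinearMap.rTensor_tmul, chiPL_tmul, dL_apply, dL_apply, TensorProduct.sum_tmul, map_sum]
    refine Finset.sum_congr rfl fun i _ => ?_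
    rw [← TensorProduct.smul_tmul', map_zsmul, chiPL_tmul]
    exact congrArg _ (chiW_res h φ (tupOpen_le (X := sp X) U a i) (x (a ∘ i.succAbove) ⊗ₜ m))

/-- All degrees. -/
def chiPF : ∀ i : ℤ, (CohIII.tensorObj (K A U F) (ModuleCat.of A B)).X i ⟶
    KX A U ((Scheme.Modules.pushforward g).obj N) i
  | .ofNat n => ModuleCat.ofHom (chiPL U h φ n)
  | .negSucc _ => 0

/-- `K(F) ⊗_A B ⟶ K(g_* N)`. -/
def chiP : CohIII.tensorObj (K A U F) (ModuleCat.of A B) ⟶ K A U ((Scheme.Modules.pushforward g).obj N) where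
  f := chiPF U h φ
  comm' i j hij := by
    obtain rfl : i + 1 = j := hij
    have h1 : (K A U F).d i (i + 1) = Kd A U F i := CochainComplex.of_d (KX A U F) (Kd A U F) i
    have h2 : (K A U ((Scheme.Modules.pushforward g).obj N)).d i (i + 1) = Kd A U _ i :=
      CochainComplex.of_d (KX A U _) (Kd A U _) i
    cases i with
    | negSucc m =>
      haveI : Subsingleton ((CohIII.tensorObj (K A U F) (ModuleCat.of A B)).X (Int.negSucc m)) :=
        haveI : Subsingleton ((K A U F).X (Int.negSucc m)) := inferInstanceAs (Subsingleton PUnit.{u + 1})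
        inferInstanceAs (Subsingleton ((K A U F).X (Int.negSucc m) ⊗[A] B))
      exact (ModuleCat.isZero_of_subsingleton _).eq_of_src _ _
    | ofNat n =>
      change chiPF U h φ (Int.ofNat n) ≫
          (K A U ((Scheme.Modules.pushforward g).obj N)).d (Int.ofNat n) (Int.ofNat n + 1) =
        (MonoidalCategory.tensorRight (ModuleCat.of A B)).map ((K A U F).d (Int.ofNat n) (Int.ofNat n + 1)) ≫
          chiPF U h φ (Int.ofNat n + 1)
      rw [h1, h2]
      exact ModuleCat.hom_ext (LinearMap.ext fun z => (chiPL_dL U h φ n z).symm)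

variable [Finite ι]

theorem chiPL_bijective (hF : Coh.IsQCoh F)
    (hU : ∀ (n : ℕ) (a : Fin (n + 1) → ι), IsAffineOpen (tupOpen (X := sp X) U a)) [IsAffineHom g] (n : ℕ) :
    Function.Bijective (chiPL U h φ n) := by
  classical
  haveI := Fintype.ofFinite (Fin (n + 1) → ι)
  let e := (TensorProduct.piLeft A B (fun a : Fin (n + 1) → ι => Γ(F, tupOpen (X := sp X) U a))).trans
    (LinearEquiv.piCongrRight fun a => LinearEquiv.ofBijective (chiW h F φ (tupOpen (X := sp X) U a))
      ((ConcreteCategory.bijective_of_isIso (φ.hom.app (g ⁻¹ᵁ tupOpen (X := sp X) U a))).comp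
        (bijective_chi h hF (hU n a) ((hU n a).preimage g) rfl)))
  have : ∀ z, chiPL U h φ n z = e z := fun z => by
    induction z using TensorProduct.induction_on with
    | zero => rw [map_zero, map_zero]
    | add a b ha hb => rw [map_add, map_add, ha, hb]
    | tmul x m =>
      funext a
      rw [chiPL_tmul]
      simp [e]
      rfl
  rw [show ⇑(chiPL U h φ n) = ⇑e from funext this]
  exact e.bijective

theorem isIso_chiP (hF : Coh.IsQCoh F)
    (hU : ∀ (n : ℕ) (a : Fin (n + 1) → ι), IsAffineOpen (tupOpen (X := sp X) U a)) [IsAffineHom g] :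
    IsIso (chiP U h φ) := by
  haveI : ∀ i, IsIso ((chiP U h φ).f i) := fun i => by
    cases i with
    | negSucc m =>
      haveI : Subsingleton ((K A U F).X (Int.negSucc m)) := inferInstanceAs (Subsingleton PUnit.{u + 1})
      exact isIso_of_source_target_iso_zero _
        (@ModuleCat.isZero_of_subsingleton _ _ ((CohIII.tensorObj (K A U F) (ModuleCat.of A B)).X (Int.negSucc m))
          (inferInstanceAs (Subsingleton ((K A U F).X (Int.negSucc m) ⊗[A] B)))).isoZero
        (isZero_K_of_neg A U _ _ (Int.negSucc_lt_zero m)).isoZero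
    | ofNat n =>
      rw [ConcreteCategory.isIso_iff_bijective]
      exact chiPL_bijective U h φ hF hU n
  exact HomologicalComplex.Hom.isIso_of_components _

lemma chiPL_mul (n : ℕ) (c : B) (z : (∀ a : Fin (n + 1) → ι, Γ(F, tupOpen (X := sp X) U a)) ⊗[A] B)
    (a : Fin (n + 1) → ι) :
    chiPL U h φ n ((LinearMap.mulLeft A c).lTensor _ z) a =
      ((Scheme.Modules.pushforward g).map (Formal.smulMod B N c)).app _ (chiPL U h φ n z a) := by
  induction z using TensorProduct.induction_on with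
  | zero =>
    rw [map_zero, map_zero, Pi.zero_apply]
    exact (map_zero _).symm
  | add x y hx hy =>
    rw [map_add, map_add, Pi.add_apply, hx, hy, map_add, Pi.add_apply]
    exact (map_add _ _ _).symm
  | tmul x b =>
    rw [LinearMap.lTensor_tmul, chiPL_tmul, chiPL_tmul]
    exact chiW_mul h φ _ c (x a ⊗ₜ b)

lemma chiPL_unit (n : ℕ) (z : (∀ a : Fin (n + 1) → ι, Γ(F, tupOpen (X := sp X) U a)) ⊗[A] A)
    (a : Fin (n + 1) → ι) :
    chiPL U h φ n ((Algebra.linearMap A B).lTensor _ z) a =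
      (unitTo φ).app _ ((TensorProduct.rid A (∀ a : Fin (n + 1) → ι, Γ(F, tupOpen (X := sp X) U a)) z) a) := by
  induction z using TensorProduct.induction_on with
  | zero =>
    rw [map_zero, map_zero, map_zero, Pi.zero_apply, Pi.zero_apply]
    exact (map_zero _).symm
  | add x y hx hy =>
    rw [map_add, map_add, map_add, Pi.add_apply, Pi.add_apply, hx, hy]
    exact (map_add _ _ _).symm
  | tmul x c =>
    rw [LinearMap.lTensor_tmul, chiPL_tmul, TensorProduct.rid_tmul, Pi.smul_apply, Algebra.linearMap_apply,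
      Algebra.algebraMap_eq_smul_one, TensorProduct.tmul_smul, TensorProduct.smul_tmul']
    exact chiW_one h φ _ (c • x a)

theorem chiP_mul (c : B) :
    CohIII.tensorMap (K A U F) (ModuleCat.ofHom (LinearMap.mulLeft A c)) ≫ chiP U h φ =
      chiP U h φ ≫ Kmap A U ((Scheme.Modules.pushforward g).map (Formal.smulMod B N c)) := by
  apply HomologicalComplex.hom_ext
  intro i
  cases i with
  | negSucc m => exact (isZero_K_of_neg A U _ _ (Int.negSucc_lt_zero m)).eq_of_tgt _ _
  | ofNat n => exact ModuleCat.hom_ext (LinearMap.ext fun z => funext fun a => chiPL_mul U h φ n c z a)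

/-- `z ↦ z ⊗ 1` is the map into the direct image. -/
theorem chiP_unit :
    CohIII.tensorMap (K A U F) (ModuleCat.ofHom (Algebra.linearMap A B)) ≫ chiP U h φ =
      ((NatIso.mapHomologicalComplex (MonoidalCategory.rightUnitorNatIso (ModuleCat.{u} A))
          (ComplexShape.up ℤ)).app (K A U F) ≪≫ (Functor.mapHomologicalComplexIdIso _ _).app (K A U F)).hom ≫
        Kmap A U (unitTo φ) := by
  apply HomologicalComplex.hom_ext
  intro i
  cases i with
  | negSucc m => exact (isZero_K_of_neg A U _ _ (Int.negSucc_lt_zero m)).eq_of_tgt _ _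
  | ofNat n => exact ModuleCat.hom_ext (LinearMap.ext fun z => funext fun a => chiPL_unit U h φ n z a)

end Groth.Agent.CBC10
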