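import Groth.Agent.Lib.DMod.Homology
import Groth.Agent.Lib.CohFound.PushFin
import Mathlib.Algebra.Homology.ShortComplex.Ab

/-!
# Classes of cycles, elementwise
-/

set_option autoImplicit false

universe u v w w'

open CategoryTheory CategoryTheory.Limits

noncomputable section

namespace Groth.Agent.CBC10

section Ab

variable {ι : Type w} {c : ComplexShape ι} (K : HomologicalComplex AddCommGrpCat.{u} c)

lemma ab_iCycles_injective (j : ι) : Function.Injective (K.iCycles j) :=
  (AddCommGrpCat.mono_iff_injective _).1 inferInstance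

lemma ab_d_iCycles (j k : ι) (z : K.cycles j) : K.d j k (K.iCycles j z) = 0 :=
  ConcreteCategory.congr_hom (K.iCycles_d j k) z

lemma ab_exists_cycle {j k : ι} (hk : c.next j = k) (x : K.X j) (hx : K.d j k x = 0) :
    ∃ z : K.cycles j, K.iCycles j z = x := by
  subst hk
  refine ⟨(K.sc j).abCyclesIso.inv ⟨x, hx⟩, ?_⟩
  exact (K.sc j).abCyclesIso_inv_apply_iCycles ⟨x, hx⟩

lemma ab_homologyπ_eq_zero_iff {i j : ι} (hi : c.prev j = i) (z : K.cycles j) :
    K.homologyπ j z = 0 ↔ ∃ y : K.X i, K.d i j y = K.iCycles j z := by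
  have hex : (ShortComplex.mk (K.toCycles i j) (K.homologyπ j) (K.toCycles_comp_homologyπ i j)).Exact :=
    ShortComplex.exact_of_g_is_cokernel _ (K.homologyIsCokernel i j hi)
  rw [ShortComplex.ab_exact_iff] at hex
  constructor
  · intro h
    obtain ⟨y, hy⟩ := hex z h
    exact ⟨y, by rw [← hy]; exact (ConcreteCategory.congr_hom (K.toCycles_i i j) y).symm⟩
  · rintro ⟨y, hy⟩
    have : K.toCycles i j y = z :=
      ab_iCycles_injective K j ((ConcreteCategory.congr_hom (K.toCycles_i i j) y).trans hy)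
    rw [← this]
    exact ConcreteCategory.congr_hom (K.toCycles_comp_homologyπ i j) y

/-- Cycles, as a subgroup. -/
abbrev Zg (j k : ι) : AddSubgroup (K.X j) := (K.d j k).hom.ker

variable {i j k : ι} (hi : c.prev j = i) (hk : c.next j = k)

/-- Cycles as the kernel of the differential. -/
def cyclesZg : K.cycles j ≃+ Zg K j k :=
  AddEquiv.ofBijective ((K.iCycles j).hom.codRestrict _ fun z => ab_d_iCycles K j k z)
    ⟨fun _ _ e => ab_iCycles_injective K j (congrArg Subtype.val e), fun x => by
      obtain ⟨z, hz⟩ := ab_exists_cycle K hk x.1 x.2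
      exact ⟨z, Subtype.ext hz⟩⟩

lemma iCycles_cyclesZg_symm (x : Zg K j k) : K.iCycles j ((cyclesZg K hk).symm x) = x.1 :=
  congrArg Subtype.val ((cyclesZg K hk).apply_symm_apply x)

/-- The class of a cycle. -/
def clsG : Zg K j k →+ K.homology j :=
  (K.homologyπ j).hom.comp (cyclesZg K hk).symm.toAddMonoidHom

lemma clsG_surjective : Function.Surjective (clsG K hk) :=
  ((AddCommGrpCat.epi_iff_surjective (K.homologyπ j)).1 inferInstance).comp (cyclesZg K hk).symm.surjective

include hi in
lemma clsG_eq_zero_iff (x : Zg K j k) : clsG K hk x = 0 ↔ ∃ y, K.d i j y = x.1 :=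
  (ab_homologyπ_eq_zero_iff K hi _).trans (exists_congr fun _ => Eq.congr_right (iCycles_cyclesZg_symm K hk x))

lemma clsG_natural {L : HomologicalComplex AddCommGrpCat.{u} c} (f : K ⟶ L) (x : Zg K j k) (x' : Zg L j k)
    (h : x'.1 = f.f j x.1) :
    HomologicalComplex.homologyMap f j (clsG K hk x) = clsG L hk x' := by
  refine (ConcreteCategory.congr_hom (HomologicalComplex.homologyπ_naturality f j) _).trans ?_
  refine congrArg (L.homologyπ j) (ab_iCycles_injective L j ?_)
  refine (ConcreteCategory.congr_hom (HomologicalComplex.cyclesMap_i f j) _).trans ?_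
  refine Eq.trans (congrArg (f.f j) (iCycles_cyclesZg_symm K hk x)) ?_
  exact h.symm.trans (iCycles_cyclesZg_symm L hk x').symm

end Ab

section Mod

variable {R : Type u} [Ring R] {ι : Type w} {c : ComplexShape ι} (K : HomologicalComplex (ModuleCat.{v} R) c)

/-- Cycles, as a submodule. -/
abbrev Zm (j k : ι) : Submodule R (K.X j) := LinearMap.ker (K.d j k).hom

variable {i j k : ι} (hi : c.prev j = i) (hk : c.next j = k)

/-- Cycles as the kernel of the differential. -/
def cyclesZm : K.cycles j ≃ₗ[R] Zm K j k :=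
  LinearEquiv.ofBijective ((K.iCycles j).hom.codRestrict _ fun z => DMod.d_iCycles j k z)
    ⟨fun _ _ e => DMod.iCycles_injective K j (congrArg Subtype.val e), fun x => by
      obtain ⟨z, hz⟩ := DMod.exists_cycle hk x.1 x.2
      exact ⟨z, Subtype.ext hz⟩⟩

lemma iCycles_cyclesZm_symm (x : Zm K j k) : K.iCycles j ((cyclesZm K hk).symm x) = x.1 :=
  congrArg Subtype.val ((cyclesZm K hk).apply_symm_apply x)

/-- The class of a cycle. -/
def clsM : Zm K j k →ₗ[R] K.homology j :=
  (K.homologyπ j).hom.comp (cyclesZm K hk).symm.toLinearMap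

lemma clsM_surjective : Function.Surjective (clsM K hk) :=
  (DMod.homologyπ_surjective K j).comp (cyclesZm K hk).symm.surjective

include hi in
lemma clsM_eq_zero_iff (x : Zm K j k) : clsM K hk x = 0 ↔ ∃ y, K.d i j y = x.1 :=
  (DMod.homologyπ_eq_zero_iff hi _).trans (exists_congr fun _ => Eq.congr_right (iCycles_cyclesZm_symm K hk x))

lemma clsM_natural {L : HomologicalComplex (ModuleCat.{v} R) c} (f : K ⟶ L) (x : Zm K j k) (x' : Zm L j k)
    (h : x'.1 = f.f j x.1) :
    HomologicalComplex.homologyMap f j (clsM K hk x) = clsM L hk x' := by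
  refine (DMod.homologyMap_π f j _).trans ?_
  refine congrArg (L.homologyπ j) (DMod.iCycles_injective L j ?_)
  refine (DMod.iCycles_cyclesMap f j _).trans ?_
  refine Eq.trans (congrArg (f.f j) (iCycles_cyclesZm_symm K hk x)) ?_
  exact h.symm.trans (iCycles_cyclesZm_symm L hk x').symm

end Mod

section Descend

variable {G G' H H' : Type u} [AddCommGroup G] [AddCommGroup G'] [AddCommGroup H] [AddCommGroup H']
  {S : AddSubgroup G} {S' : AddSubgroup G'} (p : S →+ H) (p' : S' →+ H') (B : Set G) (B' : Set G')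

/-- An equivalence of terms matching cycles and boundaries gives one on classes. -/
theorem exists_clsEquiv (hp : Function.Surjective p) (hp' : Function.Surjective p')
    (h0 : ∀ x, p x = 0 ↔ x.1 ∈ B) (h0' : ∀ x, p' x = 0 ↔ x.1 ∈ B')
    (e : G ≃+ G') (hS : ∀ x, x ∈ S ↔ e x ∈ S') (hB : ∀ x, x ∈ B ↔ e x ∈ B') :
    ∃ ε : H ≃+ H', ∀ (x : S) (x' : S'), x'.1 = e x.1 → ε (p x) = p' x' := by
  let eS : S ≃+ S' :=
    { toFun := fun x => ⟨e x.1, (hS _).1 x.2⟩
      invFun := fun x => ⟨e.symm x.1, (hS _).2 (by rw [AddEquiv.apply_symm_apply]; exact x.2)⟩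
      left_inv := fun x => Subtype.ext (e.symm_apply_apply _)
      right_inv := fun x => Subtype.ext (e.apply_symm_apply _)
      map_add' := fun x y => Subtype.ext (map_add e _ _) }
  obtain ⟨ε, hε⟩ := CohFound.exists_descend p p' hp hp' eS
    fun x => (h0 x).trans ((hB x.1).trans (h0' (eS x)).symm)
  refine ⟨ε, fun x x' h => (hε x).trans (congrArg p' (Subtype.ext ?_))⟩
  exact h.symm

end Descend

end Groth.Agent.CBC10
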