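import Groth.Agent.Lib.CBC10.PullOn

/-!
# Composition of pullbacks of classes, on sections
-/

set_option autoImplicit false
set_option linter.style.haveILetI false
set_option maxHeartbeats 2000000

universe u

open CategoryTheory AlgebraicGeometry TopologicalSpace Opposite

noncomputable section

namespace Groth.Agent.CBC10

open CohFound in
attribute [-instance] abelianAb hasExtAb isGrothendieckAbelianAb enoughInjectivesAb

/-- Two pullbacks compose to the pullback by the composite on sections. -/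
theorem pullF_comp_mod {X Y Z : Scheme.{u}} (k₂ : Z ⟶ X) (k₁ : X ⟶ Y) {k : Z ⟶ Y} (hk : k₂ ≫ k₁ = k)
    {M : Y.Modules} {N : X.Modules} {P : Z.Modules} (a : M ⟶ (Scheme.Modules.pushforward k₁).obj N)
    (b : N ⟶ (Scheme.Modules.pushforward k₂).obj P) (c : M ⟶ (Scheme.Modules.pushforward k).obj P)
    (hc : ∀ (W : Y.Opens) (V : Z.Opens) (_ : V = k ⁻¹ᵁ W) (h₁ : k ⁻¹ᵁ W ≤ k₂ ⁻¹ᵁ (k₁ ⁻¹ᵁ W)) (s : Γ(M, W)),
      c.app W s = M1.mres P h₁ (b.app (k₁ ⁻¹ᵁ W) (a.app W s)))
    (p : ℕ) (x : Coh.HH Y M p) :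
    pullF k₂.base (abMap k₂ b) p (pullF k₁.base (abMap k₁ a) p x) = pullF k.base (abMap k c) p x := by
  subst hk
  refine (pullF_comp k₁.base k₂.base (abMap k₁ a) (abMap k₂ b) p x).trans ?_
  refine congrArg (fun t => pullF (k₂ ≫ k₁).base t p x) ?_
  apply CategoryTheory.Sheaf.hom_ext
  refine NatTrans.ext (funext fun W => AddCommGrpCat.ext fun s => ?_)
  exact ((hc W.unop _ rfl le_rfl s).trans (M1.mres_id P le_rfl _)).symm

end Groth.Agent.CBC10
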