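import Groth.Agent.Lib.CBC10.Fib
import Groth.Agent.Lib.CBC10.Crit2

/-!
# The functor of global sections is corepresentable
-/

set_option autoImplicit false
set_option linter.style.haveILetI false
set_option linter.unusedSectionVars false

universe u
open CategoryTheory CategoryTheory.Limits AlgebraicGeometry Opposite
noncomputable section
namespace Groth.Agent.CBC10
attribute [local instance] secA
open CohFound in
attribute [-instance] abelianAb hasExtAb isGrothendieckAbelianAb enoughInjectivesAb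
variable (A : Type u) [CommRing A] {X : Scheme.{u}} [X.Over (Spec (CommRingCat.of A))]

lemma globalSectionsA_smul (N : X.Modules) (a : A) (s : (CohIII.globalSectionsA A).obj N) :
    (Formal.smulMod A N a).app ⊤ (show Γ(N, ⊤) from s) = (show Γ(N, ⊤) from a • s) := by
  refine (smulMod_app A N a ⊤ _).trans ?_
  let r : Γ(X, ⊤) := (X ↘ Spec (CommRingCat.of A)).app ⊤
    ((Spec (CommRingCat.of A)).presheaf.map (𝟙 (op (⊤ : (Spec (CommRingCat.of A)).Opens)))
      ((Scheme.ΓSpecIso (CommRingCat.of A)).inv a))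
  have hr : ρ A ⊤ a = r := by
    show X.presheaf.map (𝟙 (op (⊤ : X.Opens))) ((X ↘ Spec (CommRingCat.of A)).appTop
      ((Scheme.ΓSpecIso (CommRingCat.of A)).inv a)) = r
    simp only [r, CategoryTheory.Functor.map_id]
    rfl
  exact (congrArg (fun (t : Γ(X, ⊤)) => t • (show Γ(N, ⊤) from s)) hr).trans rfl

/-- Global sections as degree zero cohomology, additively. -/
def gammaAdd (N : X.Modules) : (CohIII.globalSectionsA A).obj N ≃+ Coh.HH X N 0 :=
  (Sheaf.H.equiv₀ (Coh.toAb N) (isTerminalTop : IsTerminal (⊤ : X.Opens))).symm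

lemma gammaAdd_smul (N : X.Modules) (a : A) (s : (CohIII.globalSectionsA A).obj N) :
    gammaAdd A N (a • s) = a • gammaAdd A N s :=
  ((Sheaf.H.equiv₀_symm_naturality _ _ _).trans
    (congrArg (Sheaf.H.equiv₀ (Coh.toAb N) (isTerminalTop : IsTerminal (⊤ : X.Opens))).symm
      (globalSectionsA_smul A N a s))).symm

lemma gammaAdd_natural {N N' : X.Modules} (φ : N ⟶ N') (s : (CohIII.globalSectionsA A).obj N) :
    gammaAdd A N' ((CohIII.globalSectionsA A).map φ s) =
      Sheaf.H.map ((SheafOfModules.toSheaf X.ringCatSheaf).map φ) 0 (gammaAdd A N s) :=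
  (Sheaf.H.equiv₀_symm_naturality (isTerminalTop : IsTerminal (⊤ : X.Opens))
    ((SheafOfModules.toSheaf X.ringCatSheaf).map φ) (show Γ(N, ⊤) from s)).symm

/-- Global sections as degree zero cohomology. -/
def gammaEquiv (N : X.Modules) : (CohIII.globalSectionsA A).obj N ≃ₗ[A] Coh.HH X N 0 :=
  (gammaAdd A N).toLinearEquiv (gammaAdd_smul A N)

variable (F : X.Modules) [IsNoetherianRing A] [IsProper (X ↘ Spec (CommRingCat.of A))]

/-- `M ↦ Γ(X, F ⊗_A M)` is corepresented by a finite module. -/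
theorem exists_corep0 (hF : Coh.IsCoh F) (hfl : FlatMod.IsFlatOver (X ↘ Spec (CommRingCat.of A)) F) :
    ∃ Q : ModuleCat.{u} A, Module.Finite A Q ∧
      Nonempty (CohIII.tensorAFunctor A F ⋙ CohIII.globalSectionsA A ≅
        (linearCoyoneda A (ModuleCat.{u} A)).obj (op Q)) := by
  obtain ⟨P, hfin, hfree, _, hneg, e, he⟩ := exists_computes A F hF hfl
  haveI := hfin
  haveI := hfree
  haveI hproj : ∀ i, Module.Projective A (P.X i) := fun i => Module.Projective.of_free
  haveI hflat : ∀ i, Module.Flat A (P.X i) := fun i => Module.Flat.of_free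
  have hepi : (CohIII.TFun P 1).PreservesEpimorphisms :=
    ⟨fun {M N} g _ => (ModuleCat.epi_iff_surjective _).2 fun y => ⟨0, (hneg 1 one_pos N).elim _ _⟩⟩
  have hc : Module.Flat A (FlatCxLib.Cok P (-((0 : ℕ) : ℤ))) :=
    (FlatCxLib.preservesEpi_iff P (p := 1) (q := -((0 : ℕ) : ℤ)) (by simp)).1 hepi
  haveI := hc
  haveI := Module.finitePresentation_of_finite A (FlatCxLib.Cok P (-((0 : ℕ) : ℤ)))
  haveI : Module.Projective A (FlatCxLib.Cok P (-((0 : ℕ) : ℤ))) := Module.Flat.projective_of_finitePresentation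
  let κ := FlatCxLib.corepIso P (p := -((0 : ℕ) : ℤ)) (sub_add_cancel _ 1)
  let G := CohIII.tensorAFunctor A F ⋙ CohIII.globalSectionsA A
  let c : ∀ M, CohIII.T P (-((0 : ℕ) : ℤ)) M ≃ₗ[A] G.obj M := fun M =>
    ((e 0 M).trans (hmapLinEquiv A (tensorAIso A F M).symm 0)).trans
      (gammaEquiv A ((CohIII.tensorAFunctor A F).obj M)).symm
  have hnat : ∀ {M M' : ModuleCat.{u} A} (g : M ⟶ M') (x : CohIII.T P (-((0 : ℕ) : ℤ)) M),
      c M' ((CohIII.TFun P (-((0 : ℕ) : ℤ))).map g x) = G.map g (c M x) := fun {M M'} g x => by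
    refine (gammaEquiv A ((CohIII.tensorAFunctor A F).obj M')).injective
      (((gammaEquiv A _).apply_symm_apply _).trans ?_)
    refine Eq.trans ?_ (gammaAdd_natural A ((CohIII.tensorAFunctor A F).map g) (c M x)).symm
    refine Eq.trans (congrArg (hmapEquiv (tensorAIso A F M').symm 0) (he 0 g x)) ?_
    refine (hmap_square (tensorAIso A F M).symm (tensorAIso A F M').symm (psi A F g)
      ((CohIII.tensorAFunctor A F).map g) (psi_tensorAIso A F g) 0 (e 0 M x)).trans ?_
    exact congrArg (Sheaf.H.map _ 0) ((gammaEquiv A _).apply_symm_apply _).symm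
  let γ : CohIII.TFun P (-((0 : ℕ) : ℤ)) ≅ G :=
    NatIso.ofComponents (fun M => (c M).toModuleIso) fun g => ModuleCat.hom_ext (LinearMap.ext fun x => hnat g x)
  exact ⟨_, FlatCxLib.finite_of_corep P _ κ, ⟨γ.symm ≪≫ κ⟩⟩

end Groth.Agent.CBC10
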