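import Groth.Agent.Lib.FlatCx.Fiber
import Mathlib.LinearAlgebra.TensorProduct.Tower

/-!
# Complexes identified degreewise with a base change

If `P.X i ⊗_A B ≅ Q.X i` compatibly with the differentials, then `T_P(M) = T_Q(M)` for modules over `B`.
-/

set_option autoImplicit false
set_option linter.style.haveILetI false
set_option linter.unusedSectionVars false

universe u

open CategoryTheory TensorProduct Groth.Agent.DMod Groth.Agent.FlatCxLib

noncomputable section

namespace Groth.Agent.CBC10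

variable {A B : Type u} [CommRing A] [CommRing B] [Algebra A B]

/-- A degreewise identification of `Q` with `P ⊗_A B`. -/
structure BCData (P : ChainComplex (ModuleCat.{u} A) ℤ) (Q : ChainComplex (ModuleCat.{u} B) ℤ) where
  /-- the identification in degree `i` -/
  δ : ∀ i, P.X i ⊗[A] B ≃+ Q.X i
  dl_δ : ∀ (r i : ℤ) (x : P.X r ⊗[A] B), dl Q r i (δ r x) = δ i ((dl P r i).rTensor B x)
  δ_mul : ∀ (i : ℤ) (c : B) (x : P.X i ⊗[A] B),
    δ i ((LinearMap.mulLeft A c).lTensor (P.X i) x) = c • δ i x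

/-- The base change is identified with itself. -/
def BCData.self (P : ChainComplex (ModuleCat.{u} A) ℤ) : BCData P (CohIII.bcCx (algebraMap A B) P) :=
  ⟨fun i => degEquiv P B i, fun r i x => degEquiv_dl P B r i x, fun i c x => degEquiv_smul P B i c x⟩

variable {P : ChainComplex (ModuleCat.{u} A) ℤ} {Q : ChainComplex (ModuleCat.{u} B) ℤ} (D : BCData P Q)

/-- The `B`-linear form of the identification. -/
def BCData.δB (i : ℤ) : B ⊗[A] P.X i ≃ₗ[B] Q.X i :=
  { (TensorProduct.comm A B (P.X i)).toAddEquiv.trans (D.δ i) with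
    map_smul' := fun c z => by
      induction z using TensorProduct.induction_on with
      | zero =>
        simp only [smul_zero, AddEquiv.toEquiv_eq_coe, Equiv.toFun_as_coe, AddEquiv.coe_toEquiv, map_zero]
      | tmul b x => exact D.δ_mul i c (x ⊗ₜ b)
      | add a b ha hb =>
        simp only [AddEquiv.toEquiv_eq_coe, Equiv.toFun_as_coe, AddEquiv.coe_toEquiv] at ha hb ⊢
        rw [smul_add, map_add, map_add, ha, hb, smul_add] }

variable (M : Type u) [AddCommGroup M] [Module A M] [Module B M] [IsScalarTower A B M]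

/-- `P.X i ⊗_A M = Q.X i ⊗_B M`. -/
def BCData.eDeg (i : ℤ) : P.X i ⊗[A] M ≃+ Q.X i ⊗[B] M :=
  (((TensorProduct.comm A (P.X i) M).toAddEquiv.trans
    (AlgebraTensorModule.cancelBaseChange A B B M (P.X i)).symm.toAddEquiv).trans
      (TensorProduct.comm B M (B ⊗[A] P.X i)).toAddEquiv).trans
        (TensorProduct.congr (D.δB i) (LinearEquiv.refl B M)).toAddEquiv

lemma BCData.eDeg_tmul (i : ℤ) (x : P.X i) (m : M) :
    D.eDeg M i (x ⊗ₜ m) = D.δ i (x ⊗ₜ (1 : B)) ⊗ₜ m := rfl

lemma BCData.eDeg_dl (r i : ℤ) (z : P.X r ⊗[A] M) :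
    (dl Q r i).rTensor M (D.eDeg M r z) = D.eDeg M i ((dl P r i).rTensor M z) := by
  induction z using TensorProduct.induction_on with
  | zero => simp
  | tmul x m =>
    rw [BCData.eDeg_tmul, LinearMap.rTensor_tmul, LinearMap.rTensor_tmul, BCData.eDeg_tmul, D.dl_δ]
    rfl
  | add a b ha hb => simp only [map_add, ha, hb]

variable {M} in
lemma BCData.eDeg_map {N : Type u} [AddCommGroup N] [Module A N] [Module B N] [IsScalarTower A B N]
    (g : M →ₗ[B] N) (i : ℤ) (z : P.X i ⊗[A] M) :
    D.eDeg N i ((g.restrictScalars A).lTensor (P.X i) z) = g.lTensor (Q.X i) (D.eDeg M i z) := by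
  induction z using TensorProduct.induction_on with
  | zero => simp
  | tmul x m => rfl
  | add a b ha hb => simp only [map_add, ha, hb]

variable {p q : ℤ} (h : q + 1 = p)

/-- The class map into the other complex. -/
def BCData.kerTo : LinearMap.ker (dl (CohIII.tensorObj P (ModuleCat.of A M)) p q) →+
    CohIII.T Q p (ModuleCat.of B M) :=
  (cls (CohIII.tensorObj Q (ModuleCat.of B M)) h).toAddMonoidHom.comp
    { toFun := fun x => ⟨D.eDeg M p x.1,
        (D.eDeg_dl M p q x.1).trans ((congrArg (D.eDeg M q) x.2).trans (map_zero _))⟩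
      map_zero' := Subtype.ext (map_zero (D.eDeg M p))
      map_add' := fun a b => Subtype.ext (map_add (D.eDeg M p) a.1 b.1) }

theorem BCData.kerTo_surjective : Function.Surjective (D.kerTo M h) := by
  intro η
  obtain ⟨⟨y, hy⟩, rfl⟩ := cls_surjective _ h η
  refine ⟨⟨(D.eDeg M p).symm y, (D.eDeg M q).injective ?_⟩,
    congrArg (cls (CohIII.tensorObj Q (ModuleCat.of B M)) h) (Subtype.ext ((D.eDeg M p).apply_symm_apply y))⟩
  exact (D.eDeg_dl M p q _).symm.trans ((congrArg _ ((D.eDeg M p).apply_symm_apply y)).trans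
    (hy.trans (map_zero _).symm))

theorem BCData.kerTo_eq_zero_iff (x : LinearMap.ker (dl (CohIII.tensorObj P (ModuleCat.of A M)) p q)) :
    D.kerTo M h x = 0 ↔ cls (CohIII.tensorObj P (ModuleCat.of A M)) h x = 0 := by
  rw [cls_eq_zero_iff]
  refine (cls_eq_zero_iff _ h _).trans ⟨fun ⟨y, hy⟩ => ?_, fun ⟨y, hy⟩ => ?_⟩
  · refine ⟨(D.eDeg M (p + 1)).symm y, (D.eDeg M p).injective ?_⟩
    exact (D.eDeg_dl M (p + 1) p _).symm.trans ((congrArg _ ((D.eDeg M (p + 1)).apply_symm_apply y)).trans hy)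
  · exact ⟨D.eDeg M (p + 1) y, (D.eDeg_dl M (p + 1) p y).trans (congrArg _ hy)⟩

/-- `T_P(M) = T_Q(M)`. -/
def BCData.tEquivD : CohIII.T P p (ModuleCat.of A M) ≃+ CohIII.T Q p (ModuleCat.of B M) :=
  have e : (cls (CohIII.tensorObj P (ModuleCat.of A M)) h).toAddMonoidHom.ker = (D.kerTo M h).ker := by
    ext x; exact (D.kerTo_eq_zero_iff M h x).symm
  (QuotientAddGroup.quotientKerEquivOfSurjective (cls (CohIII.tensorObj P (ModuleCat.of A M)) h).toAddMonoidHom
      (cls_surjective _ h)).symm.trans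
    ((QuotientAddGroup.quotientAddEquivOfEq e).trans
      (QuotientAddGroup.quotientKerEquivOfSurjective (D.kerTo M h) (D.kerTo_surjective M h)))

theorem BCData.tEquivD_cls (x : LinearMap.ker (dl (CohIII.tensorObj P (ModuleCat.of A M)) p q)) :
    D.tEquivD M h (cls (CohIII.tensorObj P (ModuleCat.of A M)) h x) = D.kerTo M h x := by
  have e : (QuotientAddGroup.quotientKerEquivOfSurjective
      (cls (CohIII.tensorObj P (ModuleCat.of A M)) h).toAddMonoidHom (cls_surjective _ h)).symm
      (cls (CohIII.tensorObj P (ModuleCat.of A M)) h x) = QuotientAddGroup.mk x :=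
    (AddEquiv.symm_apply_eq _).2 rfl
  simp only [BCData.tEquivD, AddEquiv.trans_apply, e]
  rfl

variable {M} in
/-- Naturality in the module. -/
theorem BCData.tEquivD_natural {N : Type u} [AddCommGroup N] [Module A N] [Module B N] [IsScalarTower A B N]
    (g : M →ₗ[B] N) (z : CohIII.T P p (ModuleCat.of A M)) :
    D.tEquivD N h (Tmap P p (g.restrictScalars A) z) = Tmap Q p g (D.tEquivD M h z) := by
  obtain ⟨x, rfl⟩ := cls_surjective (CohIII.tensorObj P (ModuleCat.of A M)) h z
  have hx : (g.restrictScalars A).lTensor (P.X p) x.1 ∈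
      LinearMap.ker (dl (CohIII.tensorObj P (ModuleCat.of A N)) p q) :=
    (lTensor_dl P p q (g.restrictScalars A) x.1).trans ((congrArg _ x.2).trans (map_zero _))
  have hy : g.lTensor (Q.X p) (D.eDeg M p x.1) ∈
      LinearMap.ker (dl (CohIII.tensorObj Q (ModuleCat.of B N)) p q) :=
    (lTensor_dl Q p q g _).trans ((congrArg _
      ((D.eDeg_dl M p q x.1).trans ((congrArg (D.eDeg M q) x.2).trans (map_zero _)))).trans (map_zero _))
  rw [Tmap_cls P _ h x hx, BCData.tEquivD_cls, BCData.tEquivD_cls]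
  refine Eq.trans ?_ (Tmap_cls Q g h ⟨_, _⟩ hy).symm
  exact congrArg (cls (CohIII.tensorObj Q (ModuleCat.of B N)) h) (Subtype.ext (D.eDeg_map g p x.1))

end Groth.Agent.CBC10
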