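import Groth.Agent.Lib.CBC10.PullOn
import Groth.Agent.Lib.CohFound.RpushHc
import Groth.Agent.Lib.CohFound.QcohAffine

/-!
# Bijectivity of the edge map
-/

set_option autoImplicit false
set_option linter.style.haveILetI false
set_option linter.unusedSectionVars false
set_option maxHeartbeats 1000000

universe u

open CategoryTheory CategoryTheory.Limits AlgebraicGeometry TopologicalSpace Opposite Abelian

noncomputable section

namespace Groth.Agent.CBC10

open Groth.Agent.CohFound

attribute [-instance] abelianAb hasExtAb isGrothendieckAbelianAb enoughInjectivesAb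

section Top

variable {X Y : TopCat.{u}} (h : X ⟶ Y)

/-- The edge map is bijective when higher direct images vanish. -/
theorem bijective_edgeF_locKilled : ∀ (p : ℕ) (N : CohTop.Ab X),
    (∀ q < p, LocKilled h (q + 1) N) → Function.Bijective (edgeF h N p)
  | 0, N, _ => bijective_edgeF h (B := Set.univ) (Opens.isBasis_iff_nbhd.2 fun {_ _} hx => ⟨_, trivial, hx, le_rfl⟩) 0 N fun q hq => absurd hq (Nat.not_lt_zero q)
  | p + 1, N, hN => by
    have hS := injSC_shortExact N
    haveI : Injective (injSC N).X₂ := inferInstanceAs (Injective (Injective.under N))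
    have hS' : ((injSC N).map (CohTop.push h)).ShortExact :=
      shortExact_push_of_locKilled h hS (hN 0 (Nat.succ_pos _))
    haveI : Injective ((injSC N).map (CohTop.push h)).X₂ :=
      Injective.injective_of_adjoint (CohPull.invPushAdj h) (Injective.under N)
    have ihQ := bijective_edgeF_locKilled p (injSC N).X₃
      fun q hq => LocKilled.cokernel h (hN (q + 1) (by omega))
    have ihI : Function.Bijective (edgeF h (injSC N).X₂ p) :=
      bijective_edgeF_locKilled p _ fun q _ => locKilled_of_subsingleton h (q + 1) _ fun V =>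
        subsingleton_hc_injective (Injective.under N) q _
    have hd : ∀ y, edgeF h (injSC N).X₁ (p + 1) (y.comp hS'.extClass rfl) =
        (edgeF h (injSC N).X₃ p y).comp hS.extClass rfl := fun y =>
      pullF_delta h hS' hS (𝟙 _) p y
    constructor
    · refine (injective_iff_map_eq_zero _).2 fun x hx => ?_
      obtain ⟨y, rfl⟩ := Ext.covariant_sequence_exact₁ _ hS' x (Ext.eq_zero_of_injective _) (n₀ := p) rfl
      obtain ⟨z, hz⟩ := Ext.covariant_sequence_exact₃ _ hS (edgeF h (injSC N).X₃ p y) rfl
        ((hd y).symm.trans hx)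
      obtain ⟨z', rfl⟩ := ihI.2 z
      have : y = Sheaf.H.map ((CohTop.push h).map (injSC N).g) p z' :=
        ihQ.1 (hz.symm.trans (edgeF_map h (injSC N).g p z').symm)
      rw [this, Sheaf.H.map_apply]
      refine (Ext.comp_assoc_of_second_deg_zero _ _ _ _).trans ?_
      exact (congrArg (fun t => Ext.comp z' t rfl) hS'.comp_extClass).trans (Ext.comp_zero _ _ _ _ _)
    · intro x
      obtain ⟨y, rfl⟩ := Ext.covariant_sequence_exact₁ _ hS x (Ext.eq_zero_of_injective _) (n₀ := p) rfl
      obtain ⟨y', rfl⟩ := ihQ.2 y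
      exact ⟨y'.comp hS'.extClass rfl, hd y'⟩

end Top

variable {X Y : Scheme.{u}}

/-- The module edge map is `pullF` of the identity. -/
lemma pushEdge_eq (f : X ⟶ Y) (G : X.Modules) (p : ℕ) (x : Coh.HH Y ((Scheme.Modules.pushforward f).obj G) p) :
    CohPull.pushEdge f G p x = pullF f.base (abMap f (𝟙 ((Scheme.Modules.pushforward f).obj G))) p x := by
  refine (congrArg (CohPull.mapH ((Scheme.Modules.pullbackPushforwardAdjunction f).counit.app G) p)
    (pullMod_eq f _ p x)).trans ((mapH_pullF f _ _ p x).trans ?_)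
  exact congrArg (fun t => pullF f.base (abMap f t) p x)
    ((Scheme.Modules.pullbackPushforwardAdjunction f).right_triangle_components G)

lemma bijective_pushEdge_of_locKilled (f : X ⟶ Y) (G : X.Modules) (p : ℕ)
    (hG : ∀ q < p, LocKilled (f.base : sp X ⟶ sp Y) (q + 1) ((abF X).obj G)) :
    Function.Bijective (CohPull.pushEdge f G p) := by
  have h := bijective_edgeF_locKilled (f.base : sp X ⟶ sp Y) p ((abF X).obj G) hG
  have e : ⇑(CohPull.pushEdge f G p) = ⇑(edgeF (f.base : sp X ⟶ sp Y) ((abF X).obj G) p) := by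
    funext x
    refine (pushEdge_eq f G p x).trans ((pullF_eq_edgeF _ _ p x).trans (congrArg (edgeF _ _ p) ?_))
    exact (congrArg (fun t => Sheaf.H.map t p x) ((SheafOfModules.toSheaf _).map_id _)).trans
      (Sheaf.H.map_id_apply x)
  rw [e]
  exact h

/-- If the higher direct images of `G` vanish then the edge map is bijective. -/
theorem bijective_pushEdge_of_isZero (f : X ⟶ Y) [HasInjectiveResolutions X.Modules] (G : X.Modules) (p : ℕ)
    (hG : ∀ q : ℕ, 0 < q → IsZero ((Coh.Rpush f q).obj G)) :
    Function.Bijective (CohPull.pushEdge f G p) := by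
  refine bijective_pushEdge_of_locKilled f G p fun q _ => (isZero_rpush_succ_iff _ q _).1 ?_
  obtain ⟨e₁⟩ := nonempty_abF_rpush_iso_shPre f G (q + 1)
  obtain ⟨e₂⟩ := nonempty_rpush_iso_shPre (f.base : sp X ⟶ sp Y) ((abF X).obj G) (q + 1)
  exact (((abF Y).map_isZero (hG (q + 1) (Nat.succ_pos q))).of_iso e₁.symm).of_iso e₂

/-- The edge map of an affine morphism is bijective on quasi-coherent modules. -/
theorem bijective_pushEdge_isAffineHom (f : X ⟶ Y) [IsAffineHom f] (G : X.Modules) [G.IsQuasicoherent] (p : ℕ) :
    Function.Bijective (CohPull.pushEdge f G p) := by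
  refine bijective_pushEdge_of_locKilled f G p fun q _ V ξ y hy => ?_
  obtain ⟨W, hW, hyW, hWV⟩ := Opens.isBasis_iff_nbhd.1 Y.isBasis_affineOpens hy
  exact ⟨W, hWV, hyW, (subsingleton_hc_isAffineOpen G ((show IsAffineOpen (W : Y.Opens) from hW).preimage f) q).elim _ _⟩

end Groth.Agent.CBC10
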