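import Groth.Agent.Lib.CBC10.CechOn
import Groth.Agent.Lib.CohFound.Qcqs

/-!
# Families with flat cohomology
-/

set_option autoImplicit false
set_option linter.style.haveILetI false
set_option linter.unusedSectionVars false
set_option maxHeartbeats 1000000

universe u

open CategoryTheory CategoryTheory.Limits AlgebraicGeometry TopologicalSpace Groth.Agent.FlatCxLib

noncomputable section

namespace Groth.Agent.CBC10

variable (A : Type u) [CommRing A] (X : Scheme.{u}) [X.Over (Spec (CommRingCat.of A))]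
  [QuasiCompact (X ↘ Spec (CommRingCat.of A))] [IsSeparated (X ↘ Spec (CommRingCat.of A))] (F : X.Modules)

theorem compactSpace_over (A : Type u) [CommRing A] (X : Scheme.{u}) [X.Over (Spec (CommRingCat.of A))]
    [QuasiCompact (X ↘ Spec (CommRingCat.of A))] [IsSeparated (X ↘ Spec (CommRingCat.of A))] : CompactSpace X :=
  QuasiCompact.compactSpace_of_compactSpace (X ↘ Spec (CommRingCat.of A))

theorem isSeparated_over (A : Type u) [CommRing A] (X : Scheme.{u}) [X.Over (Spec (CommRingCat.of A))]
    [QuasiCompact (X ↘ Spec (CommRingCat.of A))] [IsSeparated (X ↘ Spec (CommRingCat.of A))] : X.IsSeparated := ⟨by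
  rw [← terminal.comp_from (X ↘ Spec (CommRingCat.of A))]
  infer_instance⟩

/-- With flat cohomology there is a computing complex of flat modules with flat cokernels. -/
theorem exists_computes_flatCok (hF : Coh.IsQCoh F) (hfl : FlatMod.IsFlatOver (X ↘ Spec (CommRingCat.of A)) F)
    (hH : ∀ p : ℕ, Module.Flat A (Coh.HH X F p)) :
    ∃ P : ChainComplex (ModuleCat.{u} A) ℤ, Computes A F P ∧ (∀ i, Module.Flat A (P.X i)) ∧
      ∀ p, Module.Flat A (Cok P p) := by
  haveI := compactSpace_over A X
  haveI := isSeparated_over A X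
  obtain ⟨ι, _, U, hcov, hU₀⟩ := exists_finite_affine_cover X
  have hU := isAffineOpen_tupOpen (U := U) hU₀
  let P := down (K A U F)
  have hP : Computes A F P := computes_down_K hcov hU hF
  haveI hfX : ∀ i : ℤ, Module.Flat A (P.X i) := fun i => flat_K hU hF hfl (-i)
  obtain ⟨d, hd⟩ := CohFound.exists_vanishing_bound_compact (X := X) (U := ⊤) isCompact_univ
  have hu := CBC10.univExactAt_K (A := A) hcov hU hF hd
  refine ⟨P, hP, hfX, flat_cok_all P (C := A) (i₀ := -(d : ℤ))
    (fun p hp N _ _ x hx => exact_down_of_univExactAt _ (hu (-p) (by omega)) _ x hx) fun p q hpq => ?_⟩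
  rcases lt_or_ge 0 p with hp | hp
  · haveI : Subsingleton (P.X p) := subsingleton_down_K hp
    infer_instance
  · obtain ⟨n, rfl⟩ := Int.exists_eq_neg_ofNat hp
    obtain ⟨e⟩ := exists_kerDbarEquiv P hpq
    obtain ⟨u₀⟩ := hP.exists_unit hF n
    haveI := hH n
    exact Module.Flat.of_linearEquiv (e.trans u₀)

/-- Cohomology with flat terms commutes with every base change. -/
theorem nonempty_baseChange (hF : Coh.IsQCoh F) (hfl : FlatMod.IsFlatOver (X ↘ Spec (CommRingCat.of A)) F)
    (hH : ∀ p : ℕ, Module.Flat A (Coh.HH X F p)) (B : Type u) [CommRing B] [Algebra A B] (n : ℕ)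
    {X' : Scheme.{u}} [X'.Over (Spec (CommRingCat.of B))] {g : X' ⟶ X}
    (h : IsPullback g (X' ↘ Spec (CommRingCat.of B)) (X ↘ Spec (CommRingCat.of A))
      (Spec.map (CommRingCat.ofHom (algebraMap A B)))) :
    Nonempty (Coh.HH X' ((Scheme.Modules.pullback g).obj F) n ≃+ TensorProduct A (Coh.HH X F n) B) := by
  haveI := compactSpace_over A X
  haveI := isSeparated_over A X
  obtain ⟨P, hP, hfX, hcok⟩ := exists_computes_flatCok A X F hF hfl hH
  haveI := hfX
  obtain ⟨ε, -⟩ := hP.exists_bc hF (B := B) h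
  obtain ⟨u₀⟩ := hP.exists_unit hF n
  have hθ := theta_bijective P _ ((preservesEpi_iff P (sub_add_cancel (-(n : ℤ)) 1)).2 (hcok _)) B
  exact ⟨((ε n).symm.trans (AddEquiv.ofBijective (FlatCxLib.theta P (-(n : ℤ)) B) hθ).symm).trans
    (TensorProduct.congr u₀ (LinearEquiv.refl A B)).toAddEquiv⟩

end Groth.Agent.CBC10
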