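import Groth.Agent.Lib.CBC10.DegEquiv
import Groth.Agent.Lib.CBC10.Pullback
import Groth.Agent.Lib.CBC10.Down

/-!
# The Čech complex of a base change is the base change of the Čech complex
-/

set_option autoImplicit false
set_option linter.style.haveILetI false
set_option linter.unusedSectionVars false
set_option maxHeartbeats 1000000

universe u

open CategoryTheory CategoryTheory.Limits AlgebraicGeometry TopologicalSpace Opposite TensorProduct

noncomputable section

namespace Groth.Agent.CBC10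

open Groth.Agent.CohFound

variable {A B : Type u} [CommRing A] [CommRing B] [Algebra A B] {X X' : Scheme.{u}}
  [X.Over (Spec (CommRingCat.of A))] [X'.Over (Spec (CommRingCat.of B))] [X'.Over (Spec (CommRingCat.of A))]

attribute [local instance] secA

variable {g : X' ⟶ X} {ι : Type u} [Finite ι] (U : ι → X.Opens) (U' : ι → X'.Opens)
  (h : Sq (A := A) (B := B) g) (hU' : ∀ i, U' i = g ⁻¹ᵁ U i) {F : X.Modules} {F' : X'.Modules}
  (i₀ : (Scheme.Modules.pullback g).obj F ≅ F') (hF : Coh.IsQCoh F)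
  (hU : ∀ (n : ℕ) (a : Fin (n + 1) → ι), IsAffineOpen (tupOpen (X := sp X) U a))
  (hV : ∀ (n : ℕ) (a : Fin (n + 1) → ι), IsAffineOpen (tupOpen (X := sp X') U' a))

/-- Degree `n`, forward map. -/
def kbcL (n : ℕ) : (∀ a : Fin (n + 1) → ι, Γ(F, tupOpen (X := sp X) U a)) ⊗[A] B →+
    ∀ a : Fin (n + 1) → ι, Γ(F', tupOpen (X := sp X') U' a) :=
  AddMonoidHom.mk' (fun z a => i₀.hom.app _ (chiL U U' h hU' F n z a)) fun z z' => funext fun a => by
    rw [map_add, Pi.add_apply, map_add]
    rfl

include hF hU hV in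
lemma kbcL_bijective (n : ℕ) : Function.Bijective (kbcL U U' h hU' i₀ n) := by
  have hb : ∀ W : X'.Opens, Function.Bijective (i₀.hom.app W) := fun W => ConcreteCategory.bijective_of_isIso _
  exact (Function.Bijective.piMap fun a => hb (tupOpen (X := sp X') U' a)).comp
    (chiL_bijective U U' h hU' hF hU hV n)

lemma kbcL_dL (n : ℕ) (z : (∀ a : Fin (n + 1) → ι, Γ(F, tupOpen (X := sp X) U a)) ⊗[A] B) :
    dL B U' F' n (kbcL U U' h hU' i₀ n z) = kbcL U U' h hU' i₀ (n + 1) ((dL A U F n).rTensor B z) := by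
  funext a
  refine (dL_apply B U' F' n _ a).trans ?_
  refine Eq.trans ?_ (congrArg (fun t => i₀.hom.app _ (t a)) (chiL_dL U U' h hU' F n z)).symm
  refine Eq.trans ?_ (congrArg (i₀.hom.app _) (dL_apply A U' _ n (chiL U U' h hU' F n z) a)).symm
  rw [map_sum]
  refine Finset.sum_congr rfl fun j _ => ?_
  rw [map_zsmul]
  exact congrArg _ (M1.app_mres i₀.hom (tupOpen_le (X := sp X') U' a j)
    (chiL U U' h hU' F n z (a ∘ j.succAbove))).symm

lemma kbcL_mul (n : ℕ) (c : B) (z : (∀ a : Fin (n + 1) → ι, Γ(F, tupOpen (X := sp X) U a)) ⊗[A] B)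
    (a : Fin (n + 1) → ι) :
    kbcL U U' h hU' i₀ n ((LinearMap.mulLeft A c).lTensor _ z) a =
      ρ B (tupOpen (X := sp X') U' a) c • kbcL U U' h hU' i₀ n z a := by
  refine (congrArg (i₀.hom.app _) ((chiL_mul U U' h hU' F c n z a).trans
    (smulMod_app B _ c _ _))).trans ?_
  exact Scheme.Modules.Hom.app_smul i₀.hom _ _

/-- All degrees. -/
def kbcX : ∀ j : ℤ, (K A U F).X j ⊗[A] B ≃+ (K B U' F').X j
  | .ofNat n => AddEquiv.ofBijective (kbcL U U' h hU' i₀ n) (kbcL_bijective U U' h hU' i₀ hF hU hV n)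
  | .negSucc m =>
    haveI hs : Subsingleton ((K A U F).X (Int.negSucc m)) := inferInstanceAs (Subsingleton PUnit.{u + 1})
    haveI : Subsingleton ((K A U F).X (Int.negSucc m) ⊗[A] B) := inferInstance
    haveI : Subsingleton ((K B U' F').X (Int.negSucc m)) := inferInstanceAs (Subsingleton PUnit.{u + 1})
    { toFun := 0
      invFun := 0
      left_inv := fun _ => Subsingleton.elim _ _
      right_inv := fun _ => Subsingleton.elim _ _
      map_add' := fun _ _ => Subsingleton.elim _ _ }

lemma kbcX_d (r j : ℤ) (x : (K A U F).X r ⊗[A] B) :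
    (K B U' F').d r j (kbcX U U' h hU' i₀ hF hU hV r x) =
      kbcX U U' h hU' i₀ hF hU hV j (((K A U F).d r j).hom.rTensor B x) := by
  by_cases hrj : r + 1 = j
  · subst hrj
    cases r with
    | negSucc m =>
      haveI : Subsingleton ((K A U F).X (Int.negSucc m)) := inferInstanceAs (Subsingleton PUnit.{u + 1})
      haveI : Subsingleton ((K A U F).X (Int.negSucc m) ⊗[A] B) := inferInstance
      rw [Subsingleton.elim x 0]
      simp only [map_zero]
    | ofNat n =>
      have h1 : (K A U F).d (Int.ofNat n) (Int.ofNat n + 1) = Kd A U F (Int.ofNat n) :=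
        CochainComplex.of_d (KX A U F) (Kd A U F) (Int.ofNat n)
      have h2 : (K B U' F').d (Int.ofNat n) (Int.ofNat n + 1) = Kd B U' F' (Int.ofNat n) :=
        CochainComplex.of_d (KX B U' F') (Kd B U' F') (Int.ofNat n)
      rw [h1, h2]
      exact kbcL_dL U U' h hU' i₀ n x
  · rw [(K A U F).shape r j hrj, (K B U' F').shape r j hrj, ModuleCat.hom_zero, LinearMap.rTensor_zero,
      LinearMap.zero_apply, map_zero]
    rfl

lemma kbcX_mul (j : ℤ) (c : B) (x : (K A U F).X j ⊗[A] B) :
    kbcX U U' h hU' i₀ hF hU hV j ((LinearMap.mulLeft A c).lTensor _ x) = c • kbcX U U' h hU' i₀ hF hU hV j x := by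
  cases j with
  | negSucc m =>
    haveI : Subsingleton ((K B U' F').X (Int.negSucc m)) := inferInstanceAs (Subsingleton PUnit.{u + 1})
    exact Subsingleton.elim _ _
  | ofNat n => exact funext fun a => kbcL_mul U U' h hU' i₀ n c x a

/-- `K(F') = K(F) ⊗_A B`, as chain complexes. -/
def kBCData : BCData (down (K A U F)) (down (K B U' F')) where
  δ j := kbcX U U' h hU' i₀ hF hU hV _
  dl_δ r j x := kbcX_d U U' h hU' i₀ hF hU hV _ _ x
  δ_mul j c x := kbcX_mul U U' h hU' i₀ hF hU hV _ c x

end Groth.Agent.CBC10
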