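import Groth.Agent.Lib.CBC10.BaseCx
import Groth.Agent.Lib.CBC10.Local
import Groth.Agent.Lib.CBC10.FreeAt
import Groth.Agent.Lib.FormalH7.ModPow
import Groth.Prelude.Def_Formal

/-!
# `F/JF` as `F ⊗_A A/J`
-/

set_option autoImplicit false
set_option linter.style.haveILetI false
set_option linter.unusedSectionVars false
set_option maxHeartbeats 1000000

universe u

open CategoryTheory CategoryTheory.Limits AlgebraicGeometry TopologicalSpace Opposite TensorProduct Groth.Agent.FlatCxLib

noncomputable section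

namespace Groth.Agent.CBC10

open Groth.Agent.CohFound

variable (A : Type u) [CommRing A] {X : Scheme.{u}} [X.Over (Spec (CommRingCat.of A))] (F : X.Modules) (J : Ideal A)

attribute [local instance] secA

/-- The module `A/J`. -/
abbrev quotA : ModuleCat.{u} A := ModuleCat.of A (A ⧸ J)

/-- `F ⟶ F ⊗_A A/J`, `s ↦ s ⊗ 1`. -/
def oneQ : F ⟶ CohIII.tensorA A F (quotA A J) :=
  ⟨PresheafOfModules.homMk
    { app := fun V => AddCommGrpCat.ofHom
        { toFun := fun s => beta A F (quotA A J) V.unop (s ⊗ₜ Submodule.Quotient.mk 1)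
          map_zero' := (congrArg _ (TensorProduct.zero_tmul _ _)).trans (map_zero _)
          map_add' := fun s t => (congrArg _ (TensorProduct.add_tmul _ _ _)).trans (map_add _ _ _) }
      naturality := fun {V W} i => by
        ext s
        exact beta_res A F (quotA A J) i.unop.le (s ⊗ₜ Submodule.Quotient.mk 1) }
    (fun V r s => by
      show beta A F (quotA A J) V.unop (((show Γ(X, V.unop) from r) • (show Γ(F, V.unop) from s)) ⊗ₜ _) =
        (show Γ(X, V.unop) from r) • beta A F (quotA A J) V.unop ((show Γ(F, V.unop) from s) ⊗ₜ _)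
      rw [beta_tmul, beta_tmul]
      exact M2.tsec_smul_left (show Γ(X, V.unop) from r) (show Γ(F, V.unop) from s) _)⟩

lemma oneQ_app (U : X.Opens) (s : Γ(F, U)) :
    (oneQ A F J).app U s = beta A F (quotA A J) U (s ⊗ₜ Submodule.Quotient.mk 1) := rfl

lemma smulFamily_oneQ : Formal.smulFamily J F ≫ oneQ A F J = 0 := by
  refine (Groth.Agent.FormalH7.smulFamily_comp_eq_zero_iff (oneQ A F J)).2 fun a ha => ?_
  refine Scheme.Modules.hom_ext _ _ fun U => AddCommGrpCat.ext fun s => ?_
  show (oneQ A F J).app U ((Formal.smulMod A F a).app U s) = 0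
  rw [smulMod_app A F a U s, oneQ_app, TensorProduct.smul_tmul, ← Submodule.Quotient.mk_smul,
    (Submodule.Quotient.mk_eq_zero _).2 (show a • (1 : A) ∈ J by simpa using ha), TensorProduct.tmul_zero, map_zero]

lemma smulFamily_range {U : X.Opens} {z : Γ(F, U)} (hz : z ∈ J • (⊤ : Submodule A Γ(F, U))) :
    ∃ w, (Formal.smulFamily J F).app U w = z := by
  induction hz using Submodule.smul_induction_on' with
  | smul a ha t _ =>
    refine ⟨(Sigma.ι (fun _ : J => F) ⟨a, ha⟩).app U t, ?_⟩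
    refine Eq.trans ?_ (smulMod_app A F a U t)
    exact congrArg (fun φ => φ.app U t) (Sigma.ι_desc (fun a : J => Formal.smulMod A F (a : A)) ⟨a, ha⟩)
  | add x _ y _ hx hy =>
    obtain ⟨w, rfl⟩ := hx
    obtain ⟨v, rfl⟩ := hy
    exact ⟨w + v, map_add _ _ _⟩

lemma oneQ_app_eq (U : X.Opens) (s : Γ(F, U)) :
    (oneQ A F J).app U s =
      beta A F (quotA A J) U ((tensorQuotEquivQuotSMul Γ(F, U) J).symm (Submodule.Quotient.mk s)) := by
  rw [oneQ_app]
  congr 1

/-- `F/JF = F ⊗_A A/J`. -/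
theorem exists_quotIso (hF : Coh.IsQCoh F) :
    ∃ e : cokernel (Formal.smulFamily J F) ≅ CohIII.tensorA A F (quotA A J),
      cokernel.π (Formal.smulFamily J F) ≫ e.hom = oneQ A F J := by
  let S := ShortComplex.mk (Formal.smulFamily J F) (oneQ A F J) (smulFamily_oneQ A F J)
  haveI : Epi (oneQ A F J) := by
    refine (M1.epi_iff_locally_surjective _).2 fun U t x hx => ?_
    obtain ⟨V, hV, hxV, hVU⟩ := Opens.isBasis_iff_nbhd.1 X.isBasis_affineOpens hx
    refine ⟨V, hVU, hxV, ?_⟩
    obtain ⟨z, hz⟩ := (bijective_beta A hF (quotA A J) hV).2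
      ((CohIII.tensorA A F (quotA A J)).presheaf.map (homOfLE hVU).op t)
    obtain ⟨q, rfl⟩ := (tensorQuotEquivQuotSMul Γ(F, V) J).symm.surjective z
    obtain ⟨s, rfl⟩ := Submodule.Quotient.mk_surjective _ q
    exact ⟨s, (oneQ_app_eq A F J V s).trans hz⟩
  have hex : S.Exact := by
    refine (M1.exact_iff_stalk_eq_zero S).2 fun x b hb => ?_
    obtain ⟨U, hxU, s, rfl⟩ := F.presheaf.exists_germ_eq b
    have hb' : (CohIII.tensorA A F (quotA A J)).presheaf.germ U x hxU ((oneQ A F J).app U s) = 0 :=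
      (M1.germ_naturality (oneQ A F J) U x hxU s).symm.trans hb
    obtain ⟨W, hxW, i₁, i₂, he⟩ := (CohIII.tensorA A F (quotA A J)).presheaf.germ_eq x hxU hxU _ 0
      (hb'.trans (map_zero _).symm)
    obtain ⟨V, hV, hxV, hVW⟩ := Opens.isBasis_iff_nbhd.1 X.isBasis_affineOpens hxW
    have h0 : (oneQ A F J).app V (M1.mres F (hVW.trans i₁.le) s) = 0 := by
      rw [M1.app_mres, ← M1.mres_mres _ i₁.le hVW]
      refine (congrArg (M1.mres _ hVW) he).trans ?_
      rw [map_zero, map_zero]
    rw [oneQ_app_eq] at h0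
    have hz := (bijective_beta A hF (quotA A J) hV).1 (h0.trans (map_zero _).symm)
    rw [LinearEquiv.map_eq_zero_iff, Submodule.Quotient.mk_eq_zero] at hz
    obtain ⟨w, hw⟩ := smulFamily_range A F J hz
    refine ⟨(∐ fun _ : J => F).presheaf.germ V x hxV w, (M1.germ_naturality (Formal.smulFamily J F) V x hxV w).trans ?_⟩
    rw [hw]
    exact F.presheaf.germ_res_apply (homOfLE (hVW.trans i₁.le)) x hxV s
  haveI : Epi S.g := ‹Epi (oneQ A F J)›
  let hc : IsColimit (CokernelCofork.ofπ S.g S.zero) := hex.gIsCokernel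
  exact ⟨(cokernelIsCokernel (Formal.smulFamily J F)).coconePointUniqueUpToIso hc,
    IsColimit.comp_coconePointUniqueUpToIso_hom (cokernelIsCokernel (Formal.smulFamily J F)) hc WalkingParallelPair.one⟩

variable {ι : Type u} [Finite ι] {U : ι → X.Opens}

/-- `A ⟶ A/J`. -/
abbrev mkA : ModuleCat.of A A ⟶ quotA A J := ModuleCat.ofHom (Submodule.mkQ J)

/-- The right unitor on the Čech complex. -/
abbrev kUnit : CohIII.tensorObj (K A U F) (ModuleCat.of A A) ≅ K A U F :=
  (NatIso.mapHomologicalComplex (MonoidalCategory.rightUnitorNatIso (ModuleCat.{u} A))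
    (ComplexShape.up ℤ)).app (K A U F) ≪≫ (Functor.mapHomologicalComplexIdIso _ _).app (K A U F)

lemma kUnit_Kmap : (kUnit A F (U := U)).hom ≫ Kmap A U (oneQ A F J) =
    CohIII.tensorMap (K A U F) (mkA A J) ≫ theta A U F (quotA A J) := by
  apply HomologicalComplex.hom_ext
  intro i
  cases i with
  | negSucc m => exact (isZero_K_of_neg A U _ _ (Int.negSucc_lt_zero m)).eq_of_tgt _ _
  | ofNat n =>
    refine ModuleCat.hom_ext (TensorProduct.ext' fun x r => funext fun a => ?_)
    show (oneQ A F J).app _ ((r : A) • (x : ∀ a : Fin (n + 1) → ι, Γ(F, tupOpen (X := sp X) U a)) a) =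
      thetaL A U F (quotA A J) n (x ⊗ₜ (Submodule.Quotient.mk r : A ⧸ J)) a
    rw [thetaL_tmul, oneQ_app, TensorProduct.smul_tmul, ← Submodule.Quotient.mk_smul, smul_eq_mul, mul_one]

/-- Surjectivity on the complex gives surjectivity on cohomology. -/
theorem surjective_oneQ (hF : Coh.IsQCoh F) (hcov : (⊤ : X.Opens) ≤ iSup U)
    (hU : ∀ (n : ℕ) (a : Fin (n + 1) → ι), IsAffineOpen (tupOpen (X := sp X) U a)) (p : ℕ)
    (h : Function.Surjective ((CohIII.TFun (K A U F) (p : ℤ)).map (mkA A J))) :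
    Function.Surjective (Sheaf.H.map ((SheafOfModules.toSheaf X.ringCatSheaf).map (oneQ A F J)) p) := by
  intro y
  obtain ⟨z, rfl⟩ := (tEquiv hcov hU hF (quotA A J) p).surjective y
  obtain ⟨w, rfl⟩ := h z
  refine ⟨hhEquiv hcov (acyc_of_isQCoh hF hU) p (HomologicalComplex.homologyMap (kUnit A F (U := U)).hom (p : ℤ) w), ?_⟩
  refine (hhEquiv_natural hcov (acyc_of_isQCoh hF hU) (acyc_tensorA hU hF (quotA A J)) (oneQ A F J) p _).symm.trans
    (congrArg (hhEquiv hcov (acyc_tensorA hU hF (quotA A J)) p) ?_)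
  have h1 := congrArg (fun f => HomologicalComplex.homologyMap f (p : ℤ)) (kUnit_Kmap A F J (U := U))
  simp only [HomologicalComplex.homologyMap_comp] at h1
  exact ConcreteCategory.congr_hom h1 w

variable [IsNoetherianRing A] [IsLocalRing A] [IsProper (X ↘ Spec (CommRingCat.of A))]

/-- Over a local ring, vanishing on the closed fibre lifts classes. -/
theorem surjective_toHHmodPow (hF : Coh.IsCoh F) (hfl : FlatMod.IsFlatOver (X ↘ Spec (CommRingCat.of A)) F)
    (I : Ideal A) (n : ℕ)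
    (hvan : Subsingleton (CohIII.fiberH (X ↘ Spec (CommRingCat.of A)) F (IsLocalRing.closedPoint A) (n + 1)))
    (k : ℕ) : Function.Surjective (Formal.toHHmodPow I F n k) := by
  haveI : X.IsSeparated := ⟨by
    rw [← terminal.comp_from (X ↘ Spec (CommRingCat.of A))]
    infer_instance⟩
  haveI : CompactSpace X := QuasiCompact.compactSpace_of_compactSpace (X ↘ Spec (CommRingCat.of A))
  obtain ⟨P, hfin, hfree, -, -, hP⟩ := exists_computes A F hF hfl
  haveI := hfree
  haveI := hfin
  have hz : CohIII.dRank P (-((n + 1 : ℕ) : ℤ)) (IsLocalRing.closedPoint A) = 0 := by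
    rw [← hP.fiberRank_eq (IsLocalRing.closedPoint A) hF.1 (n + 1)]
    exact Module.finrank_zero_of_subsingleton
  have hmem := (mem_freeLocus_of_dRank_zero P _ (sub_add_cancel _ 1) hz).1
  haveI := Module.finitePresentation_of_finite A (Cok P (-((n + 1 : ℕ) : ℤ)))
  haveI : Module.Projective A (Cok P (-((n + 1 : ℕ) : ℤ))) := Module.freeLocus_eq_univ_iff.1
    (congrArg (fun U : TopologicalSpace.Opens (PrimeSpectrum A) => (U : Set (PrimeSpectrum A)))
      ((IsLocalRing.closedPoint_mem_iff ⟨_, Module.isOpen_freeLocus⟩).1 hmem))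
  have hepi : (CohIII.TFun P (-(n : ℤ))).PreservesEpimorphisms :=
    (preservesEpi_iff P (show (-((n + 1 : ℕ) : ℤ)) + 1 = -(n : ℤ) by omega)).2 inferInstance
  obtain ⟨ι, _, U, hcov, hU₀⟩ := exists_finite_affine_cover X
  have hU := isAffineOpen_tupOpen (U := U) hU₀
  obtain ⟨ν, hν⟩ := hP.exists_kEquiv hF.1 hcov hU
  let μ : ∀ M : ModuleCat.{u} A, CohIII.T P (-(n : ℤ)) M ≃ₗ[A] CohIII.T (K A U F) (n : ℤ) M := fun M =>
    (ν n M).trans ((downIso (K A U F) n).app M).toLinearEquiv
  have hsurj : Function.Surjective ((CohIII.TFun (K A U F) (n : ℤ)).map (mkA A (I ^ (k + 1)))) := fun z => by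
    obtain ⟨z', rfl⟩ := (μ _).surjective z
    obtain ⟨w, rfl⟩ := Tmap_surjective P _ hepi (Submodule.mkQ_surjective (I ^ (k + 1))) z'
    refine ⟨μ _ w, ?_⟩
    exact ((congrArg ((downIso (K A U F) n).app _).toLinearEquiv (hν n (mkA A (I ^ (k + 1))) w)).trans
      (ConcreteCategory.congr_hom ((downIso (K A U F) n).hom.naturality (mkA A (I ^ (k + 1)))) (ν n _ w))).symm
  have hs := surjective_oneQ A F (I ^ (k + 1)) hF.1 hcov hU n hsurj
  obtain ⟨e, he⟩ := exists_quotIso A F (I ^ (k + 1)) hF.1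
  intro y
  obtain ⟨x, hx⟩ := hs (Sheaf.H.map ((SheafOfModules.toSheaf X.ringCatSheaf).map e.hom) n y)
  refine ⟨x, (hmapEquiv e n).injective ?_⟩
  refine Eq.trans ?_ hx
  rw [← he]
  exact (Formal.HHmap_comp (Formal.modPowπ I (k + 1) F) e.hom n x)

end Groth.Agent.CBC10
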