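import Groth.Agent.Lib.CohFound.AffMor
import Groth.Agent.Lib.CohFound.Push
import Groth.Prelude.Def_CohPull
import Mathlib.Algebra.Homology.DerivedCategory.Ext.Map
import Mathlib.CategoryTheory.Preadditive.Injective.Basic

/-!
# Pullback of cohomology classes along a map of sheaves `M ⟶ h_* N`

`pullF h a` is `H^p(Y, M) → H^p(X, N)`.  It is natural, commutes with connecting homomorphisms, composes, and
for `a = 𝟙` is bijective when `N` has no higher direct images.
-/

set_option autoImplicit false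
set_option linter.style.haveILetI false
set_option linter.unusedSectionVars false
set_option maxHeartbeats 1000000

universe u

open CategoryTheory CategoryTheory.Limits CategoryTheory.Abelian TopologicalSpace Opposite

noncomputable section

namespace Groth.Agent.CBC10

open Groth.Agent.CohFound

attribute [-instance] abelianAb hasExtAb isGrothendieckAbelianAb enoughInjectivesAb

/-- Naming the instance keeps the kernel from re-checking it. -/
instance (priority := high) hasExtSh (W : TopCat.{u}) :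
    HasExt.{u} (Sheaf (Opens.grothendieckTopology W) AddCommGrpCat.{u}) := inferInstance

variable {X Y Z : TopCat.{u}} (h : X ⟶ Y)

/-- The transpose `h⁻¹M ⟶ N` of `a : M ⟶ h_* N`. -/
abbrev trF {M : CohTop.Ab Y} {N : CohTop.Ab X} (a : M ⟶ (CohTop.push h).obj N) : (CohPull.inv h).obj M ⟶ N :=
  ((CohPull.invPushAdj h).homEquiv _ _).symm a

/-- `H^p(Y, M) → H^p(X, N)` along `a : M ⟶ h_* N`. -/
def pullF {M : CohTop.Ab Y} {N : CohTop.Ab X} (a : M ⟶ (CohTop.push h).obj N) (p : ℕ) :
    Sheaf.H M p →+ Sheaf.H N p :=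
  (Sheaf.H.map (trF h a) p).comp (CohPull.pullAb h M p)

lemma pullF_apply {M : CohTop.Ab Y} {N : CohTop.Ab X} (a : M ⟶ (CohTop.push h).obj N) (p : ℕ) (x : Sheaf.H M p) :
    pullF h a p x = Sheaf.H.map (trF h a) p (CohPull.pullAb h M p x) := rfl

lemma pullAb_apply (M : CohTop.Ab Y) (p : ℕ) (x : Sheaf.H M p) :
    CohPull.pullAb h M p x =
      (Ext.mk₀ (CohPull.oneTo h)).comp (x.mapExactFunctor (CohPull.inv h)) (zero_add p) := rfl

lemma pullAb_natural {M M' : CohTop.Ab Y} (ψ : M ⟶ M') (p : ℕ) (x : Sheaf.H M p) :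
    CohPull.pullAb h M' p (Sheaf.H.map ψ p x) =
      Sheaf.H.map ((CohPull.inv h).map ψ) p (CohPull.pullAb h M p x) := by
  rw [pullAb_apply, pullAb_apply, Sheaf.H.map_apply, Sheaf.H.map_apply, Ext.mapExactFunctor_comp,
    Ext.mapExactFunctor_mk₀]
  exact (Ext.comp_assoc_of_third_deg_zero _ _ _ _).symm

lemma pullAb_delta {S : ShortComplex (CohTop.Ab Y)} (hS : S.ShortExact)
    (hS' : (S.map (CohPull.inv h)).ShortExact) (p : ℕ) (x : Sheaf.H S.X₃ p) :
    CohPull.pullAb h S.X₁ (p + 1) (x.comp hS.extClass rfl) =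
      (CohPull.pullAb h S.X₃ p x).comp hS'.extClass rfl := by
  rw [pullAb_apply, pullAb_apply, Ext.mapExactFunctor_comp, Ext.mapExactFunctor_extClass]
  exact (Ext.comp_assoc _ _ _ (zero_add p) rfl (by lia)).symm

lemma pullF_map_right {M : CohTop.Ab Y} {N N' : CohTop.Ab X} (a : M ⟶ (CohTop.push h).obj N) (φ : N ⟶ N')
    (p : ℕ) (x : Sheaf.H M p) :
    Sheaf.H.map φ p (pullF h a p x) = pullF h (a ≫ (CohTop.push h).map φ) p x := by
  rw [pullF_apply, pullF_apply, ← Sheaf.H.map_comp_apply]
  exact congrArg (fun t => Sheaf.H.map t p (CohPull.pullAb h M p x))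
    ((CohPull.invPushAdj h).homEquiv_naturality_right_symm a φ).symm

lemma pullF_map_left {M M' : CohTop.Ab Y} {N : CohTop.Ab X} (ψ : M ⟶ M') (a : M' ⟶ (CohTop.push h).obj N)
    (p : ℕ) (x : Sheaf.H M p) :
    pullF h a p (Sheaf.H.map ψ p x) = pullF h (ψ ≫ a) p x := by
  rw [pullF_apply, pullF_apply, pullAb_natural, ← Sheaf.H.map_comp_apply]
  exact congrArg (fun t => Sheaf.H.map t p (CohPull.pullAb h M p x))
    ((CohPull.invPushAdj h).homEquiv_naturality_left_symm ψ a).symm

lemma pullF_delta {S : ShortComplex (CohTop.Ab Y)} (hS : S.ShortExact) {T : ShortComplex (CohTop.Ab X)}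
    (hT : T.ShortExact) (a : S ⟶ T.map (CohTop.push h)) (p : ℕ) (x : Sheaf.H S.X₃ p) :
    pullF h a.τ₁ (p + 1) (x.comp hS.extClass rfl) = (pullF h a.τ₃ p x).comp hT.extClass rfl := by
  have hS' := hS.map_of_exact (CohPull.inv h)
  let φ : S.map (CohPull.inv h) ⟶ T :=
    { τ₁ := trF h a.τ₁
      τ₂ := trF h a.τ₂
      τ₃ := trF h a.τ₃
      comm₁₂ := ((CohPull.invPushAdj h).homEquiv_naturality_right_symm a.τ₁ T.f).symm.trans
        ((congrArg ((CohPull.invPushAdj h).homEquiv _ _).symm a.comm₁₂).trans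
          ((CohPull.invPushAdj h).homEquiv_naturality_left_symm S.f a.τ₂))
      comm₂₃ := ((CohPull.invPushAdj h).homEquiv_naturality_right_symm a.τ₂ T.g).symm.trans
        ((congrArg ((CohPull.invPushAdj h).homEquiv _ _).symm a.comm₂₃).trans
          ((CohPull.invPushAdj h).homEquiv_naturality_left_symm S.g a.τ₃)) }
  rw [pullF_apply, pullF_apply, pullAb_delta h hS hS', Sheaf.H.map_apply, Sheaf.H.map_apply]
  refine (Ext.comp_assoc_of_third_deg_zero _ _ _ _).trans (Eq.trans ?_ (Ext.comp_assoc_of_second_deg_zero _ _ _ _).symm)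
  exact congrArg (fun t => (CohPull.pullAb h S.X₃ p x).comp t rfl)
    (ShortComplex.ShortExact.extClass_naturality hS' hT φ)

lemma pullF_equiv₀ {M : CohTop.Ab Y} {N : CohTop.Ab X} (a : M ⟶ (CohTop.push h).obj N) (x : Sheaf.H M 0) :
    Sheaf.H.equiv₀ N isTerminalTop (pullF h a 0 x) =
      a.hom.app (op ⊤) (Sheaf.H.equiv₀ M isTerminalTop x) := by
  rw [pullF_apply, ← Sheaf.H.equiv₀_naturality, CohPull.equiv₀_pullAb]
  have h2 : (CohPull.invPushAdj h).unit.app M ≫ (CohTop.push h).map (trF h a) = a :=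
    ((CohPull.invPushAdj h).homEquiv_unit _ _ _).symm.trans (Equiv.apply_symm_apply _ a)
  exact congrArg (fun t : M ⟶ (CohTop.push h).obj N => t.hom.app (op ⊤) (Sheaf.H.equiv₀ M isTerminalTop x)) h2

/-- The universal composite. -/
def unitComp (k : Z ⟶ X) (M : CohTop.Ab Y) :
    M ⟶ (CohTop.push (k ≫ h)).obj ((CohPull.inv k).obj ((CohPull.inv h).obj M)) :=
  (CohPull.invPushAdj h).unit.app M ≫
    (CohTop.push h).map ((CohPull.invPushAdj k).unit.app ((CohPull.inv h).obj M))

lemma unitComp_natural (k : Z ⟶ X) {M M' : CohTop.Ab Y} (ψ : M ⟶ M') :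
    ψ ≫ unitComp h k M' =
      unitComp h k M ≫ (CohTop.push (k ≫ h)).map ((CohPull.inv k).map ((CohPull.inv h).map ψ)) := by
  have h1 : ψ ≫ (CohPull.invPushAdj h).unit.app M' =
      (CohPull.invPushAdj h).unit.app M ≫ (CohTop.push h).map ((CohPull.inv h).map ψ) :=
    (CohPull.invPushAdj h).unit.naturality ψ
  have h2 : (CohPull.inv h).map ψ ≫ (CohPull.invPushAdj k).unit.app ((CohPull.inv h).obj M') =
      (CohPull.invPushAdj k).unit.app ((CohPull.inv h).obj M) ≫
        (CohTop.push k).map ((CohPull.inv k).map ((CohPull.inv h).map ψ)) :=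
    (CohPull.invPushAdj k).unit.naturality _
  refine (Category.assoc _ _ _).symm.trans ((congrArg (· ≫ _) h1).trans ?_)
  refine (Category.assoc _ _ _).trans ?_
  refine Eq.trans ?_ (Category.assoc _ _ _).symm
  refine congrArg ((CohPull.invPushAdj h).unit.app M ≫ ·) ?_
  exact ((CohTop.push h).map_comp _ _).symm.trans ((congrArg (CohTop.push h).map h2).trans
    ((CohTop.push h).map_comp _ _))

theorem pullAb_pullAb (k : Z ⟶ X) : ∀ (p : ℕ) (M : CohTop.Ab Y) (x : Sheaf.H M p),
    CohPull.pullAb k ((CohPull.inv h).obj M) p (CohPull.pullAb h M p x) = pullF (k ≫ h) (unitComp h k M) p x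
  | 0, M, x => by
    apply (Sheaf.H.equiv₀ _ isTerminalTop).injective
    rw [pullF_equiv₀, CohPull.equiv₀_pullAb, CohPull.equiv₀_pullAb]
    rfl
  | p + 1, M, x => by
    have hS := injSC_shortExact M
    haveI : Injective (injSC M).X₂ := inferInstanceAs (Injective (Injective.under M))
    obtain ⟨y, rfl⟩ := Ext.covariant_sequence_exact₁ _ hS x (Ext.eq_zero_of_injective _) (n₀ := p) rfl
    have hh := hS.map_of_exact (CohPull.inv h)
    have hk := hh.map_of_exact (CohPull.inv k)
    rw [pullAb_delta h hS hh]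
    refine (pullAb_delta k hh hk p _).trans ?_
    let a : injSC M ⟶ (((injSC M).map (CohPull.inv h)).map (CohPull.inv k)).map (CohTop.push (k ≫ h)) :=
      { τ₁ := unitComp h k _
        τ₂ := unitComp h k _
        τ₃ := unitComp h k _
        comm₁₂ := (unitComp_natural h k _).symm
        comm₂₃ := (unitComp_natural h k _).symm }
    refine Eq.trans ?_ (pullF_delta (k ≫ h) hS hk a p y).symm
    exact congrArg (fun t => Ext.comp t hk.extClass rfl) (pullAb_pullAb k p _ y)

/-- Composition. -/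
theorem pullF_comp (k : Z ⟶ X) {M : CohTop.Ab Y} {N : CohTop.Ab X} {P : CohTop.Ab Z}
    (a : M ⟶ (CohTop.push h).obj N) (b : N ⟶ (CohTop.push k).obj P) (p : ℕ) (x : Sheaf.H M p) :
    pullF k b p (pullF h a p x) = pullF (k ≫ h) (a ≫ (CohTop.push h).map b) p x := by
  rw [pullF_apply h, pullF_map_left, pullF_apply k, pullAb_pullAb, pullF_map_right]
  refine congrArg (fun t => pullF (k ≫ h) t p x) ?_
  have h1 : (CohPull.invPushAdj k).unit.app _ ≫ (CohTop.push k).map (trF k (trF h a ≫ b)) = trF h a ≫ b :=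
    ((CohPull.invPushAdj k).homEquiv_unit _ _ _).symm.trans (Equiv.apply_symm_apply _ _)
  have h2 : (CohPull.invPushAdj h).unit.app M ≫ (CohTop.push h).map (trF h a) = a :=
    ((CohPull.invPushAdj h).homEquiv_unit _ _ _).symm.trans (Equiv.apply_symm_apply _ a)
  refine (Category.assoc _ _ _).trans ?_
  refine (congrArg ((CohPull.invPushAdj h).unit.app M ≫ ·) (((CohTop.push h).map_comp _ _).symm.trans
    ((congrArg (CohTop.push h).map h1).trans ((CohTop.push h).map_comp _ _)))).trans ?_
  exact (Category.assoc _ _ _).symm.trans (congrArg (· ≫ (CohTop.push h).map b) h2)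

/-- The edge map. -/
def edgeF (N : CohTop.Ab X) (p : ℕ) : Sheaf.H ((CohTop.push h).obj N) p →+ Sheaf.H N p :=
  pullF h (𝟙 _) p

lemma pullF_eq_edgeF {M : CohTop.Ab Y} {N : CohTop.Ab X} (a : M ⟶ (CohTop.push h).obj N) (p : ℕ)
    (x : Sheaf.H M p) : pullF h a p x = edgeF h N p (Sheaf.H.map a p x) :=
  ((pullF_map_left h a (𝟙 _) p x).trans (congrArg (fun t => pullF h t p x) (Category.comp_id a))).symm

lemma edgeF_map {N N' : CohTop.Ab X} (φ : N ⟶ N') (p : ℕ) (x : Sheaf.H ((CohTop.push h).obj N) p) :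
    edgeF h N' p (Sheaf.H.map ((CohTop.push h).map φ) p x) = Sheaf.H.map φ p (edgeF h N p x) :=
  (pullF_eq_edgeF h _ p x).symm.trans
    ((congrArg (fun t => pullF h t p x) (Category.id_comp _).symm).trans (pullF_map_right h (𝟙 _) φ p x).symm)

/-- The edge map is bijective without higher direct images. -/
theorem bijective_edgeF {B : Set (Opens Y)} (hB : Opens.IsBasis B) : ∀ (p : ℕ) (N : CohTop.Ab X),
    PushAcyclicUpTo h B p N → Function.Bijective (edgeF h N p)
  | 0, N, _ => by
    have : ∀ x, Sheaf.H.equiv₀ N isTerminalTop (edgeF h N 0 x) =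
        Sheaf.H.equiv₀ ((CohTop.push h).obj N) isTerminalTop x := fun x => pullF_equiv₀ h (𝟙 _) x
    refine ⟨fun x y e => (Sheaf.H.equiv₀ ((CohTop.push h).obj N) isTerminalTop).injective
      ((this x).symm.trans ((congrArg _ e).trans (this y))), fun y => ?_⟩
    refine ⟨(Sheaf.H.equiv₀ ((CohTop.push h).obj N) isTerminalTop).symm (Sheaf.H.equiv₀ N isTerminalTop y),
      (Sheaf.H.equiv₀ N isTerminalTop).injective ((this _).trans (AddEquiv.apply_symm_apply _ _))⟩
  | p + 1, N, hN => by
    have hS := injSC_shortExact N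
    haveI : Injective (injSC N).X₂ := inferInstanceAs (Injective (Injective.under N))
    have hS' : ((injSC N).map (CohTop.push h)).ShortExact :=
      shortExact_push h hS hB (fun W hW => hN 0 (Nat.succ_pos _) W hW)
    haveI : Injective ((injSC N).map (CohTop.push h)).X₂ :=
      Injective.injective_of_adjoint (CohPull.invPushAdj h) (Injective.under N)
    have ihQ := bijective_edgeF hB p (injSC N).X₃ (hN.cokernel h)
    have ihI : Function.Bijective (edgeF h (injSC N).X₂ p) :=
      bijective_edgeF hB p _ fun q _ V _ =>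
        subsingleton_hc_injective (Injective.under N) q _
    have hd : ∀ y, edgeF h (injSC N).X₁ (p + 1) (y.comp hS'.extClass rfl) =
        (edgeF h (injSC N).X₃ p y).comp hS.extClass rfl := fun y =>
      pullF_delta h hS' hS (𝟙 _) p y
    constructor
    · refine (injective_iff_map_eq_zero _).2 fun x hx => ?_
      obtain ⟨y, rfl⟩ := Ext.covariant_sequence_exact₁ _ hS' x (Ext.eq_zero_of_injective _) (n₀ := p) rfl
      obtain ⟨z, hz⟩ := Ext.covariant_sequence_exact₃ _ hS (edgeF h (injSC N).X₃ p y) rfl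
        ((hd y).symm.trans hx)
      obtain ⟨z', rfl⟩ := ihI.2 z
      have : y = Sheaf.H.map ((CohTop.push h).map (injSC N).g) p z' :=
        ihQ.1 (hz.symm.trans (edgeF_map h (injSC N).g p z').symm)
      rw [this, Sheaf.H.map_apply]
      refine (Ext.comp_assoc_of_second_deg_zero _ _ _ _).trans ?_
      exact (congrArg (fun t => Ext.comp z' t rfl) hS'.comp_extClass).trans (Ext.comp_zero _ _ _ _ _)
    · intro x
      obtain ⟨y, rfl⟩ := Ext.covariant_sequence_exact₁ _ hS x (Ext.eq_zero_of_injective _) (n₀ := p) rfl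
      obtain ⟨y', rfl⟩ := ihQ.2 y
      exact ⟨y'.comp hS'.extClass rfl, hd y'⟩

end Groth.Agent.CBC10
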