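import Groth.Agent.Lib.CBC10.ChiPush
import Groth.Agent.Lib.CBC10.Edge

/-!
# The pullback of cohomology classes to a base change, on the Čech complex
-/

set_option autoImplicit false
set_option linter.style.haveILetI false
set_option linter.unusedSectionVars false
set_option maxHeartbeats 1000000

universe u

open CategoryTheory CategoryTheory.Limits AlgebraicGeometry TopologicalSpace Opposite Abelian

noncomputable section

namespace Groth.Agent.CBC10

open Groth.Agent.CohFound

attribute [-instance] abelianAb hasExtAb isGrothendieckAbelianAb enoughInjectivesAb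

variable {A B : Type u} [CommRing A] [CommRing B] [Algebra A B] {X X' : Scheme.{u}}
  [X.Over (Spec (CommRingCat.of A))] [X'.Over (Spec (CommRingCat.of B))] [X'.Over (Spec (CommRingCat.of A))]

theorem bijective_edgeF_affine (g : X' ⟶ X) [IsAffineHom g] {N : X'.Modules} (hN : Coh.IsQCoh N) (p : ℕ) :
    Function.Bijective (edgeF (g.base : sp X' ⟶ sp X) ((abF X').obj N) p) := by
  haveI := hN
  refine bijective_edgeF_locKilled _ p _ fun q _ V ξ y hy => ?_
  obtain ⟨W, hW, hyW, hWV⟩ := Opens.isBasis_iff_nbhd.1 X.isBasis_affineOpens hy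
  exact ⟨W, hWV, hyW, (subsingleton_hc_isAffineOpen N ((show IsAffineOpen (W : X.Opens) from hW).preimage g) q).elim _ _⟩

variable {g : X' ⟶ X} {ι : Type u} [Finite ι] {U : ι → X.Opens} (hcov : (⊤ : X.Opens) ≤ iSup U)
  (hU : ∀ (n : ℕ) (a : Fin (n + 1) → ι), IsAffineOpen (tupOpen (X := sp X) U a))
  {F : X.Modules} {N : X'.Modules}

include hcov hU in
/-- The Čech models of `H^p(X, F)` and `H^p(X', N)` and of the pullback map between them. -/
theorem exists_pullModel (h : Sq (A := A) (B := B) g) [IsAffineHom g] (hF : Coh.IsQCoh F)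
    (φ : (Scheme.Modules.pullback g).obj F ≅ N) :
    ∃ (Φ : ∀ p : ℕ, CohIII.T (K A U F) (p : ℤ) (ModuleCat.of A A) ≃ₗ[A] Coh.HH X F p)
      (Φ' : ∀ p : ℕ, CohIII.T (K A U F) (p : ℤ) (ModuleCat.of A B) ≃+ Coh.HH X' N p),
      (∀ (p : ℕ) (c : B) x,
        Φ' p ((CohIII.TFun (K A U F) (p : ℤ)).map (ModuleCat.ofHom (LinearMap.mulLeft A c)) x) = c • Φ' p x) ∧
      ∀ (p : ℕ) z, pullF g.base (abMap g (unitTo φ)) p (Φ p z) =
        Φ' p ((CohIII.TFun (K A U F) (p : ℤ)).map (ModuleCat.ofHom (Algebra.linearMap A B)) z) := by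
  have hN : Coh.IsQCoh N := M1.isQCoh_of_isIso φ (M1.isQCoh_pullback g hF)
  have hP : Coh.IsQCoh ((Scheme.Modules.pushforward g).obj N) := M1.isQCoh_push g hN
  haveI := isIso_chiP U h φ hF hU
  let hh := hhEquiv (A := A) hcov (acyc_of_isQCoh hP hU)
  let q : ∀ p : ℕ, CohIII.T (K A U F) (p : ℤ) (ModuleCat.of A B) ≃+ (K A U ((Scheme.Modules.pushforward g).obj N)).homology (p : ℤ) :=
    fun p => ((HomologicalComplex.homologyFunctor _ _ (p : ℤ)).mapIso (asIso (chiP U h φ))).toLinearEquiv.toAddEquiv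
  let r := (NatIso.mapHomologicalComplex (MonoidalCategory.rightUnitorNatIso (ModuleCat.{u} A))
          (ComplexShape.up ℤ)).app (K A U F) ≪≫ (Functor.mapHomologicalComplexIdIso _ _).app (K A U F)
  let Φ : ∀ p : ℕ, CohIII.T (K A U F) (p : ℤ) (ModuleCat.of A A) ≃ₗ[A] Coh.HH X F p := fun p =>
    ((HomologicalComplex.homologyFunctor _ _ (p : ℤ)).mapIso r).toLinearEquiv.trans
      (hhEquiv (A := A) hcov (acyc_of_isQCoh hF hU) p)
  let Φ' : ∀ p : ℕ, CohIII.T (K A U F) (p : ℤ) (ModuleCat.of A B) ≃+ Coh.HH X' N p := fun p =>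
    ((q p).trans (hh p).toAddEquiv).trans
      (AddEquiv.ofBijective (edgeF (g.base : sp X' ⟶ sp X) ((abF X').obj N) p) (bijective_edgeF_affine g hN p))
  refine ⟨Φ, Φ', fun p c x => ?_, fun p z => ?_⟩
  · have h1 := congrArg (fun f => HomologicalComplex.homologyMap f (p : ℤ)) (chiP_mul U h φ c)
    simp only [HomologicalComplex.homologyMap_comp] at h1
    refine (congrArg (fun t => edgeF (g.base : sp X' ⟶ sp X) ((abF X').obj N) p (hh p t))
      (ConcreteCategory.congr_hom h1 x)).trans ?_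
    refine (congrArg (edgeF (g.base : sp X' ⟶ sp X) ((abF X').obj N) p) (hhEquiv_natural (A := A) hcov
      (acyc_of_isQCoh hP hU) (acyc_of_isQCoh hP hU) _ p (q p x))).trans ?_
    exact edgeF_map g.base ((SheafOfModules.toSheaf X'.ringCatSheaf).map (Formal.smulMod B N c)) p (hh p (q p x))
  · have h1 := congrArg (fun f => HomologicalComplex.homologyMap f (p : ℤ)) (chiP_unit U h φ)
    simp only [HomologicalComplex.homologyMap_comp] at h1
    refine (pullF_eq_edgeF g.base _ p (Φ p z)).trans (congrArg (edgeF g.base _ p) ?_)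
    refine (hhEquiv_natural (A := A) hcov (acyc_of_isQCoh hF hU) (acyc_of_isQCoh hP hU) (unitTo φ) p _).symm.trans ?_
    exact congrArg (hh p) (ConcreteCategory.congr_hom h1 z).symm

end Groth.Agent.CBC10
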