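import Groth.Agent.Lib.CBC10.PullF
import Groth.Agent.Lib.ModLimH13.Sections

/-!
# `pullOn` in terms of sections

`CohPull.pullOn` is `pullF` of the map `s ↦ g^* s` on sections.
-/

set_option autoImplicit false
set_option linter.style.haveILetI false
set_option linter.unusedSectionVars false
set_option maxHeartbeats 1000000

universe u

open CategoryTheory AlgebraicGeometry TopologicalSpace Opposite Groth.Agent.ModLimH13

noncomputable section

namespace Groth.Agent.CBC10

open CohFound in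
attribute [-instance] abelianAb hasExtAb isGrothendieckAbelianAb enoughInjectivesAb

variable {X Y : Scheme.{u}}

/-- The underlying map of abelian sheaves of a map into a direct image. -/
abbrev abMap (h : X ⟶ Y) {M : Y.Modules} {N : X.Modules} (a : M ⟶ (Scheme.Modules.pushforward h).obj N) :
    Coh.toAb M ⟶ (CohTop.push h.base).obj (Coh.toAb N) :=
  (SheafOfModules.toSheaf Y.ringCatSheaf).map a

lemma res'_iota (j : X ⟶ Y) [IsOpenImmersion j] (M : Y.Modules) {O : Y.Opens} {W : X.Opens} (e : W ≤ j ⁻¹ᵁ O)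
    (s : Γ(M, O)) :
    res' j M e s = ((Scheme.Modules.restrictFunctorIsoPullback j).hom.app M).app W
      (M1.mres M ((Scheme.Hom.image_mono j e).trans (j.image_preimage_le O)) s) := by
  have h := congrArg (fun φ => φ.app O s)
    ((Scheme.Modules.restrictAdjunction j).unit_leftAdjointUniq_hom_app
      (Scheme.Modules.pullbackPushforwardAdjunction j) M)
  have h' : ((Scheme.Modules.restrictFunctorIsoPullback j).hom.app M).app (j ⁻¹ᵁ O)
      (M1.mres M (j.image_preimage_le O) s) = M2.pullSec j M s := h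
  rw [res', ← h']
  refine (M1.app_mres ((Scheme.Modules.restrictFunctorIsoPullback j).hom.app M) e
    (M1.mres M (j.image_preimage_le O) s)).symm.trans ?_
  exact congrArg _ (M1.mres_mres M (j.image_preimage_le O) (Scheme.Hom.image_mono j e) s)

lemma res'_iota_inv (j : X ⟶ Y) [IsOpenImmersion j] (M : Y.Modules) {O : Y.Opens} {W : X.Opens} (e : W ≤ j ⁻¹ᵁ O)
    (s : Γ(M, O)) :
    ((Scheme.Modules.restrictFunctorIsoPullback j).inv.app M).app W (res' j M e s) =
      M1.mres M ((Scheme.Hom.image_mono j e).trans (j.image_preimage_le O)) s := by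
  rw [res'_iota]
  exact congrArg (fun φ => φ.app W (M1.mres M ((Scheme.Hom.image_mono j e).trans (j.image_preimage_le O)) s))
    ((Scheme.Modules.restrictFunctorIsoPullback j).hom_inv_id_app M)

lemma res'_id (M : Y.Modules) {O W : Y.Opens} (e : W ≤ (𝟙 Y) ⁻¹ᵁ O) (s : Γ(M, O)) :
    ((Scheme.Modules.pullbackId Y).hom.app M).app W (res' (𝟙 Y) M e s) = M1.mres M e s := by
  have h := unit_conjugateEquiv (Adjunction.id) (Scheme.Modules.pullbackPushforwardAdjunction (𝟙 Y))
    (Scheme.Modules.pullbackId Y).hom M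
  rw [Scheme.Modules.conjugateEquiv_pullbackId_hom] at h
  rw [res']
  refine (M1.app_mres _ e _).trans (congrArg (fun t => M1.mres M e t) ?_)
  exact (congrArg (fun φ => φ.app O s) h).symm

/-- `H^p` of a map after a pullback. -/
lemma mapH_pullF (h : X ⟶ Y) {M : Y.Modules} {N N' : X.Modules} (a : M ⟶ (Scheme.Modules.pushforward h).obj N)
    (φ : N ⟶ N') (p : ℕ) (x : Coh.HH Y M p) :
    CohPull.mapH φ p (pullF h.base (abMap h a) p x) =
      pullF h.base (abMap h (a ≫ (Scheme.Modules.pushforward h).map φ)) p x := by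
  have e : abMap h (a ≫ (Scheme.Modules.pushforward h).map φ) =
      abMap h a ≫ (CohTop.push h.base).map ((SheafOfModules.toSheaf X.ringCatSheaf).map φ) :=
    (SheafOfModules.toSheaf Y.ringCatSheaf).map_comp a ((Scheme.Modules.pushforward h).map φ)
  rw [e]
  exact pullF_map_right h.base (abMap h a) ((SheafOfModules.toSheaf X.ringCatSheaf).map φ) p x

section PullOn

variable (g : X ⟶ Y) (U : Y.Opens) (U' : X.Opens) (e : U' ≤ g ⁻¹ᵁ U) (F : Y.Modules)

/-- The map `F|_U ⟶ (U' ⟶ U)_* ((g^*F)|_{U'})` underlying `pullOn`. -/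
def aOn : F.restrict U.ι ⟶ (Scheme.Modules.pushforward (g.resLE U U' e)).obj
    (((Scheme.Modules.pullback g).obj F).restrict U'.ι) :=
  (Scheme.Modules.pullbackPushforwardAdjunction (g.resLE U U' e)).unit.app (F.restrict U.ι) ≫
    (Scheme.Modules.pushforward (g.resLE U U' e)).map (CohPull.pullOnIso g U U' e F).hom

lemma image_le_preimage_image (W : U.toScheme.Opens) :
    U'.ι ''ᵁ ((g.resLE U U' e) ⁻¹ᵁ W) ≤ g ⁻¹ᵁ (U.ι ''ᵁ W) := by
  rintro _ ⟨x, hx, rfl⟩
  refine ⟨g.resLE U U' e x, hx, ?_⟩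
  exact congrArg (fun (k : U'.toScheme ⟶ Y) => k x) (Scheme.Hom.resLE_comp_ι g e)

lemma pullOnIso_res' (W : U.toScheme.Opens) (s : Γ(F, U.ι ''ᵁ W)) :
    (CohPull.pullOnIso g U U' e F).hom.app ((g.resLE U U' e) ⁻¹ᵁ W)
        (res' (g.resLE U U' e) (F.restrict U.ι) le_rfl s) =
      res' g F (image_le_preimage_image g U U' e W) s := by
  set h := g.resLE U U' e
  have e₁ : W ≤ U.ι ⁻¹ᵁ (U.ι ''ᵁ W) := (U.ι.preimage_image_eq W).ge
  have s₁ : ((Scheme.Modules.pullback h).map ((Scheme.Modules.restrictFunctorIsoPullback U.ι).hom.app F)).app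
      (h ⁻¹ᵁ W) (res' h (F.restrict U.ι) le_rfl s) =
      res' h ((Scheme.Modules.pullback U.ι).obj F) le_rfl (res' U.ι F e₁ s) := by
    rw [map_res']
    refine (congrArg (res' h ((Scheme.Modules.pullback U.ι).obj F) le_rfl) ?_).trans
      (congrArg (res' h ((Scheme.Modules.pullback U.ι).obj F) le_rfl) (res'_iota U.ι F e₁ s)).symm
    exact congrArg (fun t => ((Scheme.Modules.restrictFunctorIsoPullback U.ι).hom.app F).app W t)
      (M1.mres_id F _ s).symm
  have s₂ := cmp_res' h U.ι F (Scheme.Hom.resLE_comp_ι g e) e₁ (le_refl (h ⁻¹ᵁ W)) s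
  have e₂ : h ⁻¹ᵁ W ≤ U'.ι ⁻¹ᵁ (U'.ι ''ᵁ (h ⁻¹ᵁ W)) := (U'.ι.preimage_image_eq _).ge
  have s₃ := cmp_res' U'.ι g F rfl (image_le_preimage_image g U U' e W) e₂ s
  let N := (Scheme.Modules.pullback g).obj F
  have s₄ := res'_iota_inv U'.ι N e₂ (res' g F (image_le_preimage_image g U U' e W) s)
  have hh : (CohPull.pullOnIso g U U' e F).hom =
      (Scheme.Modules.pullback h).map ((Scheme.Modules.restrictFunctorIsoPullback U.ι).hom.app F) ≫
        (ModLimH13.cmp h U.ι (Scheme.Hom.resLE_comp_ι g e)).hom.app F ≫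
          (ModLimH13.cmp U'.ι g rfl).inv.app F ≫ (Scheme.Modules.restrictFunctorIsoPullback U'.ι).inv.app N := by
    simp only [CohPull.pullOnIso, ModLimH13.cmp, Iso.trans_hom, Iso.trans_inv, Iso.symm_hom, Functor.mapIso_hom,
      Iso.app_hom, Iso.app_inv, NatTrans.comp_app, Category.assoc]
    simp [Scheme.Modules.pullbackCongr, h, N]
  rw [hh]
  refine (congrArg (fun t => ((Scheme.Modules.restrictFunctorIsoPullback U'.ι).inv.app N).app (h ⁻¹ᵁ W)
    (((ModLimH13.cmp U'.ι g rfl).inv.app F).app (h ⁻¹ᵁ W) (((ModLimH13.cmp h U.ι (Scheme.Hom.resLE_comp_ι g e)).hom.app F).app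
      (h ⁻¹ᵁ W) t))) s₁).trans ?_
  refine (congrArg (fun t => ((Scheme.Modules.restrictFunctorIsoPullback U'.ι).inv.app N).app (h ⁻¹ᵁ W)
    (((ModLimH13.cmp U'.ι g rfl).inv.app F).app (h ⁻¹ᵁ W) t)) (s₂.trans s₃.symm)).trans ?_
  refine (congrArg (fun t => ((Scheme.Modules.restrictFunctorIsoPullback U'.ι).inv.app N).app (h ⁻¹ᵁ W) t)
    (congrArg (fun φ => φ.app (h ⁻¹ᵁ W) (res' U'.ι N e₂ (res' g F (image_le_preimage_image g U U' e W) s)))
      ((ModLimH13.cmp U'.ι g rfl).hom_inv_id_app F))).trans ?_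
  exact s₄.trans (M1.mres_id N _ _)

lemma aOn_app (W : U.toScheme.Opens) (s : Γ(F, U.ι ''ᵁ W)) :
    (aOn g U U' e F).app W s = res' g F (image_le_preimage_image g U U' e W) s := by
  refine Eq.trans ?_ (pullOnIso_res' g U U' e F W s)
  exact congrArg ((CohPull.pullOnIso g U U' e F).hom.app ((g.resLE U U' e) ⁻¹ᵁ W))
    (M1.mres_id _ le_rfl (M2.pullSec (g.resLE U U' e) (F.restrict U.ι) s)).symm

lemma pullMod_eq (h : X ⟶ Y) (M : Y.Modules) (p : ℕ) (x : Coh.HH Y M p) :
    CohPull.pullMod h M p x = pullF h.base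
      (abMap h ((Scheme.Modules.pullbackPushforwardAdjunction h).unit.app M)) p x := rfl

lemma pullOn_eq (p : ℕ) (x : Coh.HHon Y F U p) :
    CohPull.pullOn g U U' e F p x = pullF (g.resLE U U' e).base (abMap _ (aOn g U U' e F)) p x := by
  refine Eq.trans ?_ (mapH_pullF _ _ (CohPull.pullOnIso g U U' e F).hom p x)
  rw [← pullMod_eq]
  rfl

lemma aOn_natural {G : Y.Modules} (ψ : F ⟶ G) :
    (Scheme.Modules.restrictFunctor U.ι).map ψ ≫ aOn g U U' e G =
      aOn g U U' e F ≫ (Scheme.Modules.pushforward (g.resLE U U' e)).map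
        ((Scheme.Modules.restrictFunctor U'.ι).map ((Scheme.Modules.pullback g).map ψ)) := by
  apply Scheme.Modules.hom_ext
  intro W
  refine AddCommGrpCat.ext fun s => ?_
  refine (aOn_app g U U' e G W (ψ.app (U.ι ''ᵁ W) s)).trans ?_
  refine Eq.trans ?_ (congrArg (((Scheme.Modules.pullback g).map ψ).app _) (aOn_app g U U' e F W s)).symm
  exact (map_res' g F (image_le_preimage_image g U U' e W) ψ s).symm

end PullOn

section Res

variable (F : Y.Modules) {U U' : Y.Opens} (e : U' ≤ U)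

lemma le_id (e : U' ≤ U) : U' ≤ (𝟙 Y) ⁻¹ᵁ U := by rwa [Scheme.Hom.id_preimage]

/-- The map underlying `CohPull.resLE`. -/
def aRes : F.restrict U.ι ⟶ (Scheme.Modules.pushforward ((𝟙 Y : Y ⟶ Y).resLE U U' (le_id e))).obj
    (F.restrict U'.ι) :=
  aOn (𝟙 Y) U U' (le_id e) F ≫ (Scheme.Modules.pushforward _).map
    ((Scheme.Modules.restrictFunctor U'.ι).map ((Scheme.Modules.pullbackId Y).hom.app F))

lemma resLE_eq (p : ℕ) (x : Coh.HHon Y F U p) :
    CohPull.resLE F e p x = pullF ((𝟙 Y : Y ⟶ Y).resLE U U' (le_id e)).base (abMap _ (aRes F e)) p x := by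
  refine Eq.trans ?_ (mapH_pullF _ (aOn (𝟙 Y) U U' (le_id e) F)
    ((Scheme.Modules.restrictFunctor U'.ι).map ((Scheme.Modules.pullbackId Y).hom.app F)) p x)
  rw [← pullOn_eq]
  rfl

lemma image_le_image (W : U.toScheme.Opens) :
    U'.ι ''ᵁ (((𝟙 Y : Y ⟶ Y).resLE U U' (le_id e)) ⁻¹ᵁ W) ≤ U.ι ''ᵁ W := by
  simpa using image_le_preimage_image (𝟙 Y) U U' (le_id e) W

lemma aRes_app (W : U.toScheme.Opens) (s : Γ(F, U.ι ''ᵁ W)) :
    (aRes F e).app W s = M1.mres F (image_le_image e W) s := by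
  refine Eq.trans ?_ (res'_id F (image_le_preimage_image (𝟙 Y) U U' (le_id e) W) s)
  exact congrArg (((Scheme.Modules.pullbackId Y).hom.app F).app _) (aOn_app (𝟙 Y) U U' (le_id e) F W s)

lemma aRes_natural {G : Y.Modules} (ψ : F ⟶ G) :
    (Scheme.Modules.restrictFunctor U.ι).map ψ ≫ aRes G e =
      aRes F e ≫ (Scheme.Modules.pushforward _).map ((Scheme.Modules.restrictFunctor U'.ι).map ψ) := by
  apply Scheme.Modules.hom_ext
  intro W
  refine AddCommGrpCat.ext fun s => ?_
  refine (aRes_app G e W (ψ.app (U.ι ''ᵁ W) s)).trans ?_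
  refine Eq.trans (M1.app_mres ψ (image_le_image e W) s).symm ?_
  exact congrArg (ψ.app _) (aRes_app F e W s).symm

end Res

end Groth.Agent.CBC10
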