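import Groth.Agent.Lib.CBC10.PullOn
import Groth.Agent.Lib.CohFound.RpushQCoh
import Groth.Agent.Lib.CohFound.ModFlasque
import Groth.Agent.Lib.CohFound.Rpush
import Groth.Prelude.Def_CohCmp
import Groth.Prelude.Def_KLin

/-!
# The comparison `H^p(f⁻¹V, F) → Γ(V, R^p f_* F)`

It is determined by its degree zero part; it commutes with restriction and with functions on the base, and is
locally surjective and locally injective.
-/

set_option autoImplicit false
set_option linter.style.haveILetI false
set_option linter.unusedSectionVars false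
set_option maxHeartbeats 1000000

universe u

open CategoryTheory CategoryTheory.Limits AlgebraicGeometry TopologicalSpace Opposite Abelian

noncomputable section

namespace Groth.Agent.CBC10

open CohFound in
attribute [-instance] abelianAb hasExtAb isGrothendieckAbelianAb enoughInjectivesAb

variable {X Y : Scheme.{u}}

lemma shortExact_toAbOn {S : ShortComplex X.Modules} (hS : S.ShortExact) (U : X.Opens) :
    (S.map (CohCmp.toAbOn X U)).ShortExact :=
  CohFound.shortExact_resEmb (CohFound.isOpenEmbedding_base U.ι) (CohFound.shortExact_abF hS)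

lemma subsingleton_HHon_injective (I : X.Modules) [Injective I] (U : X.Opens) (p : ℕ) :
    Subsingleton (Coh.HHon X I U (p + 1)) := by
  haveI := CohFound.isFlasque_abF_injective I
  exact (CohFound.nonempty_HHon_addEquiv I U (p + 1)).some.toEquiv.subsingleton_congr.2
    (CohFound.subsingleton_hc_of_isFlasque _ p U)

/-- An embedding into an injective module. -/
abbrev injM (F : X.Modules) : ShortComplex X.Modules :=
  ShortComplex.mk _ _ (cokernel.condition (Injective.ι F))

lemma injM_shortExact (F : X.Modules) : (injM F).ShortExact where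
  exact := ShortComplex.exact_of_g_is_cokernel _ (cokernelIsCokernel _)

lemma exists_extδ_eq (F : X.Modules) (U : X.Opens) (p : ℕ) (x : Coh.HHon X F U (p + 1)) :
    ∃ y, CohCmp.extδ (shortExact_toAbOn (injM_shortExact F) U) p y = x := by
  haveI : Injective (injM F).X₂ := inferInstanceAs (Injective (Injective.under F))
  exact Ext.covariant_sequence_exact₁ _ (shortExact_toAbOn (injM_shortExact F) U) x
    ((subsingleton_HHon_injective (injM F).X₂ U p).elim _ _) (n₀ := p) rfl

/-- Exact sequences of modules lift sections locally. -/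
lemma exists_lift_of_exact {S : ShortComplex X.Modules} (hS : S.Exact) {U : X.Opens} (s : Γ(S.X₂, U))
    (hs : S.g.app U s = 0) {x : X} (hx : x ∈ U) :
    ∃ (V : X.Opens) (h : V ≤ U), x ∈ V ∧ ∃ t : Γ(S.X₁, V), S.f.app V t = M1.mres S.X₂ h s := by
  obtain ⟨V, h, hxV, t, ht⟩ :=
    CohFound.exists_local_lift_of_exact (hS.map (CohFound.abF X)) (U := U) s hs hx
  exact ⟨V, h, hxV, t, ht⟩

variable (f : X ⟶ Y) [HasInjectiveResolutions X.Modules] {Δ : RDer.DerivedLES (Scheme.Modules.pushforward f)}

/-- A family on cohomology with values in sections of higher direct images, natural and commuting with the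
connecting maps. -/
structure IsFam (Δ : RDer.DerivedLES (Scheme.Modules.pushforward f)) (U : X.Opens) (W : Y.Opens)
    (α : ∀ (F : X.Modules) (p : ℕ), Coh.HHon X F U p →+ Γ((Coh.Rpush f p).obj F, W)) : Prop where
  natural : ∀ {F G : X.Modules} (ψ : F ⟶ G) (p : ℕ) (x : Coh.HHon X F U p),
    α G p (CohPull.mapH ((Scheme.Modules.restrictFunctor U.ι).map ψ) p x) = ((Coh.Rpush f p).map ψ).app W (α F p x)
  delta : ∀ (S : ShortComplex X.Modules) (hS : S.ShortExact) (hA : (S.map (CohCmp.toAbOn X U)).ShortExact)
    (p : ℕ) (x : Coh.HHon X S.X₃ U p),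
    α S.X₁ (p + 1) (CohCmp.extδ hA p x) = (Δ.δ S hS p (p + 1) rfl).app W (α S.X₃ p x)

variable {f}

theorem IsFam.ext {U : X.Opens} {W : Y.Opens}
    {α β : ∀ (F : X.Modules) (p : ℕ), Coh.HHon X F U p →+ Γ((Coh.Rpush f p).obj F, W)}
    (hα : IsFam f Δ U W α) (hβ : IsFam f Δ U W β)
    (h0 : ∀ (F : X.Modules) (s : Γ(F, U)), α F 0 (CohPull.sectH0 F U s) = β F 0 (CohPull.sectH0 F U s)) :
    ∀ (p : ℕ) (F : X.Modules) (x : Coh.HHon X F U p), α F p x = β F p x := by
  intro p
  induction p with
  | zero =>
    intro F x
    obtain ⟨s, rfl⟩ := (CohPull.sectH0 F U).surjective x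
    exact h0 F s
  | succ p ih =>
    intro F x
    obtain ⟨y, rfl⟩ := exists_extδ_eq F U p x
    exact (hα.delta _ (injM_shortExact F) _ p y).trans
      ((congrArg _ (ih _ y)).trans (hβ.delta _ (injM_shortExact F) _ p y).symm)

end Groth.Agent.CBC10
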