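import Groth.Agent.Lib.CBC10.SectRes

/-!
# The comparison commutes with restriction
-/

set_option autoImplicit false
set_option linter.style.haveILetI false
set_option linter.unusedSectionVars false
set_option maxHeartbeats 1000000

universe u

open CategoryTheory CategoryTheory.Limits AlgebraicGeometry TopologicalSpace Opposite Abelian

noncomputable section

namespace Groth.Agent.CBC10

open CohFound in
attribute [-instance] abelianAb hasExtAb isGrothendieckAbelianAb enoughInjectivesAb

variable {X Y : Scheme.{u}}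

variable {f : X ⟶ Y} [HasInjectiveResolutions X.Modules] {Δ : RDer.DerivedLES (Scheme.Modules.pushforward f)}

variable (E : CohCmp.SectCmp f Δ)

lemma isFam_ε (V : Y.Opens) : IsFam f Δ (f ⁻¹ᵁ V) V (E.ε V) := ⟨E.natural V, E.delta V⟩

/-- The comparison commutes with restriction. -/
theorem ε_resLE {V W : Y.Opens} (h : W ≤ V) (p : ℕ) (F : X.Modules) (x : Coh.HHon X F (f ⁻¹ᵁ V) p) :
    M1.mres ((Coh.Rpush f p).obj F) h (E.ε V F p x) =
      E.ε W F p (CohPull.resLE F (f.preimage_mono h) p x) := by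
  let α : ∀ (F : X.Modules) (p : ℕ), Coh.HHon X F (f ⁻¹ᵁ V) p →+ Γ((Coh.Rpush f p).obj F, W) := fun F p =>
    (M1.mres ((Coh.Rpush f p).obj F) h).hom.comp (E.ε V F p)
  let β : ∀ (F : X.Modules) (p : ℕ), Coh.HHon X F (f ⁻¹ᵁ V) p →+ Γ((Coh.Rpush f p).obj F, W) := fun F p =>
    (E.ε W F p).comp (CohPull.resLE F (f.preimage_mono h) p)
  refine IsFam.ext (α := α) (β := β) (Δ := Δ)
    ⟨fun ψ p x => ?_, fun S hS hA p x => ?_⟩ ⟨fun ψ p x => ?_, fun S hS hA p x => ?_⟩ (fun F s => ?_) p F x
  · exact (congrArg _ (E.natural V ψ p x)).trans (M1.app_mres _ h _).symm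
  · exact (congrArg _ (E.delta V S hS hA p x)).trans (M1.app_mres _ h _).symm
  · exact (congrArg (E.ε W _ p) (resLE_natural _ ψ p x)).trans (E.natural W ψ p _)
  · exact (congrArg (E.ε W _ (p + 1)) (resLE_delta _ hA (shortExact_toAbOn hS _) p x)).trans
      (E.delta W S hS (shortExact_toAbOn hS _) p _)
  · refine (congrArg _ (E.zero V F s)).trans (Eq.trans ?_ (congrArg (E.ε W F 0) (resLE_sectH0 _ F s)).symm)
    exact Eq.trans (M1.app_mres ((Scheme.Modules.pushforward f).toRightDerivedZero.app F) h s).symm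
      (E.zero W F _).symm

end Groth.Agent.CBC10
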