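import Groth.Agent.Lib.CBC10.SectEps

/-!
# The comparison is locally bijective
-/

set_option autoImplicit false
set_option linter.style.haveILetI false
set_option linter.unusedSectionVars false
set_option maxHeartbeats 1000000

universe u

open CategoryTheory CategoryTheory.Limits AlgebraicGeometry TopologicalSpace Opposite Abelian

noncomputable section

namespace Groth.Agent.CBC10

open CohFound in
attribute [-instance] abelianAb hasExtAb isGrothendieckAbelianAb enoughInjectivesAb

variable {X Y : Scheme.{u}}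

variable {f : X ⟶ Y} [HasInjectiveResolutions X.Modules] {Δ : RDer.DerivedLES (Scheme.Modules.pushforward f)}

variable (E : CohCmp.SectCmp f Δ)

instance isIso_toRightDerivedZero (F : X.Modules) :
    IsIso ((Scheme.Modules.pushforward f).toRightDerivedZero.app F) := by
  haveI : (Scheme.Modules.pushforward f).IsRightAdjoint :=
    (Scheme.Modules.pullbackPushforwardAdjunction f).isRightAdjoint
  infer_instance

theorem bijective_ε_zero (V : Y.Opens) (F : X.Modules) : Function.Bijective (E.ε V F 0) := by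
  have hb : Function.Bijective (((Scheme.Modules.pushforward f).toRightDerivedZero.app F).app V) :=
    ConcreteCategory.bijective_of_isIso _
  have h : (E.ε V F 0 : Coh.HHon X F (f ⁻¹ᵁ V) 0 → _) =
      (((Scheme.Modules.pushforward f).toRightDerivedZero.app F).app V) ∘ (CohPull.sectH0 F (f ⁻¹ᵁ V)).symm := by
    funext x
    obtain ⟨s, rfl⟩ := (CohPull.sectH0 F (f ⁻¹ᵁ V)).surjective x
    rw [E.zero, Function.comp_apply, AddEquiv.symm_apply_apply]
  rw [h]
  exact hb.comp (AddEquiv.bijective _)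

lemma isZero_rpush_injective (I : X.Modules) [Injective I] (p : ℕ) : IsZero ((Coh.Rpush f (p + 1)).obj I) :=
  (Scheme.Modules.pushforward f).isZero_rightDerived_obj_injective_succ p I

lemma eq_zero_of_isZero {M : Y.Modules} (hM : IsZero M) {V : Y.Opens} (s : Γ(M, V)) : s = 0 :=
  (congrArg (fun φ => φ.app V s) (hM.eq_of_src (𝟙 M) 0)).trans rfl

theorem locally_surjective_ε : ∀ (p : ℕ) (F : X.Modules) (V : Y.Opens) (t : Γ((Coh.Rpush f p).obj F, V))
    (y : Y), y ∈ V → ∃ (W : Y.Opens) (h : W ≤ V), y ∈ W ∧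
      ∃ x : Coh.HHon X F (f ⁻¹ᵁ W) p, E.ε W F p x = M1.mres _ h t
  | 0, F, V, t, y, hy => by
    obtain ⟨x, hx⟩ := (bijective_ε_zero E V F).2 t
    exact ⟨V, le_rfl, hy, x, hx.trans (M1.mres_id _ _ t).symm⟩
  | p + 1, F, V, t, y, hy => by
    have hS := injM_shortExact F
    haveI : Injective (injM F).X₂ := inferInstanceAs (Injective (Injective.under F))
    obtain ⟨W, h, hyW, t', ht'⟩ := exists_lift_of_exact (Δ.exact₁ _ hS p (p + 1) rfl) t
      (eq_zero_of_isZero (isZero_rpush_injective (injM F).X₂ p) _) hy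
    obtain ⟨W', h', hyW', x, hx⟩ := locally_surjective_ε p _ W t' y hyW
    refine ⟨W', h'.trans h, hyW', CohCmp.extδ (shortExact_toAbOn hS _) p x, ?_⟩
    refine (E.delta W' _ hS _ p x).trans ((congrArg _ hx).trans ?_)
    refine (M1.app_mres _ h' t').trans ((congrArg _ ht').trans ?_)
    exact M1.mres_mres _ _ _ _

theorem locally_zero_of_ε_eq_zero : ∀ (p : ℕ) (F : X.Modules) (V : Y.Opens) (x : Coh.HHon X F (f ⁻¹ᵁ V) p),
    E.ε V F p x = 0 → ∀ y, y ∈ V → ∃ (W : Y.Opens) (h : W ≤ V), y ∈ W ∧
      CohPull.resLE F (f.preimage_mono h) p x = 0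
  | 0, F, V, x, hx, y, hy => by
    refine ⟨V, le_rfl, hy, ?_⟩
    rw [(bijective_ε_zero E V F).1 (hx.trans (map_zero _).symm), map_zero]
  | p + 1, F, V, x, hx, y, hy => by
    have hS := injM_shortExact F
    haveI : Injective (injM F).X₂ := inferInstanceAs (Injective (Injective.under F))
    obtain ⟨z, rfl⟩ := exists_extδ_eq F (f ⁻¹ᵁ V) p x
    obtain ⟨W, h, hyW, t, ht⟩ := exists_lift_of_exact (Δ.exact₃ _ hS p (p + 1) rfl) (E.ε V _ p z)
      ((E.delta V _ hS _ p z).symm.trans hx) hy
    obtain ⟨W', h', hyW', w, hw⟩ := locally_surjective_ε E p _ W t y hyW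
    let z' := CohPull.resLE (injM F).X₃ (f.preimage_mono (h'.trans h)) p z -
      CohPull.mapH ((Scheme.Modules.restrictFunctor (f ⁻¹ᵁ W').ι).map (injM F).g) p w
    have hz' : E.ε W' _ p z' = 0 := by
      rw [map_sub, sub_eq_zero, ← ε_resLE, E.natural, hw]
      exact (M1.mres_mres _ h h' _).symm.trans
        ((congrArg _ ht).symm.trans (M1.app_mres _ h' t).symm)
    obtain ⟨W'', h'', hyW'', hzero⟩ := locally_zero_of_ε_eq_zero p _ W' z' hz' y hyW'
    refine ⟨W'', (h''.trans h').trans h, hyW'', ?_⟩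
    rw [resLE_delta _ _ (shortExact_toAbOn hS _)]
    have e1 : CohPull.resLE (injM F).X₃ (f.preimage_mono ((h''.trans h').trans h)) p z =
        CohPull.resLE (injM F).X₃ (f.preimage_mono h'') p
          (CohPull.resLE (injM F).X₃ (f.preimage_mono (h'.trans h)) p z) :=
      (resLE_resLE _ _ _ p z).symm
    rw [map_sub, sub_eq_zero, resLE_natural] at hzero
    rw [e1, hzero]
    refine (Ext.comp_assoc_of_second_deg_zero _ _ _ (rfl : p + 1 = p + 1)).trans ?_
    exact (congrArg (fun t => Ext.comp _ t rfl) (shortExact_toAbOn hS _).comp_extClass).trans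
      (Ext.comp_zero _ _ _ _ _)

end Groth.Agent.CBC10
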