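import Groth.Agent.Lib.CBC10.SectBase
import Groth.Agent.Lib.CBC10.CompMod

/-!
# Restriction of classes
-/

set_option autoImplicit false
set_option linter.style.haveILetI false
set_option linter.unusedSectionVars false
set_option maxHeartbeats 1000000

universe u

open CategoryTheory CategoryTheory.Limits AlgebraicGeometry TopologicalSpace Opposite Abelian

noncomputable section

namespace Groth.Agent.CBC10

open CohFound in
attribute [-instance] abelianAb hasExtAb isGrothendieckAbelianAb enoughInjectivesAb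

variable {X Y : Scheme.{u}}

section Restrict

variable {U U' : X.Opens} (e : U' ≤ U)

lemma resLE_natural {F G : X.Modules} (ψ : F ⟶ G) (p : ℕ) (x : Coh.HHon X F U p) :
    CohPull.resLE G e p (CohPull.mapH ((Scheme.Modules.restrictFunctor U.ι).map ψ) p x) =
      CohPull.mapH ((Scheme.Modules.restrictFunctor U'.ι).map ψ) p (CohPull.resLE F e p x) := by
  rw [resLE_eq, resLE_eq, mapH_pullF, ← aRes_natural]
  refine (pullF_map_left _ _ (abMap _ (aRes G e)) p x).trans ?_
  exact congrArg (fun t => pullF ((𝟙 X : X ⟶ X).resLE U U' (le_id e)).base t p x)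
    ((SheafOfModules.toSheaf _).map_comp _ _).symm

lemma resLE_delta {S : ShortComplex X.Modules} (hA : (S.map (CohCmp.toAbOn X U)).ShortExact)
    (hA' : (S.map (CohCmp.toAbOn X U')).ShortExact) (p : ℕ) (x : Coh.HHon X S.X₃ U p) :
    CohPull.resLE S.X₁ e (p + 1) (CohCmp.extδ hA p x) = CohCmp.extδ hA' p (CohPull.resLE S.X₃ e p x) := by
  rw [resLE_eq, resLE_eq]
  let k := ((𝟙 X : X ⟶ X).resLE U U' (le_id e)).base
  have hc : ∀ {F G : X.Modules} (ψ : F ⟶ G),
      abMap _ (aRes F e) ≫ (CohTop.push k).map ((CohCmp.toAbOn X U').map ψ) =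
        (CohCmp.toAbOn X U).map ψ ≫ abMap _ (aRes G e) := fun {F G} ψ =>
    ((SheafOfModules.toSheaf _).map_comp _ _).symm.trans
      ((congrArg (SheafOfModules.toSheaf _).map (aRes_natural F e ψ).symm).trans
        ((SheafOfModules.toSheaf _).map_comp _ _))
  let a : S.map (CohCmp.toAbOn X U) ⟶ (S.map (CohCmp.toAbOn X U')).map (CohTop.push k) :=
    { τ₁ := abMap _ (aRes S.X₁ e)
      τ₂ := abMap _ (aRes S.X₂ e)
      τ₃ := abMap _ (aRes S.X₃ e)
      comm₁₂ := hc S.f
      comm₂₃ := hc S.g }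
  exact pullF_delta k hA hA' a p x

lemma resLE_resLE {U'' : X.Opens} (e' : U'' ≤ U') (F : X.Modules) (p : ℕ) (x : Coh.HHon X F U p) :
    CohPull.resLE F e' p (CohPull.resLE F e p x) = CohPull.resLE F (e'.trans e) p x := by
  rw [resLE_eq, resLE_eq, resLE_eq]
  refine pullF_comp_mod _ _ ?_ (aRes F e) (aRes F e') (aRes F (e'.trans e)) ?_ p x
  · rw [← cancel_mono U.ι]
    simp
  · intro W V hV h₁ s
    refine (aRes_app F (e'.trans e) W s).trans ?_
    refine Eq.trans ?_ (congrArg (M1.mres (F.restrict U''.ι) h₁)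
      ((congrArg ((aRes F e').app _) (aRes_app F e W s)).trans (aRes_app F e' _ _))).symm
    exact ((congrArg (M1.mres (F.restrict U''.ι) h₁) (M1.mres_mres F _ _ s)).trans
      (M1.mres_mres F _ (Scheme.Hom.image_mono U''.ι h₁) s)).symm

lemma resLE_sectH0 (F : X.Modules) (s : Γ(F, U)) :
    CohPull.resLE F e 0 (CohPull.sectH0 F U s) = CohPull.sectH0 F U' (M1.mres F e s) := by
  rw [resLE_eq]
  apply (Sheaf.H.equiv₀ (Coh.toAb (F.restrict U'.ι)) isTerminalTop).injective
  refine (pullF_equiv₀ _ _ _).trans ?_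
  refine Eq.trans ?_ ((Sheaf.H.equiv₀ _ isTerminalTop).apply_symm_apply _).symm
  refine (congrArg ((aRes F e).app ⊤) ((Sheaf.H.equiv₀ _ isTerminalTop).apply_symm_apply _)).trans ?_
  refine (aRes_app F e ⊤ (M1.mres F (le_of_eq U.ι_image_top) s)).trans ?_
  exact (M1.mres_mres F _ _ s).trans (M1.mres_mres F e (le_of_eq U'.ι_image_top) s).symm

end Restrict

end Groth.Agent.CBC10
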